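import Cfsg.Agent.KZ.ClD.Sc
import Cfsg.Agent.KZ.Cl.Vec
import Cfsg.Agent.KZ.G2.Vec

/-!
# KZ, `²F₄` : general facts on series of labels (helper12)

`kill`, `bes`, `ip_ser`, `ser_zero`, `exists_ser`, `exists_stab`; `Pt f χ P y` : `y` is the part of `χ` for the labels in `P`.
-/

set_option autoImplicit false
set_option linter.unusedSectionVars false

namespace Cfsg.Agent.KZ.TF.Mix

open Cfsg Cfsg.Agent.DL Cfsg.Agent.DL.PP Cfsg.Agent.KZ.Lie Cfsg.Agent.Characters.Core Matrix Cfsg.Agent.KZ.ClD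
  Cfsg.Agent.KZ.Cl ComplexConjugate

section Abs

variable {H : Type} [Group H] [Fintype H]

theorem kill {χ : IrrCharacter H} {y z : H → ℂ} (hy : IsGeneralizedCharacter H y) (h1 : classInner y y = 1)
    (h2 : classInner y z = 0) (h3 : classInner χ.1 z ≠ 0) : classInner χ.1 y = 0 := by
  rcases isIrr_of_generalized hy h1 with h | h
  · exact classInner_irr_ne χ.2 h fun e => h3 (e ▸ h2)
  · rw [← neg_eq_zero, ← classInner_neg_right]
    exact classInner_irr_ne χ.2 h fun e => h3 (by rw [e, classInner_neg_left, h2, neg_zero])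

theorem bes {χ : IrrCharacter H} {ψ : H → ℂ} (h : classInner (χ.1 - ψ) ψ = 0) {x : ℝ} (hx : classInner χ.1 ψ = x) :
    x ≤ 1 := by
  have h1 := classInner_self_eq_ofReal (χ.1 - ψ)
  rw [classInner_sub_right, h, sub_zero, classInner_sub_left, classInner_irr_self χ.2, ← classInner_conj_symm, hx,
    Complex.conj_ofReal] at h1
  have h2 : 1 - x = (Nat.card H : ℝ)⁻¹ * ∑ g : H, Complex.normSq ((χ.1 - ψ) g) := by exact_mod_cast h1
  have h3 : 0 ≤ (Nat.card H : ℝ)⁻¹ * ∑ g : H, Complex.normSq ((χ.1 - ψ) g) :=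
    mul_nonneg (by positivity) (Finset.sum_nonneg fun g _ => Complex.normSq_nonneg _)
  linarith

theorem ip_symm {φ ψ : H → ℂ} (h : classInner φ ψ = 0) : classInner ψ φ = 0 := by
  rw [← classInner_conj_symm, h, map_zero]

end Abs

theorem odd_cancel {x : ℂˣ} {e : ℕ} (he : 0 < e) (h : x ^ 2 ^ e = x) {n : ℕ} (a : ℕ) (hx : x ^ (2 ^ a * n) = 1) :
    x ^ n = 1 := by
  have h1 : (x ^ n) ^ (2 ^ e - 1) = 1 := by
    rw [← pow_mul, mul_comm, pow_mul, show x ^ (2 ^ e - 1) = 1 from mul_right_cancel (b := x) (by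
      rw [← pow_succ, Nat.sub_add_cancel Nat.one_le_two_pow, h, one_mul]), one_pow]
  refine (pow_eq_one_iff_of_coprime (m := 2 ^ a) (n := 2 ^ e - 1) (Nat.Coprime.pow_left _ ?_)).1 ⟨by rwa [← pow_mul, mul_comm], h1⟩
  exact Nat.coprime_two_left.2 (Nat.Even.sub_odd (Nat.one_le_two_pow) (even_two.pow_of_ne_zero he.ne') odd_one)

theorem kil_comb {a b : ℂˣ} {x y x' y' : ℤ} (h : a ^ x * b ^ y = 1) (h' : a ^ x' * b ^ y' = 1) (s t : ℤ) :
    a ^ (x * s + x' * t) * b ^ (y * s + y' * t) = 1 := by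
  rw [_root_.zpow_add, _root_.zpow_add, mul_mul_mul_comm, _root_.zpow_mul, _root_.zpow_mul, _root_.zpow_mul, _root_.zpow_mul,
    ← mul_zpow, ← mul_zpow, h, h', _root_.one_zpow, _root_.one_zpow, one_mul]

theorem kil_det {a b : ℂˣ} {x y x' y' n : ℤ} (h : a ^ x * b ^ y = 1) (h' : a ^ x' * b ^ y' = 1) (h0 : x * y' - y * x' ≠ 0)
    (h1 : x * y' - y * x' ∣ n * y) (h2 : x * y' - y * x' ∣ n * y') : a ^ n = 1 := by
  obtain ⟨t, h1⟩ := h1
  obtain ⟨s, h2⟩ := h2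
  have h3 := kil_comb h h' s (-t)
  rwa [show x * s + x' * -t = n from mul_left_cancel₀ h0 (by linear_combination x' * h1 - x * h2),
    show y * s + y' * -t = 0 from mul_left_cancel₀ h0 (by linear_combination y' * h1 - y * h2), zpow_zero, mul_one] at h3

theorem exists_gen {a b : ℂˣ} {n : ℕ} (hn : n ≠ 0) (ha : a ^ n = 1) (hb : b ^ n = 1) :
    ∃ (ξ : ℂˣ) (i j : ℤ), a = ξ ^ i ∧ b = ξ ^ j := by
  have : NeZero n := ⟨hn⟩
  obtain ⟨g, hg⟩ := IsCyclic.exists_generator (α := rootsOfUnity n ℂ)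
  obtain ⟨i, hi⟩ := hg ⟨a, ha⟩
  obtain ⟨j, hj⟩ := hg ⟨b, hb⟩
  exact ⟨g, i, j, (congrArg Subtype.val hi).symm, (congrArg Subtype.val hj).symm⟩

variable {p : ℕ} [Fact p.Prime] {k : Type} [Field k] [CharP k p] {Y : Type} [Group Y] {N : Type} [Fintype N]
  [DecidableEq N] {ρ : Y →* GL N k} {F : MulAut Y} {G : Subgroup Y} [IsAlgClosed k] {D : Datum p ρ F G}
  {w₁ u v w w' : D.W} {c c' : Lbl D}

theorem exists_rel (v : D.W) (c : Lbl D) : ∃ c', Rel D v c c' :=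
  ⟨mon (D.Wm v⁻¹)ᵀ c, by simpa using Rel.symm (u := v⁻¹) (tr_mon (D.Wm v⁻¹) c)⟩

theorem tc_eq (h : Tc D v w w') : w' = v * w * (D.Fw v)⁻¹ := eq_mul_inv_of_mul_eq h

theorem fx_tc (h : Fx D w c) (h1 : Tc D v w w') (h2 : Rel D v c c') : Fx D w' c' := tc_eq h1 ▸ h.rel h2

theorem mem_of_fx (h : Fx D w₁ c) (h' : Fx D w c) : w * w₁⁻¹ ∈ Wc D c :=
  let ⟨_, _, L⟩ := exists_lvl D
  h.div h' L

theorem tau_mem (h : Fx D w₁ c) (hv : v ∈ Wc D c) : tau D w₁ v ∈ Wc D c := by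
  have h1 := mul_mem hv (mem_of_fx h (h.rel (inv_mem hv)))
  rwa [map_inv, inv_inv, mul_assoc, mul_assoc, mul_inv_cancel_left, ← mul_assoc] at h1

theorem dot_of_fix {a : D.I → ℤ} (ha : D.Rt a) {y : D.R → ℤ} : D.Wm (D.rf a) *ᵥ y = y ↔ D.wt a ⬝ᵥ y = 0 := by
  rw [D.Wm_rf ha, sub_mulVec, one_mulVec, vecMulVec_mulVec, sub_eq_self]
  refine ⟨fun h => ?_, fun h => by rw [h, MulOpposite.op_zero, zero_smul]⟩
  have h3 := congrArg (D.wt a ⬝ᵥ ·) h
  have h4 : D.wt a ⬝ᵥ D.cor a = 2 := (D.pair_cor ha a).trans (Nodes.Coroot.cpr_self _ _ ha)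
  simp only [op_smul_eq_smul, dotProduct_smul, h4, dotProduct_zero, smul_eq_mul] at h3
  omega

theorem dot_cor {a : D.I → ℤ} (ha : D.Rt a) {x : D.R → ℤ} (h2 : x ᵥ* D.Wm (D.rf a) = x) : x ⬝ᵥ D.cor a = 0 := by
  rw [D.Wm_rf ha, vecMul_sub, vecMul_one, vecMul_vecMulVec, sub_eq_self] at h2
  have h3 := congrArg (· ⬝ᵥ D.cor a) h2
  have h4 : D.wt a ⬝ᵥ D.cor a = 2 := (D.pair_cor ha a).trans (Nodes.Coroot.cpr_self _ _ ha)
  simp only [smul_dotProduct, h4, zero_dotProduct, smul_eq_mul] at h3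
  omega

theorem stab_of {a : D.I → ℤ} (ha : D.Rt a) {y y' : D.R → ℤ} (h : D.wt a ⬝ᵥ y = 0) {n : ℤ}
    (h1 : (D.Wm w * D.Mx) *ᵥ y = n • y') (hn : n ≠ 0) : D.wt (D.act w (D.g a)) ⬝ᵥ y' = 0 := by
  have h2 := congrArg (· ⬝ᵥ y) (wt_gw w ha)
  simp only [← dotProduct_mulVec, h1, dotProduct_smul, smul_dotProduct, h, smul_eq_mul, mul_zero] at h2
  exact (mul_eq_zero.1 h2).resolve_left hn

theorem odd_fx (hp : p = 2) (h : Fx D w c) {y : D.R → ℤ} {n : ℕ} (a : ℕ) (hx : chr y c ^ (2 ^ a * n) = 1) : chr y c ^ n = 1 := by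
  obtain ⟨d, e, L⟩ := exists_lvl D
  exact odd_cancel L.e_pos (hp ▸ h.pow L y) a hx

theorem pow_fx (h : Fx D w c) : ∃ n ≠ 0, ∀ y, chr y c ^ n = 1 := by
  obtain ⟨d, e, L⟩ := exists_lvl D
  have h1 : 1 < p ^ e := Nat.one_lt_pow L.e_pos.ne' (Fact.out : p.Prime).one_lt
  exact ⟨p ^ e - 1, by omega, fun y => mul_right_cancel (b := chr y c) (by
    rw [← pow_succ, Nat.sub_add_cancel h1.le, h.pow L y, one_mul])⟩

theorem exists_prime (hv : v ≠ 1) : ∃ (n q : ℕ), q.Prime ∧ q ∣ Nat.card D.W ∧ v ^ n ≠ 1 ∧ (v ^ n) ^ q = 1 := by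
  obtain ⟨q, h1, n, h2⟩ := Nat.exists_prime_and_dvd (mt orderOf_eq_one_iff.1 hv)
  have h3 : 0 < orderOf v := orderOf_pos v
  have h4 : n ≠ 0 := fun e => by simp [e, h3.ne'] at h2
  refine ⟨n, q, h1, (Dvd.intro _ h2.symm).trans (orderOf_dvd_natCard v), pow_ne_one_of_lt_orderOf h4 ?_, ?_⟩
  · rw [h2]
    exact lt_mul_of_one_lt_left (Nat.pos_of_ne_zero h4) h1.one_lt
  · rw [← pow_mul, mul_comm, ← h2, pow_orderOf_eq_one]

variable {f : Fr D} [Fintype ↥(GF F G)] {φ : D.W → ℂ}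

theorem exists_ser (h : Fx D w₁ c) (h1 : Rel D v c c') (h2 : Fx D w c') : ∃ u ∈ Wc D c, RW f w c' = RW f (u * w₁) c := by
  have h3 : Tc D v⁻¹ w (v⁻¹ * w * D.Fw v) := by simp [Tc]
  exact ⟨_, mem_of_fx h (fx_tc h2 h3 h1.symm), by rw [inv_mul_cancel_right, RW_conj f h3 h1.symm]⟩

theorem ip_ser (h : Fx D w₁ c) (hφ : ∀ v u u', Tc D v (u * w₁) (u' * w₁) → φ u = φ u') (hu : u ∈ Wc D c) :
    classInner (avg f (Wc D c) φ w₁ c) (RW f (u * w₁) c) = φ u := by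
  have := Fintype.ofFinite (Wc D c)
  have h1 : ∀ v : Wc D c, (v : D.W)⁻¹ * u * tau D w₁ v ∈ Wc D c := fun v =>
    mul_mem (mul_mem (inv_mem v.2) hu) (tau_mem h v.2)
  have h2 := sum_fib (fun v : Wc D c => (⟨_, h1 v⟩ : Wc D c)) fun x => φ x
  rw [Finset.sum_congr rfl fun (v : Wc D c) _ => hφ v _ u (tc_iff'.2 (by group)), Finset.sum_const, Finset.card_univ,
    nsmul_eq_mul, ← Nat.card_eq_fintype_card] at h2
  rw [ClD.ip_avg, inv_mul_eq_iff_eq_mul₀ (card_ne _), h2, finsum_eq_sum_of_fintype]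
  refine Finset.sum_congr rfl fun x _ => ?_
  rw [RW_ip f (h.mul x.2) (h.mul hu), mul_comm]
  congr 2
  refine Nat.card_congr ⟨fun v => ⟨⟨v.1, v.2.2⟩, Subtype.ext ?_⟩, fun v => ⟨v.1, tc_iff'.2 ?_, v.1.2⟩, fun _ => rfl, fun _ => rfl⟩
  · show (v : D.W)⁻¹ * u * tau D w₁ v = x
    rw [mul_assoc, tc_iff'.1 v.2.1, inv_mul_cancel_left]
  · have h3 : (v.1 : D.W)⁻¹ * u * tau D w₁ v.1 = x := congrArg Subtype.val v.2
    rw [← h3, mul_assoc, mul_inv_cancel_left]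

theorem ip_ser_ne (U : Subgroup D.W) (hn : ∀ v, ¬ Rel D v c c') (w : D.W) :
    classInner (avg f U φ w₁ c) (RW f w c') = 0 := by
  have : ∀ u : U, classInner (RW f (u * w₁) c) (RW f w c') = 0 := fun u =>
    by_contra fun h => let ⟨_, _, v, _, h3⟩ := rel_of_ne h; hn v h3
  simp [ClD.ip_avg, this]

theorem not_rel_one (hc : c ≠ 1) (v : D.W) : ¬ Rel D v c 1 := fun h => hc (eq_one_of_rel h.symm)

theorem ser_zero {χ : IrrCharacter ↥(GF F G)} (hχ : classInner χ.1 (RW f w 1) ≠ 0) (h : Fx D w₁ c) (hc : c ≠ 1)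
    (hφ : ∀ v u u', Tc D v (u * w₁) (u' * w₁) → φ u = φ u') (h1 : ∀ u, conj (φ u) * φ u = 1)
    (hg : IsGeneralizedCharacter ↥(GF F G) (avg f (Wc D c) φ w₁ c)) :
    classInner χ.1 (avg f (Wc D c) φ w₁ c) = 0 :=
  kill hg (by
    conv_lhs => rw [ClD.ip_avg']
    rw [finsum_congr fun u : Wc D c => by rw [ip_ser h hφ u.2, h1], finsum_const, mul_one, inv_mul_cancel₀ (card_ne _)])
    (ip_ser_ne _ (not_rel_one hc) w) hχ

theorem exists_stab {χ : IrrCharacter ↥(GF F G)} (hχ : classInner χ.1 (RW f w 1) ≠ 0) (hc : c ≠ 1)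
    (h : classInner χ.1 (RW f u c) ≠ 0) : Fx D u c ∧ ∃ v ≠ 1, v ∈ CW D u ∧ Rel D v c c := by
  have h1 : Fx D u c := by_contra fun h1 => h (by rw [RW_zero f h1, classInner_zero_right])
  refine ⟨h1, by_contra fun h2 => h (kill (RW_gen f u c) ?_ (by_contra fun h3 => ?_) hχ)⟩
  · rw [RW_ip f h1 h1, Nat.cast_eq_one, Nat.card_eq_one_iff_exists]
    exact ⟨⟨1, tc_one u, rel_one D c⟩, fun v => Subtype.ext (by_contra fun h3 => h2 ⟨v, h3, v.2⟩)⟩
  · obtain ⟨-, -, v, -, h4⟩ := rel_of_ne h3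
    exact not_rel_one hc v h4

/-! ### parts -/

variable (f) in
/-- `y` is the part of `χ` for the labels in `P` -/
structure Pt (χ : ↥(GF F G) → ℂ) (P : Lbl D → Prop) (y : ↥(GF F G) → ℂ) : Prop where
  sp : ∀ z, (∀ u c, P c → classInner z (RW f u c) = 0) → classInner z y = 0
  out : ∀ u c, ¬ P c → classInner y (RW f u c) = 0
  ins : ∀ u c, P c → classInner y (RW f u c) = classInner χ (RW f u c)

variable {χ y y' : ↥(GF F G) → ℂ} {P P' : Lbl D → Prop}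

theorem Pt.add (h : Pt f χ P y) (h' : Pt f χ P' y') (hd : ∀ c, P c → ¬ P' c) : Pt f χ (fun c => P c ∨ P' c) (y + y') where
  sp z hz := by
    rw [classInner_add_right, h.sp z fun u c e => hz u c (.inl e), h'.sp z fun u c e => hz u c (.inr e), add_zero]
  out u c e := by rw [classInner_add_left, h.out u c fun e' => e (.inl e'), h'.out u c fun e' => e (.inr e'), add_zero]
  ins u c e := by
    rw [classInner_add_left]
    rcases e with e | e
    · rw [h.ins u c e, h'.out u c (hd c e), add_zero]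
    · rw [h'.ins u c e, h.out u c fun e' => hd c e' e, zero_add]

theorem Pt.mono (h : Pt f χ P y) (h1 : ∀ c, P c → P' c) (h2 : ∀ u c, P' c → ¬ P c → classInner χ (RW f u c) = 0) :
    Pt f χ P' y where
  sp z hz := h.sp z fun u c e => hz u c (h1 c e)
  out u c e := h.out u c fun e' => e (h1 c e')
  ins u c e := by
    by_cases e' : P c
    · exact h.ins u c e'
    · rw [h.out u c e', h2 u c e e']

theorem Pt.bes {χ : IrrCharacter ↥(GF F G)} (h : Pt f χ.1 P y) {x : ℝ} (hx : classInner χ.1 y = x) : x ≤ 1 :=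
  Mix.bes (h.sp _ fun u c e => by rw [classInner_sub_left, h.ins u c e, sub_self]) hx

theorem Pt.deg (hA : Api f) (h : Pt f χ P y) (hP : ∀ c, P c) : χ 1 = y 1 := by
  rw [hA.val_one χ, hA.val_one y]
  simp only [h.ins _ _ (hP _)]

theorem pt_zero (h : ∀ u c, P c → classInner χ (RW f u c) = 0) : Pt f χ P 0 :=
  ⟨fun z _ => classInner_zero_right z, fun _ _ _ => classInner_zero_left _, fun u c e => by rw [h u c e, classInner_zero_left]⟩

theorem pt_fam {ι : Type} [Fintype ι] [DecidableEq ι] {w : ι → D.W} {s : ι → Lbl D} {n : ι → ℕ} {m : ι → ℤ}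
    (hP : ∀ v c c', Rel D v c c' → P c → P c') (hs : ∀ i, P (s i)) (hn : ∀ i, n i ≠ 0)
    (ip : ∀ i i', classInner (RW f (w i) (s i)) (RW f (w i') (s i')) = if i = i' then (n i : ℂ) else 0)
    (all : ∀ u c, P c → Fx D u c → ∃ i, RW f u c = RW f (w i) (s i)) (hm : ∀ i, classInner χ (RW f (w i) (s i)) = m i) :
    Pt f χ P (∑ i, ((m i : ℂ) / n i) • RW f (w i) (s i)) ∧
      classInner χ (∑ i, ((m i : ℂ) / n i) • RW f (w i) (s i)) = ∑ i, (m i : ℂ) ^ 2 / n i := by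
  refine ⟨⟨fun z hz => ?_, fun u c e => ?_, fun u c e => ?_⟩, ?_⟩
  · simp only [classInner_sum_right, classInner_smul_right, hz _ _ (hs _), mul_zero, Finset.sum_const_zero]
  · have : ∀ i, classInner (RW f (w i) (s i)) (RW f u c) = 0 := fun i => by_contra fun h =>
      let ⟨_, _, v, _, h3⟩ := rel_of_ne h
      e (hP v _ _ h3 (hs i))
    simp only [classInner_sum_left, classInner_smul_left, this, mul_zero, Finset.sum_const_zero]
  · by_cases h : Fx D u c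
    · obtain ⟨i, h1⟩ := all u c e h
      simp only [h1, hm, classInner_sum_left, classInner_smul_left, ip, mul_ite, mul_zero, Finset.sum_ite_eq', Finset.mem_univ,
        if_true]
      exact div_mul_cancel₀ _ (Nat.cast_ne_zero.2 (hn i))
    · rw [RW_zero f h, classInner_zero_right, classInner_zero_right]
  · simp only [classInner_sum_right, classInner_smul_right, hm, map_div₀, map_intCast, map_natCast]
    exact Finset.sum_congr rfl fun i _ => by ring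

theorem pt_ser (h : Fx D w₁ c) (hφ : ∀ v u u', Tc D v (u * w₁) (u' * w₁) → φ u = φ u') {j : ℂ}
    (hj : ∀ u ∈ Wc D c, classInner χ (RW f (u * w₁) c) = j * φ u) :
    Pt f χ (fun c' => ∃ v, Rel D v c c') (j • avg f (Wc D c) φ w₁ c) where
  sp z hz := by simp only [classInner_smul_right, ClD.ip_avg', hz _ _ ⟨1, rel_one D c⟩, mul_zero, finsum_zero]
  out u c' e := by rw [classInner_smul_left, ip_ser_ne _ fun v hv => e ⟨v, hv⟩, mul_zero]
  ins u c' := by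
    rintro ⟨v, hv⟩
    by_cases h1 : Fx D u c'
    · obtain ⟨x, h2, h3⟩ := exists_ser (f := f) h hv h1
      rw [h3, classInner_smul_left, ip_ser h hφ h2, hj x h2]
    · rw [RW_zero f h1, classInner_zero_right, classInner_zero_right]

end Cfsg.Agent.KZ.TF.Mix
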