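import Cfsg.Agent.KZ.DatX.Weyl

/-!
# KZ, the upper bound for `²F₄(Q)`, `Q = 2 r ^ 2`, `r = 2 ^ m`: the interface (helper27)

Plan: `notes/KZ/plan.md`, section 13.  The eleven tori, in this order:
`A = (Q-1)²`, `B = Q²-1`, `C₊`, `C₋ = (Q-1)(Q ± 2r + 1)`, `D = (Q+1)²`, `F₊`, `F₋ = (Q ± 2r + 1)²`, `G = Q²+1`,
`E = Q²-Q+1`, `H₊`, `H₋`.

* `BoxFlt` : arithmetic, the list of the possible multiplicity vectors;
* `BoxRw` : the multiplicity vector of an irreducible character is a candidate;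
* `BoxT` (`BoxTa`, `BoxTb`) : the two class functions supported on `z * (unipotent elements of C(z))`.
-/

set_option autoImplicit false
set_option linter.unusedSectionVars false

namespace Cfsg.Agent.KZ.TF

open Cfsg Cfsg.Agent.DL Cfsg.Agent.DL.PP Cfsg.Agent.DL.Uni Cfsg.Agent.Nodes.Reps Cfsg.Agent.KZ.Lie Cfsg.Agent.KZ.DatX Matrix

/-! ### arithmetic -/

/-- the orders of the relative Weyl groups -/
def nC : Fin 11 → ℕ := ![16, 4, 8, 8, 48, 96, 96, 16, 6, 12, 12]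

/-- `96 / nC` -/
def wC : Fin 11 → ℤ := ![6, 24, 12, 12, 2, 1, 1, 6, 16, 8, 8]

/-- the signs -/
def sG : Fin 11 → ℤ := ![1, -1, -1, -1, 1, 1, 1, 1, 1, 1, 1]

/-- the tori with labels of order three: `B`, `D`, `E` -/
def iS : Fin 3 → Fin 11 := ![1, 4, 8]

/-- the norms of the characters with labels of order three -/
def nS : Fin 3 → ℕ := ![2, 6, 3]

/-- the seven factors `Q - 1`, `Q + 1`, `Q + 2 r + 1`, `Q - 2 r + 1`, `Q² - Q + 1`, and the two factors of `Q⁴ - Q² + 1` -/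
def fac (r : ℤ) : Fin 7 → ℤ :=
  ![2 * r ^ 2 - 1, 2 * r ^ 2 + 1, 2 * r ^ 2 + 2 * r + 1, 2 * r ^ 2 - 2 * r + 1, 4 * r ^ 4 - 2 * r ^ 2 + 1,
    4 * r ^ 4 + 4 * r ^ 3 + 2 * r ^ 2 + 2 * r + 1, 4 * r ^ 4 - 4 * r ^ 3 + 2 * r ^ 2 - 2 * r + 1]

/-- the exponents of the factors in the odd part of the order of the group -/
def exG : Fin 7 → ℕ := ![2, 2, 2, 2, 1, 1, 1]

/-- the exponents of the factors in the orders of the tori -/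
def exT : Fin 11 → Fin 7 → ℕ :=
  ![![2, 0, 0, 0, 0, 0, 0], ![1, 1, 0, 0, 0, 0, 0], ![1, 0, 1, 0, 0, 0, 0], ![1, 0, 0, 1, 0, 0, 0], ![0, 2, 0, 0, 0, 0, 0],
    ![0, 0, 2, 0, 0, 0, 0], ![0, 0, 0, 2, 0, 0, 0], ![0, 0, 1, 1, 0, 0, 0], ![0, 0, 0, 0, 1, 0, 0], ![0, 0, 0, 0, 0, 1, 0],
    ![0, 0, 0, 0, 0, 0, 1]]

/-- the odd part of the order of the group -/
def oG (r : ℤ) : ℤ := ∏ a, fac r a ^ exG a

/-- the orders of the tori -/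
def oT (r : ℤ) (i : Fin 11) : ℤ := ∏ a, fac r a ^ exT i a

/-- the degrees of the Deligne-Lusztig characters -/
def dG (r : ℤ) (i : Fin 11) : ℤ := sG i * ∏ a, fac r a ^ (exG a - exT i a)

/-- `m` : the multiplicities for the trivial label, `t` : for the labels of order three, `j` : the part in one of the three kinds of
series with a dual Levi subgroup of type `²B₂` -/
structure Cand (m : Fin 11 → ℤ) (t j : Fin 3 → ℤ) : Prop where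
  one : ∑ i, wC i * m i = 0
  st : ∑ i, wC i * sG i * m i = 0
  l1 : 2 ∣ m 0 + m 1
  l4 : 2 ∣ m 1 + m 4
  s1 : 4 ∣ 2 * m 0 + m 2 + m 3
  sa : 4 ∣ 2 * m 2 + m 5 + m 7
  sb : 4 ∣ 2 * m 3 + m 7 + m 6
  ls : 2 ∣ t 0 + t 1
  bes : ∑ i, wC i * m i ^ 2 + (48 * t 0 ^ 2 + 16 * t 1 ^ 2 + 32 * t 2 ^ 2) + 48 * (j 0 ^ 2 + j 1 ^ 2 + j 2 ^ 2) ≤ 96

/-- `96` times the degree -/
def deg96 (r : ℤ) (m : Fin 11 → ℤ) (t j : Fin 3 → ℤ) : ℤ :=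
  ∑ i, wC i * m i * dG r i + (48 * t 0 * dG r 1 + 16 * t 1 * dG r 4 + 32 * t 2 * dG r 8) +
    24 * (j 0 * (dG r 2 - dG r 3) + j 1 * (dG r 5 - dG r 7) + j 2 * (dG r 7 - dG r 6))

/-- the nine types: `e₁ e₂ ρ₆ ρ₂ M II III IV IV'` -/
def ty : Fin 9 → Fin 11 → ℤ :=
  ![![1, -1, 1, 1, -3, 3, 3, -1, 0, 0, 0], ![1, 1, -1, -1, -3, 3, 3, -1, 0, 0, 0], ![2, 0, 0, 0, -6, 0, 0, 0, 0, 0, 0],
    ![2, 0, 0, 0, 2, 0, 0, 0, -1, 0, 0], ![0, 0, 0, 0, -2, -3, -3, -1, 1, 0, 0], ![0, 0, 0, 0, -2, -4, 0, 0, 0, 1, 0],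
    ![0, 0, 0, 0, -2, 0, -4, 0, 0, 0, 1], ![0, 0, 0, 0, 4, 2, 2, -2, 0, 0, 0], ![0, 0, 0, 0, 2, 1, 1, -1, 0, 0, 0]]

/-- the filter; the second alternative occurs for `k = 1` only -/
def BoxFlt : Prop :=
  ∀ k : ℕ, 1 ≤ k → ∀ (m : Fin 11 → ℤ) (t j : Fin 3 → ℤ) (δ : ℤ) (n : ℕ), Cand m t j → m 4 ≠ 0 → 0 < δ →
    96 * δ = deg96 (2 ^ k) m t j → δ ∣ 2 ^ n * oG (2 ^ k) →
    (t = 0 ∧ j = 0 ∧ ∃ a, m = ty a) ∨ (t 1 = 2 ∧ (m 4 = 2 ∨ m 4 = -2))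

/-! ### the characters -/

section Chr

variable {p : ℕ} [Fact p.Prime] {k : Type} [Field k] [CharP k p] {Y : Type} [Group Y] {N : Type} [Fintype N]
  [DecidableEq N] {ρ : Y →* GL N k} {F : MulAut Y} {G : Subgroup Y} [IsAlgClosed k] {D : Datum p ρ F G}
  (f : Fr D) [Fintype ↥(GF F G)]

/-- the Steinberg character -/
noncomputable def stF : ↥(GF F G) → ℂ := avg f ⊤ (sg D) 1 1

/-- The output of the box `BoxRw`. -/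
structure Rw (r : ℤ) where
  w : Fin 11 → D.W
  s : Fin 3 → Lbl D
  cls : ∀ u, ∃ i v, Tc D v u (w i)
  ord : ∀ i, (ordT D (w i) : ℤ) = oT r i
  cw : ∀ i, Nat.card (CW D (w i)) = nC i
  card : ∃ n : ℕ, (Nat.card ↥(GF F G) : ℤ) = 2 ^ n * oG r
  s_fx : ∀ a, Fx D (w (iS a)) (s a)
  s_pow : ∀ a, s a ^ 3 = 1
  s_ne : ∀ a, s a ≠ 1
  ip1 : ∀ i i', classInner (RW f (w i) 1) (RW f (w i') 1) = if i = i' then (nC i : ℂ) else 0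
  ips : ∀ a a', classInner (RW f (w (iS a)) (s a)) (RW f (w (iS a')) (s a')) = if a = a' then (nS a : ℂ) else 0
  ip1s : ∀ i a, classInner (RW f (w i) 1) (RW f (w (iS a)) (s a)) = 0
  one : ∀ i, classInner (fun _ => 1) (RW f (w i) 1) = 1
  st : ∀ i, classInner (stF f) (RW f (w i) 1) = sG i
  half : IsGeneralizedCharacter ↥(GF F G) fun g => 2⁻¹ * (RW f (w 1) (s 0) g + RW f (w 4) (s 1) g)
  mem : ∀ M, IsPModular 3 M → ∀ (χ : IrrCharacter ↥(GF F G)) (a b : ℤ),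
    classInner (χ : ↥(GF F G) → ℂ) (RW f (w 4) 1) = a → classInner (χ : ↥(GF F G) → ℂ) (RW f (w 4) (s 1)) = b →
    (Mem M χ ↔ ¬ 3 ∣ a - b)
  row : ∀ χ : IrrCharacter ↥(GF F G), (χ : ↥(GF F G) → ℂ) ≠ (fun _ => 1) → (χ : ↥(GF F G) → ℂ) ≠ stF f →
    classInner (χ : ↥(GF F G) → ℂ) (RW f (w 4) 1) ≠ 0 →
    ∃ (m : Fin 11 → ℤ) (t j : Fin 3 → ℤ), Cand m t j ∧
      (∀ i, classInner (χ : ↥(GF F G) → ℂ) (RW f (w i) 1) = m i) ∧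
      (∀ a, classInner (χ : ↥(GF F G) → ℂ) (RW f (w (iS a)) (s a)) = t a) ∧
      96 * (χ : ↥(GF F G) → ℂ) 1 = deg96 r m t j ∧
      (t = 0 → j = 0 → ∀ u c, c ≠ 1 → classInner (χ : ↥(GF F G) → ℂ) (RW f u c) = 0)

/-- The output of the box `BoxT`. -/
structure Tb (w₀ : D.W) where
  Ξ : ↥(GF F G) → ℂ
  Ξ' : ↥(GF F G) → ℂ
  cls : ∀ g h, Ξ (h * g * h⁻¹) = Ξ g
  cls' : ∀ g h, Ξ' (h * g * h⁻¹) = Ξ' g
  int : ∀ χ : IrrCharacter ↥(GF F G), ∃ a b : ℤ, classInner (χ : ↥(GF F G) → ℂ) Ξ = a ∧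
    classInner (χ : ↥(GF F G) → ℂ) Ξ' = b ∧ 3 ∣ a - b
  norm : classInner Ξ' Ξ' = 9
  orth : ∀ u, classInner (RW f u 1) Ξ' = 0
  unif : ∀ φ : ↥(GF F G) → ℂ, (∀ g h, φ (h * g * h⁻¹) = φ g) → (∀ u c, classInner φ (RW f u c) = 0) → classInner φ Ξ = 0
  val : classInner (RW f w₀ 1) Ξ = 24 ∨ classInner (RW f w₀ 1) Ξ = -24
  zero : ∀ u, ¬ 3 ∣ ordT D u → classInner (RW f u 1) Ξ = 0

end Chr

/-- the multiplicity vectors -/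
def BoxRw : Prop :=
  ∀ (m : ℕ), 1 ≤ m → ∀ (k : Type) [Field k] [CharP k 2] [IsAlgClosed k] (X : XF hpF4 2 k ((2 : ℤ) ^ m • GamF)) (f : Fr X.D)
    [Fintype ↥(GF X.F ⊤)], Api f → Nonempty (Rw f (2 ^ m))

/-- the two class functions -/
def BoxT : Prop :=
  ∀ (m : ℕ), 1 ≤ m → ∀ (k : Type) [Field k] [CharP k 2] [IsAlgClosed k] (X : XF hpF4 2 k ((2 : ℤ) ^ m • GamF)) (f : Fr X.D)
    [Fintype ↥(GF X.F ⊤)], Api f → ∀ w₀, ordT X.D w₀ = (2 ^ (2 * m + 1) + 1) ^ 2 → Nonempty (Tb f w₀)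

/-! ### the centraliser of an element of order three -/

/-- The centraliser `C` of the element `z` of order `3` looks like `SU₃(Q)`. -/
structure L3 {Γ : Type} [Group Γ] (H : Subgroup Γ) (A : Set (Subgroup Γ)) (R : Subgroup Γ → (Γ → ℂ) →ₗ[ℂ] (Γ → ℂ))
    (Q : ℕ) (T₀ : Subgroup Γ) where
  z : Γ
  z_mem : z ∈ H
  z_ord : orderOf z = 3
  C : Subgroup Γ
  RC : Subgroup Γ → (Γ → ℂ) →ₗ[ℂ] (Γ → ℂ)
  St : Γ → ℂ
  cent : Cent 2 H A R z C RC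
  st : StD 2 C {T | T ∈ A ∧ z ∈ T} RC St
  full : ∀ g ∈ H, g * z = z * g → g ∈ C
  card : Nat.card C = Q ^ 3 * ((Q ^ 3 + 1) * (Q ^ 2 - 1))
  /-- the three classes of tori: `T 0` is conjugate to `T₀` -/
  T : Fin 3 → Subgroup Γ
  T_mem : ∀ i, T i ∈ A ∧ z ∈ T i
  T_zero : ∃ h ∈ H, T 0 = cj h T₀
  T_card : ∀ i, Nat.card ↥(T i ⊓ H) = ![(Q + 1) ^ 2, Q ^ 2 - 1, Q ^ 2 - Q + 1] i
  T_norm : ∀ i, Nat.card {c : C // cj (c : Γ) (T i) = T i} = ![6, 2, 3] i * Nat.card ↥(T i ⊓ H)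
  T_all : ∀ S ∈ A, z ∈ S → ∃ i, ∃ c ∈ C, S = cj c (T i)
  /-- the conjugates of `z` in the first torus -/
  T_eight : Nat.card {t : ↥(T 0 ⊓ H) // ∃ h ∈ H, h * z * h⁻¹ = t} = 8
  /-- the Sylow `2`-subgroup -/
  U : Subgroup Γ
  U_le : U ≤ C
  U_card : Nat.card U = Q ^ 3
  K : Type
  [fld : Field K]
  [fin : Fintype K]
  K_card : Fintype.card K = Q ^ 2
  π : U →* Multiplicative K
  π_surj : Function.Surjective π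
  a : ↥(T 1 ⊓ H) →* Kˣ
  a_ker : Nat.card a.ker = 3
  a_conj : ∀ (t : ↥(T 1 ⊓ H)) (u : U), ∃ u' : U, (u' : Γ) = t * u * (t : Γ)⁻¹ ∧ (π u').toAdd = a t * (π u).toAdd
  bruhat : ∀ g ∈ C, (∃ u ∈ U, ∃ t ∈ T 1 ⊓ H, g = u * t) ∨ U ⊓ cj g U = ⊥
  τ : Γ
  τ_mem : τ ∈ H
  τ_z : τ * z * τ⁻¹ = z⁻¹
  κ : Kˣ
  τ_conj : ∀ u : U, ∃ u' : U, (u' : Γ) = τ * u * τ⁻¹ ∧ (π u').toAdd = κ * (π u).toAdd ^ Q

/-- the group theoretic half of `BoxT` -/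
def BoxTa : Prop :=
  ∀ (m : ℕ), 1 ≤ m → ∀ (k : Type) [Field k] [CharP k 2] [IsAlgClosed k] (X : XF hpF4 2 k ((2 : ℤ) ^ m • GamF)),
    ∀ w₀, ordT X.D w₀ = (2 ^ (2 * m + 1) + 1) ^ 2 →
      Nonempty (L3 (GF X.F ⊤) (Asm.tori X.D) (Asm.R X.D) (2 ^ (2 * m + 1)) (Tw X.D w₀))

/-- the character theoretic half of `BoxT` -/
def BoxTb : Prop := BoxTa → BoxT

end Cfsg.Agent.KZ.TF
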