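import Cfsg.Agent.KZ.TF.FltB
import Cfsg.Agent.KZ.TF.Iface

/-!
# KZ, `²F₄`: the arithmetic filter `boxFlt` (helper8)
-/

set_option autoImplicit false
set_option maxRecDepth 100000

namespace Cfsg.Agent.KZ.TF

namespace Flt

/-! ### soundness -/

theorem ev_25 (r : ℤ) : ev r (List.replicate 25 0) = 0 := by
  simp only [List.replicate, ev_cons, ev_nil, zero_mul, add_zero]

theorem dG_eq (r : ℤ) (i : Fin 11) : dG r i = sG i * ((2 * r ^ 2 - 1) ^ (2 - exT i 0) * (2 * r ^ 2 + 1) ^ (2 - exT i 1) *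
    (2 * r ^ 2 + 2 * r + 1) ^ (2 - exT i 2) * (2 * r ^ 2 - 2 * r + 1) ^ (2 - exT i 3) * (4 * r ^ 4 - 2 * r ^ 2 + 1) ^ (1 - exT i 4) *
    (4 * r ^ 4 + 4 * r ^ 3 + 2 * r ^ 2 + 2 * r + 1) ^ (1 - exT i 5) *
    (4 * r ^ 4 - 4 * r ^ 3 + 2 * r ^ 2 - 2 * r + 1) ^ (1 - exT i 6)) :=
  congrArg (sG i * ·) (Fin.prod_univ_seven _)

theorem ev_D0 (r : ℤ) : ev r D0 = dG r 0 := by
  rw [dG_eq]
  show ev r [4096, 0, 2048, 0, 1024, 0, 1024, 0, 256, 0, 128, 0, 128, 0, 32, 0, 16, 0, 16, 0, 4, 0, 2, 0, 1] =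
    1 * (_ ^ 0 * _ ^ 2 * _ ^ 2 * _ ^ 2 * _ ^ 1 * _ ^ 1 * _ ^ 1)
  simp only [ev_cons, ev_nil, List.length_cons, List.length_nil]
  ring

theorem ev_D1 (r : ℤ) : ev r D1 = dG r 1 := by
  rw [dG_eq]
  show ev r [-4096, 0, 2048, 0, -1024, 0, 0, 0, 256, 0, -128, 0, 0, 0, 32, 0, -16, 0, 0, 0, 4, 0, -2, 0, 1] =
    -1 * (_ ^ 1 * _ ^ 1 * _ ^ 2 * _ ^ 2 * _ ^ 1 * _ ^ 1 * _ ^ 1)
  simp only [ev_cons, ev_nil, List.length_cons, List.length_nil]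
  ring

theorem ev_D2 (r : ℤ) : ev r D2 = dG r 2 := by
  rw [dG_eq]
  show ev r [-4096, 4096, -2048, 0, 1024, -1024, 0, 512, -256, 0, 128, -128, 0, 64, -32, 0, 16, -16, 0, 8, -4, 0, 2, -2, 1] =
    -1 * (_ ^ 1 * _ ^ 2 * _ ^ 1 * _ ^ 2 * _ ^ 1 * _ ^ 1 * _ ^ 1)
  simp only [ev_cons, ev_nil, List.length_cons, List.length_nil]
  ring

theorem ev_D3 (r : ℤ) : ev r D3 = dG r 3 := by
  rw [dG_eq]
  show ev r [-4096, -4096, -2048, 0, 1024, 1024, 0, -512, -256, 0, 128, 128, 0, -64, -32, 0, 16, 16, 0, -8, -4, 0, 2, 2, 1] =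
    -1 * (_ ^ 1 * _ ^ 2 * _ ^ 2 * _ ^ 1 * _ ^ 1 * _ ^ 1 * _ ^ 1)
  simp only [ev_cons, ev_nil, List.length_cons, List.length_nil]
  ring

theorem ev_D4 (r : ℤ) : ev r D4 = dG r 4 := by
  rw [dG_eq]
  show ev r [4096, 0, -6144, 0, 5120, 0, -3072, 0, 1280, 0, -384, 0, 128, 0, -96, 0, 80, 0, -48, 0, 20, 0, -6, 0, 1] =
    1 * (_ ^ 2 * _ ^ 0 * _ ^ 2 * _ ^ 2 * _ ^ 1 * _ ^ 1 * _ ^ 1)
  simp only [ev_cons, ev_nil, List.length_cons, List.length_nil]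
  ring

theorem ev_D5 (r : ℤ) : ev r D5 = dG r 5 := by
  rw [dG_eq]
  show ev r [4096, -8192, 6144, 0, -5120, 6144, -3072, -1024, 2816, -2048, 384, 768, -896, 384, 96, -256, 176, -32, -48, 48, -20, 0, 6, -4, 1] =
    1 * (_ ^ 2 * _ ^ 2 * _ ^ 0 * _ ^ 2 * _ ^ 1 * _ ^ 1 * _ ^ 1)
  simp only [ev_cons, ev_nil, List.length_cons, List.length_nil]
  ring

theorem ev_D6 (r : ℤ) : ev r D6 = dG r 6 := by
  rw [dG_eq]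
  show ev r [4096, 8192, 6144, 0, -5120, -6144, -3072, 1024, 2816, 2048, 384, -768, -896, -384, 96, 256, 176, 32, -48, -48, -20, 0, 6, 4, 1] =
    1 * (_ ^ 2 * _ ^ 2 * _ ^ 2 * _ ^ 0 * _ ^ 1 * _ ^ 1 * _ ^ 1)
  simp only [ev_cons, ev_nil, List.length_cons, List.length_nil]
  ring

theorem ev_D7 (r : ℤ) : ev r D7 = dG r 7 := by
  rw [dG_eq]
  show ev r [4096, 0, -2048, 0, -1024, 0, 1024, 0, -256, 0, -128, 0, 128, 0, -32, 0, -16, 0, 16, 0, -4, 0, -2, 0, 1] =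
    1 * (_ ^ 2 * _ ^ 2 * _ ^ 1 * _ ^ 1 * _ ^ 1 * _ ^ 1 * _ ^ 1)
  simp only [ev_cons, ev_nil, List.length_cons, List.length_nil]
  ring

theorem ev_D8 (r : ℤ) : ev r D8 = dG r 8 := by
  rw [dG_eq]
  show ev r [4096, 0, 0, 0, -1024, 0, 0, 0, -256, 0, 0, 0, 128, 0, 0, 0, -16, 0, 0, 0, -4, 0, 0, 0, 1] =
    1 * (_ ^ 2 * _ ^ 2 * _ ^ 2 * _ ^ 2 * _ ^ 0 * _ ^ 1 * _ ^ 1)
  simp only [ev_cons, ev_nil, List.length_cons, List.length_nil]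
  ring

theorem ev_D9 (r : ℤ) : ev r D9 = dG r 9 := by
  rw [dG_eq]
  show ev r [4096, -4096, 0, 0, 1024, 0, 0, -512, -256, 512, 0, 0, -128, 0, 0, 64, -16, -16, 0, 0, 4, 0, 0, -2, 1] =
    1 * (_ ^ 2 * _ ^ 2 * _ ^ 2 * _ ^ 2 * _ ^ 1 * _ ^ 0 * _ ^ 1)
  simp only [ev_cons, ev_nil, List.length_cons, List.length_nil]
  ring

theorem ev_D10 (r : ℤ) : ev r D10 = dG r 10 := by
  rw [dG_eq]
  show ev r [4096, 4096, 0, 0, 1024, 0, 0, 512, -256, -512, 0, 0, -128, 0, 0, -64, -16, 16, 0, 0, 4, 0, 0, 2, 1] =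
    1 * (_ ^ 2 * _ ^ 2 * _ ^ 2 * _ ^ 2 * _ ^ 1 * _ ^ 1 * _ ^ 0)
  simp only [ev_cons, ev_nil, List.length_cons, List.length_nil]
  ring

theorem ev_G3 (r : ℤ) : ev r G3 = 3 * oG r := by
  have e : oG r = (2 * r ^ 2 - 1) ^ 2 * (2 * r ^ 2 + 1) ^ 2 * (2 * r ^ 2 + 2 * r + 1) ^ 2 * (2 * r ^ 2 - 2 * r + 1) ^ 2 *
    (4 * r ^ 4 - 2 * r ^ 2 + 1) ^ 1 * (4 * r ^ 4 + 4 * r ^ 3 + 2 * r ^ 2 + 2 * r + 1) ^ 1 *
    (4 * r ^ 4 - 4 * r ^ 3 + 2 * r ^ 2 - 2 * r + 1) ^ 1 := Fin.prod_univ_seven _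
  rw [e]
  show ev r [49152, 0, -24576, 0, 0, 0, 6144, 0, -6144, 0, 1536, 0, 768, 0, -768, 0, 192, 0, 96, 0, -96, 0, 24, 0, 0, 0, -6, 0, 3] = _
  simp only [ev_cons, ev_nil, List.length_cons, List.length_nil]
  ring

theorem sum11 (f : Fin 11 → ℤ) : ∑ i, f i = f 0 + f 1 + f 2 + f 3 + f 4 + f 5 + f 6 + f 7 + f 8 + f 9 + f 10 := by
  simp only [Fin.sum_univ_succ, Fin.sum_univ_zero]
  show f 0 + (f 1 + (f 2 + (f 3 + (f 4 + (f 5 + (f 6 + (f 7 + (f 8 + (f 9 + (f 10 + 0)))))))))) = _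
  ring

theorem bad_of {k n : ℕ} {δ : ℤ} {a : List ℤ} (h0 : 0 < δ) (h1 : 96 * δ = ev (2 ^ k) a) (h2 : δ ∣ 2 ^ n * oG (2 ^ k)) :
    Bad (st (dz a)) k := by
  obtain ⟨s, -, h3⟩ := ev_st (2 ^ k) (dz a)
  rw [ev_dz, ← h1] at h3
  have h4 : 0 < ev (2 ^ k) (st (dz a)) := (mul_pos_iff_of_pos_left (by positivity)).1 (h3 ▸ mul_pos (by norm_num) h0)
  obtain ⟨x, hx⟩ := Int.eq_ofNat_of_zero_le h4.le
  obtain ⟨b, o, ho, e⟩ := Nat.exists_eq_two_pow_mul_odd (n := x) (by omega)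
  have h5 : ev (2 ^ k) (st (dz a)) = 2 ^ b * (o : ℤ) := by rw [hx, e]; push_cast; rfl
  refine ⟨h4, b, o, by exact_mod_cast ho, h5, ?_⟩
  have h6 : (o : ℤ) ∣ 2 ^ (n + 5) * ev (2 ^ k) G3 := by
    have h7 : (o : ℤ) ∣ 96 * δ := by
      rw [h3, h5]
      exact (dvd_mul_left _ _).mul_left _
    refine h7.trans ?_
    rw [ev_G3, show 2 ^ (n + 5) * (3 * oG (2 ^ k)) = 96 * (2 ^ n * oG (2 ^ k)) by ring]
    exact mul_dvd_mul_left _ h2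
  exact (Int.isCoprime_two_right.2 (by exact_mod_cast ho)).pow_right.dvd_of_dvd_mul_left h6

theorem or_mod {x n : ℤ} {c : Bool} (h : (!(x % n == 0) || c) = true) (hx : n ∣ x) : c = true := by
  rwa [Int.emod_eq_zero_of_dvd hx] at h

theorem ty_of {m : Fin 11 → ℤ} (h : [m 0, m 1, m 2, m 3, m 4, m 5, m 6, m 7, m 8, m 9, m 10] ∈ tyL) : ∃ a, m = ty a := by
  have h1 : tyL = List.ofFn fun a => List.ofFn (ty a) := by decide +kernel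
  rw [h1, List.mem_ofFn] at h
  obtain ⟨a, ha⟩ := h
  exact ⟨a, List.ofFn_injective ha.symm⟩

/-- the weighted sum of squares -/
noncomputable def qq (l : List (ℕ × ℤ)) : ℤ := List.rec 0 (fun x _ ih => x.1 * x.2 ^ 2 + ih) l

theorem qq_nonneg (l : List (ℕ × ℤ)) : 0 ≤ qq l := by
  induction l with
  | nil => exact le_rfl
  | cons x l ih => exact add_nonneg (by positivity) ih

theorem al_q {w b : ℕ} {f : ℤ → ℕ → Bool} (h : al w b f = true) {z : ℤ} {l : List (ℕ × ℤ)} (hs : qq ((w, z) :: l) ≤ b) :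
    ∃ c : ℕ, qq l ≤ c ∧ f z c = true := al_spec h z (qq_nonneg l) hs

theorem dt_q {w b : ℕ} {z : ℤ} {f : ℤ → ℕ → Bool} (h : dt w b z f = true) {l : List (ℕ × ℤ)} (hs : qq ((w, z) :: l) ≤ b) :
    ∃ c : ℕ, qq l ≤ c ∧ f z c = true := dt_spec h (qq_nonneg l) hs

end Flt

open Flt in
/-- **the filter** -/
theorem boxFlt : BoxFlt := by
  intro k hk m t j δ n hc h4 h0 hd hδ
  have e1 : 6 * m 0 + 24 * m 1 + 12 * m 2 + 12 * m 3 + 2 * m 4 + 1 * m 5 + 1 * m 6 + 6 * m 7 + 16 * m 8 + 8 * m 9 + 8 * m 10 = 0 :=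
    (sum11 fun i => wC i * m i).symm.trans hc.one
  have e2 : 6 * 1 * m 0 + 24 * -1 * m 1 + 12 * -1 * m 2 + 12 * -1 * m 3 + 2 * 1 * m 4 + 1 * 1 * m 5 + 1 * 1 * m 6 + 6 * 1 * m 7 +
      16 * 1 * m 8 + 8 * 1 * m 9 + 8 * 1 * m 10 = 0 := (sum11 fun i => wC i * sG i * m i).symm.trans hc.st
  have e3 : ∑ i, wC i * m i ^ 2 = 6 * m 0 ^ 2 + 24 * m 1 ^ 2 + 12 * m 2 ^ 2 + 12 * m 3 ^ 2 + 2 * m 4 ^ 2 + 1 * m 5 ^ 2 +
      1 * m 6 ^ 2 + 6 * m 7 ^ 2 + 16 * m 8 ^ 2 + 8 * m 9 ^ 2 + 8 * m 10 ^ 2 := sum11 _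
  have e4 : ∑ i, wC i * m i * dG (2 ^ k) i = 6 * m 0 * dG (2 ^ k) 0 + 24 * m 1 * dG (2 ^ k) 1 + 12 * m 2 * dG (2 ^ k) 2 +
      12 * m 3 * dG (2 ^ k) 3 + 2 * m 4 * dG (2 ^ k) 4 + 1 * m 5 * dG (2 ^ k) 5 + 1 * m 6 * dG (2 ^ k) 6 +
      6 * m 7 * dG (2 ^ k) 7 + 16 * m 8 * dG (2 ^ k) 8 + 8 * m 9 * dG (2 ^ k) 9 + 8 * m 10 * dG (2 ^ k) 10 := sum11 _
  have hb := hc.bes
  rw [e3] at hb
  obtain ⟨n', i, hi, c, hc0, h⟩ := one_true (s := qq [(24, m 1), (6, m 0), (12, m 2), (12, m 3), (6, m 7), (1, m 5), (1, m 6), (16, m 8), (8, m 9), (8, m 10), (48, t 0), (16, t 1), (32, t 2), (48, j 0), (48, j 1), (48, j 2)]) h4 (qq_nonneg _) (by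
    show 2 * m 4 ^ 2 + (24 * m 1 ^ 2 + (6 * m 0 ^ 2 + (12 * m 2 ^ 2 + (12 * m 3 ^ 2 + (6 * m 7 ^ 2 + (1 * m 5 ^ 2 + (1 * m 6 ^ 2 + (16 * m 8 ^ 2 + (8 * m 9 ^ 2 + (8 * m 10 ^ 2 + (48 * t 0 ^ 2 + (16 * t 1 ^ 2 + (32 * t 2 ^ 2 + (48 * j 0 ^ 2 + (48 * j 1 ^ 2 + (48 * j 2 ^ 2 + 0)))))))))))))))) ≤ 96
    linarith only [hb]) (m 5 + 2 * m 6)
  obtain ⟨c, hc0, h⟩ := al_q h hc0
  replace h := or_mod h hc.l4
  obtain ⟨c, hc0, h⟩ := al_q h hc0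
  replace h := or_mod h hc.l1
  obtain ⟨c, hc0, h⟩ := al_q h hc0
  rw [show -2 * m 1 - m 2 = m 3 by omega] at h
  obtain ⟨c, hc0, h⟩ := dt_q h hc0
  replace h := or_mod h hc.s1
  obtain ⟨c, hc0, h⟩ := al_q h hc0
  obtain ⟨c, hc0, h⟩ := al_q h hc0
  replace h := or_mod h hc.sa
  obtain ⟨c, hc0, h⟩ := al_q h hc0
  rw [Bool.or_assoc, Bool.or_assoc] at h
  replace h := or_mod (or_mod (or_mod h hc.sb) (by omega)) hi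
  rw [fI_eq] at h
  obtain ⟨c, hc0, h⟩ := al_q h hc0
  obtain ⟨c, hc0, h⟩ := al_q h hc0
  rw [show -((6 * m 0 + 2 * m 4 + m 5 + m 6 + 6 * m 7) / 8) - 2 * m 8 - m 9 = m 10 by omega] at h
  obtain ⟨c, hc0, h⟩ := dt_q h hc0
  obtain ⟨c, hc0, h⟩ := al_q h hc0
  obtain ⟨c, hc0, h⟩ := al_q h hc0
  replace h := or_mod h hc.ls
  obtain ⟨c, hc0, h⟩ := al_q h hc0
  obtain ⟨c, hc0, h⟩ := al_q h hc0
  obtain ⟨c, hc0, h⟩ := al_q h hc0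
  obtain ⟨c, hc0, h⟩ := al_q h hc0
  unfold leaf at h
  rw [Bool.or_eq_true, Bool.or_eq_true] at h
  rcases h with (h | h) | h
  · simp only [Bool.and_eq_true, Bool.or_eq_true, beq_iff_eq] at h
    exact Or.inr h
  · rw [Bool.and_eq_true, beq_iff_eq, List.elem_iff] at h
    simp only [List.cons.injEq, and_true] at h
    obtain ⟨⟨a0, a1, a2, b0, b1, b2⟩, h⟩ := h
    refine Or.inl ⟨funext fun i => ?_, funext fun i => ?_, ty_of h⟩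
    · fin_cases i
      exacts [a0, a1, a2]
    · fin_cases i
      exacts [b0, b1, b2]
  exfalso
  obtain ⟨a0, h, l0, v0⟩ := ad_spec h rfl rfl
  obtain ⟨a1, h, l1, v1⟩ := ad_spec h l0 rfl
  obtain ⟨a2, h, l2, v2⟩ := ad_spec h l1 rfl
  obtain ⟨a3, h, l3, v3⟩ := ad_spec h l2 rfl
  obtain ⟨a4, h, l4, v4⟩ := ad_spec h l3 rfl
  obtain ⟨a5, h, l5, v5⟩ := ad_spec h l4 rfl
  obtain ⟨a6, h, l6, v6⟩ := ad_spec h l5 rfl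
  obtain ⟨a7, h, l7, v7⟩ := ad_spec h l6 rfl
  obtain ⟨a8, h, l8, v8⟩ := ad_spec h l7 rfl
  obtain ⟨a9, h, l9, v9⟩ := ad_spec h l8 rfl
  obtain ⟨a10, h, l10, v10⟩ := ad_spec h l9 rfl
  rw [fL_eq] at h
  refine chk_spec h hk (bad_of h0 ?_ hδ)
  rw [hd, v10, v9, v8, v7, v6, v5, v4, v3, v2, v1, v0, ev_25, ev_D0, ev_D1, ev_D2, ev_D3, ev_D4, ev_D5, ev_D6, ev_D7, ev_D8, ev_D9,
    ev_D10]
  show ∑ i, wC i * m i * dG (2 ^ k) i + _ + _ = _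
  rw [e4]
  ring

end Cfsg.Agent.KZ.TF
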