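import Cfsg.Agent.KZ.TF.FinV
import Cfsg.Agent.KZ.G2.Chr
import Cfsg.Agent.KZ.Red.U

/-!
# KZ, `²F₄(Q)`: at most nine members (helper27)

`Rw.disj`: a constituent of the character of the torus `D` with the trivial label does not occur in the character with the label of
order three; `Rw.k0_le`: at most nine members; `k0_le`, `disj`: the same from the three boxes.
-/

set_option autoImplicit false
set_option linter.unusedSectionVars false

namespace Cfsg.Agent.KZ.TF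

open Cfsg Cfsg.Agent.DL Cfsg.Agent.DL.PP Cfsg.Agent.DL.Uni Cfsg.Agent.Nodes.Reps Cfsg.Agent.KZ.Lie Cfsg.Agent.KZ.DatX
  Cfsg.Agent.KZ.G2 Cfsg.Agent.Characters.Core Finset

theorem not_three_dvd_oT (k : ℕ) (i : Fin 11) (h1 : i ≠ 1) (h4 : i ≠ 4) (h8 : i ≠ 8) : ¬ 3 ∣ oT (2 ^ k) i := by
  obtain ⟨r, hr⟩ : ∃ r : ℤ, r = 2 ^ k := ⟨_, rfl⟩
  have h : ¬ (3 : ℤ) ∣ r := fun h => by
    have := Int.prime_three.dvd_of_dvd_pow (hr ▸ h)
    omega
  rw [← hr]
  have h' : ((r : ℤ) : ZMod 3) ≠ 0 := fun e => h ((ZMod.intCast_zmod_eq_zero_iff_dvd r 3).1 e)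
  intro hd
  have h2 := (ZMod.intCast_zmod_eq_zero_iff_dvd _ 3).2 hd
  revert h2
  fin_cases i <;> first | exact absurd rfl h1 | exact absurd rfl h4 | exact absurd rfl h8 | skip
  all_goals
    simp only [oT, Fin.prod_univ_succ, Fin.prod_univ_zero]
    simp [fac, exT]
    generalize (r : ZMod 3) = x at h'
    revert x
    decide

theorem oT_four (k : ℕ) : oT (2 ^ k) 4 = (2 ^ (2 * k + 1) + 1) ^ 2 := by
  simp only [oT, Fin.prod_univ_succ, Fin.prod_univ_zero]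
  simp [fac, exT]
  ring

theorem nC_wC (i : Fin 11) : (nC i : ℂ) * (wC i : ℂ) = 96 := by
  fin_cases i <;> simp [nC, wC] <;> norm_num

section Chr

variable {p : ℕ} [Fact p.Prime] {k : Type} [Field k] [CharP k p] {Y : Type} [Group Y] {N : Type} [Fintype N]
  [DecidableEq N] {ρ : Y →* GL N k} {F : MulAut Y} {G : Subgroup Y} [IsAlgClosed k] {D : Datum p ρ F G}
  {f : Fr D} [Fintype ↥(GF F G)]

namespace Rw

variable {r : ℤ} (R : Rw f r) (hA : Api f)

/-- the uniform part with trivial label -/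
noncomputable def prj (m : Fin 11 → ℤ) : ↥(GF F G) → ℂ := ∑ i, ((wC i * m i : ℤ) / 96 : ℂ) • RW f (R.w i) 1

theorem ip_prj (m : Fin 11 → ℤ) (ψ : ↥(GF F G) → ℂ) :
    classInner (R.prj m) ψ = ∑ i, ((wC i * m i : ℤ) / 96 : ℂ) * classInner (RW f (R.w i) 1) ψ := by
  rw [prj, classInner_sum_left]
  simp only [classInner_smul_left]

theorem prj_RW (m : Fin 11 → ℤ) (i : Fin 11) : classInner (R.prj m) (RW f (R.w i) 1) = m i := by
  rw [ip_prj]
  simp only [R.ip1, mul_ite, mul_zero, sum_ite_eq', mem_univ, if_true]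
  have := nC_wC i
  push_cast
  linear_combination (m i : ℂ) / 96 * this

include hA

theorem prj_cls (m : Fin 11 → ℤ) (g h : ↥(GF F G)) : R.prj m (h * g * h⁻¹) = R.prj m g := by
  simp only [prj, Finset.sum_apply, Pi.smul_apply, gen_cls (hA.gen _ _) g h]

theorem sub_orth {χ : ↥(GF F G) → ℂ} {m : Fin 11 → ℤ} (h : ∀ i, classInner χ (RW f (R.w i) 1) = m i) (u : D.W) :
    classInner (χ - R.prj m) (RW f u 1) = 0 := by
  obtain ⟨i, v, hv⟩ := R.cls u
  rw [hA.conj _ _ _ _ _ hv (rel_oo v), classInner_sub_left, h, prj_RW, sub_self]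

/-- uniform characters -/
theorem eq_prj {χ : ↥(GF F G) → ℂ} (hχ : IsIrrCharacter _ χ) {m : Fin 11 → ℤ}
    (h : ∀ i, classInner χ (RW f (R.w i) 1) = m i) (hn : ∑ i, wC i * m i ^ 2 = 96) : χ = R.prj m := by
  have h1 : classInner (R.prj m) (χ - R.prj m) = 0 := by
    rw [ip_prj]
    exact sum_eq_zero fun i _ => by rw [← classInner_conj_symm, R.sub_orth hA h, map_zero, mul_zero]
  have h2 : classInner (R.prj m) χ = 1 := by
    rw [ip_prj, sum_congr rfl fun i _ => by rw [← classInner_conj_symm, h, map_intCast]]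
    have h3 : ((∑ i, wC i * m i ^ 2 : ℤ) : ℂ) = 96 := by rw [hn]; norm_num
    rw [← div_self (show (96 : ℂ) ≠ 0 by norm_num)]
    nth_rw 2 [← h3]
    rw [Int.cast_sum, sum_div]
    exact sum_congr rfl fun i _ => by push_cast; ring
  refine sub_eq_zero.1 (classInner_self_eq_zero ?_)
  rw [classInner_sub_left, h1, classInner_sub_right, classInner_irr_self hχ, ← classInner_conj_symm, h2, map_one]
  ring

end Rw

variable {m : ℕ} (hm : 1 ≤ m) (R : Rw f (2 ^ m)) (hA : Api f) (hF : BoxFlt)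

include hm hA hF

theorem Rw.flt (χ : IrrCharacter ↥(GF F G)) (h1 : (χ : ↥(GF F G) → ℂ) ≠ fun _ => 1) (h2 : (χ : ↥(GF F G) → ℂ) ≠ stF f)
    (h3 : mu (RW f (R.w 4) 1) χ ≠ 0) :
    (mu (RW f (R.w 4) (R.s 1)) χ = 0 ∧ (∃ a, (fun i => mu (RW f (R.w i) 1) χ) = ty a) ∧
      ∀ u c, c ≠ 1 → classInner (χ : ↥(GF F G) → ℂ) (RW f u c) = 0) ∨
    (mu (RW f (R.w 4) (R.s 1)) χ = 2 ∧ mu (RW f (R.w 4) 1) χ ^ 2 = 4) := by
  obtain ⟨v, t, j, hc, e1, e2, e3, e4⟩ := R.row χ h1 h2 (by rw [mu_spec (hA.gen _ _)]; exact_mod_cast h3)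
  have e5 : (fun i => mu (RW f (R.w i) 1) χ) = v := funext fun i => mu_eq (e1 i)
  have e6 : mu (RW f (R.w 4) (R.s 1)) χ = t 1 := mu_eq (e2 1)
  obtain ⟨d, hd, e7⟩ := isIrr_apply_one χ.2
  obtain ⟨n, hn⟩ := R.card
  have h4 := Res.deg_dvd_card χ
  rw [charDegree, e7, Complex.natCast_re, Nat.floor_natCast] at h4
  have h5 : v 4 = mu (RW f (R.w 4) 1) χ := (congrFun e5 4).symm
  rcases hF m hm v t j d n hc (h5 ▸ h3) (by exact_mod_cast hd) (by rw [e7] at e3; exact_mod_cast e3)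
    (by rw [← hn]; exact_mod_cast h4) with ⟨a1, a2, a3⟩ | ⟨a1, a2⟩
  · exact .inl ⟨by rw [e6, a1]; rfl, e5 ▸ a3, e4 a1 a2⟩
  · exact .inr ⟨e6.trans a1, by rw [← h5]; rcases a2 with e | e <;> rw [e] <;> rfl⟩

omit hm hF in
theorem Rw.mu_zero (χ : IrrCharacter ↥(GF F G)) (h : (χ : ↥(GF F G) → ℂ) = (fun _ => 1) ∨ (χ : ↥(GF F G) → ℂ) = stF f) :
    mu (RW f (R.w 4) (R.s 1)) χ = 0 := by
  refine mu_eq ?_
  rcases h with e | e <;> rw [e]
  · rw [← hA.one]; exact ip_avg_ne hA _ _ (R.s_ne 1)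
  · exact ip_avg_ne hA _ _ (R.s_ne 1)

theorem Rw.disj' (χ : IrrCharacter ↥(GF F G)) (h : mu (RW f (R.w 4) 1) χ ≠ 0) : mu (RW f (R.w 4) (R.s 1)) χ = 0 := by
  classical
  have := finite_irr (G := ↥(GF F G))
  have := Fintype.ofFinite (IrrCharacter ↥(GF F G))
  have h0 : ∀ ψ : IrrCharacter ↥(GF F G), mu (RW f (R.w 4) 1) ψ ≠ 0 → mu (RW f (R.w 4) (R.s 1)) ψ ≠ 0 →
      mu (RW f (R.w 4) (R.s 1)) ψ = 2 := fun ψ h1 h2 => by
    rcases R.flt hm hA hF ψ (fun e => h2 (R.mu_zero hA ψ (.inl e))) (fun e => h2 (R.mu_zero hA ψ (.inr e))) h1 with e | e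
    · exact absurd e.1 h2
    · exact e.1
  by_contra h1
  have h2 : ∑ ψ, mu (RW f (R.w 4) (R.s 1)) ψ ^ 2 = (6 : ℕ) := sum_mu_sq (hA.gen _ _) (by simpa [nS, iS] using R.ips 1 1)
  have h3 : ∑ ψ, mu (RW f (R.w 4) 1) ψ * mu (RW f (R.w 4) (R.s 1)) ψ = (0 : ℕ) :=
    sum_mu (hA.gen _ _) (hA.gen _ _) (by rw [Nat.cast_zero]; exact R.ip1s 4 1)
  rw [sum_eq_single χ (fun ψ _ hψ => ?_) fun e => absurd (mem_univ χ) e] at h3
  · exact mul_ne_zero h h1 h3
  · by_contra h4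
    have h5 := sum_le_univ (fun ψ => mu (RW f (R.w 4) (R.s 1)) ψ) {ψ, χ}
    rw [sum_pair hψ, h2, h0 χ h h1, h0 ψ (left_ne_zero_of_mul h4) (right_ne_zero_of_mul h4)] at h5
    norm_num at h5

theorem Rw.disj (χ : IrrCharacter ↥(GF F G)) (h : classInner (χ : ↥(GF F G) → ℂ) (RW f (R.w 4) 1) ≠ 0) :
    classInner (χ : ↥(GF F G) → ℂ) (RW f (R.w 4) (R.s 1)) = 0 := by
  rw [mu_spec (hA.gen _ _)] at h ⊢
  rw [R.disj' hm hA hF χ (by exact_mod_cast h), Int.cast_zero]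

theorem Rw.card_le_six [Fintype (IrrCharacter ↥(GF F G))] (T : Tb f (R.w 4)) :
    (univ.filter fun χ : IrrCharacter ↥(GF F G) => ¬ 3 ∣ mu (RW f (R.w 4) 1) χ).card ≤ 6 := by
  classical
  obtain ⟨ε, hε, hv⟩ : ∃ ε : ℤ, (ε = 1 ∨ ε = -1) ∧ classInner (RW f (R.w 4) 1) T.Ξ = 24 * ε := by
    rcases T.val with e | e
    · exact ⟨1, .inl rfl, by rw [e]; norm_num⟩
    · exact ⟨-1, .inr rfl, by rw [e]; norm_num⟩
  have hb : ∀ χ : IrrCharacter ↥(GF F G), classInner (χ : ↥(GF F G) → ℂ) T.Ξ' = mu T.Ξ' χ := fun χ => by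
    obtain ⟨a, b, -, h, -⟩ := T.int χ
    rw [mu_eq h, h]
  have hb' : ∀ χ : IrrCharacter ↥(GF F G), classInner T.Ξ' (χ : ↥(GF F G) → ℂ) = mu T.Ξ' χ := fun χ => by
    rw [← classInner_conj_symm, hb, map_intCast]
  have hu : ∀ χ : IrrCharacter ↥(GF F G), ∑ i, wC i * mu (RW f (R.w i) 1) χ ^ 2 = 96 → mu T.Ξ' χ = 0 := fun χ h => by
    refine mu_eq ?_
    rw [R.eq_prj hA χ.2 (fun i => mu_spec (hA.gen _ _) χ) h, R.ip_prj, Int.cast_zero]
    exact sum_eq_zero fun i _ => by rw [T.orth, mul_zero]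
  have t1 : ∀ i, mu (RW f (R.w i) 1) (Tool.triv _) = 1 := fun i => mu_eq (by rw [Int.cast_one]; exact R.one i)
  have s1 : ∀ i, mu (RW f (R.w i) 1) ⟨_, hA.st.1⟩ = sG i := fun i => mu_eq (R.st i)
  refine TF.card_le_six (fun χ i => mu (RW f (R.w i) 1) χ) (mu T.Ξ') hε (o := Tool.triv _) (s := ⟨_, hA.st.1⟩)
    (fun e => ?_) t1 s1 (hu _ (by simp only [t1]; decide)) (hu _ (by simp only [s1]; decide)) (fun χ h1 h2 h3 => ?_)
    (fun i => ?_) ?_ ?_
  · have h := s1 1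
    rw [← e, t1] at h
    exact absurd h (by decide)
  · rcases R.flt hm hA hF χ (fun e => h1 (Subtype.ext e)) (fun e => h2 (Subtype.ext e)) h3 with ⟨-, ⟨a, ha⟩, h4⟩ | h4
    swap
    · have := R.disj' hm hA hF χ h3
      omega
    have h5 : ∀ i, mu (RW f (R.w i) 1) χ = ty a i := congrFun ha
    refine ⟨a, ha, fun h => hu χ ?_, fun h => ?_⟩
    · simp only [h5]
      rcases h with rfl | rfl <;> decide
    · have h6 : ∀ i, classInner (χ : ↥(GF F G) → ℂ) (RW f (R.w i) 1) = ty a i := fun i => by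
        rw [mu_spec (hA.gen _ _), h5]
      have h7 := T.unif (χ - R.prj (ty a)) (fun g h => by
        rw [Pi.sub_apply, Pi.sub_apply, R.prj_cls hA, isIrr_isClassFunction χ.2 g h]) fun u c => by
          by_cases hc : c = 1
          · rw [hc]; exact R.sub_orth hA h6 u
          · rw [classInner_sub_left, h4 u c hc, R.ip_prj, sum_eq_zero fun i _ => by
              rw [ip_zero hA fun v _ h => hc (eq_one_of_rel' h), Nat.cast_zero, mul_zero], sub_zero]
      obtain ⟨x, y, e1, e2, e3⟩ := T.int χ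
      rw [classInner_sub_left, e1, R.ip_prj, sum_eq_single 4 (fun i _ hi => ?_) fun e => absurd (mem_univ _) e, hv] at h7
      · have h8 : 2 * x = ε * ty a 4 := by
          have h9 : (2 * x : ℂ) = ε * ty a 4 := by
            rw [show wC 4 = 2 from rfl] at h7
            push_cast at h7
            linear_combination 2 * h7
          exact_mod_cast h9
        rw [mu_eq e2, ← h8]
        omega
      · by_cases h8 : i = 1 ∨ i = 8
        · have h9 : ty a i = 0 := by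
            rcases h with rfl | rfl | rfl <;> rcases h8 with rfl | rfl <;> rfl
          rw [h9]; simp
        · rw [T.zero _ fun h9 => not_three_dvd_oT m i (fun e => h8 (.inl e)) hi (fun e => h8 (.inr e))
            (by rw [← R.ord]; exact_mod_cast h9), mul_zero]
  · have h := sum_mu (n := if 4 = i then 48 else 0) (hA.gen (R.w 4) 1) (hA.gen (R.w i) 1) (by
      rw [R.ip1]; split_ifs <;> simp [nC])
    rw [h]
    split_ifs <;> rfl
  · have h := T.norm
    rw [classInner_eq_sum T.cls' T.cls'] at h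
    simp only [hb', map_intCast] at h
    simp only [sq]
    exact_mod_cast h
  · have h := T.orth (R.w 4)
    rw [classInner_eq_sum (gen_cls (hA.gen _ _)) T.cls'] at h
    simp only [hb', map_intCast] at h
    rw [sum_congr rfl fun χ _ => by rw [← classInner_conj_symm, mu_spec (hA.gen _ _), map_intCast]] at h
    exact_mod_cast h

theorem Rw.k0_le (T : Tb f (R.w 4)) {M : Ideal AlgInt} (hM : IsPModular 3 M) : k0 M ↥(GF F G) ≤ 9 := by
  classical
  have := finite_irr (G := ↥(GF F G))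
  have := Fintype.ofFinite (IrrCharacter ↥(GF F G))
  have h1 := R.card_le_six hm hA hF T
  have h2 := supp_le (a := mu (RW f (R.w 4) (R.s 1))) (b := mu (RW f (R.w 1) (R.s 0))) fun χ => by
    rw [add_comm]
    exact two_dvd_mu (hA.gen _ _) (hA.gen _ _) R.half (funext fun g => by simp only [Pi.add_apply]; ring) χ
  rw [sum_mu_sq (n := 6) (hA.gen _ _) (by simpa [nS, iS] using R.ips 1 1),
    sum_mu_sq (n := 2) (hA.gen _ _) (by simpa [nS, iS] using R.ips 0 0)] at h2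
  have h3 : (univ.filter fun χ : IrrCharacter ↥(GF F G) => Mem M χ) ⊆
      (univ.filter fun χ => ¬ 3 ∣ mu (RW f (R.w 4) 1) χ) ∪ univ.filter fun χ => mu (RW f (R.w 4) (R.s 1)) χ ≠ 0 := by
    intro χ hχ
    have h4 := (R.mem M hM χ _ _ (mu_spec (hA.gen _ _) χ) (mu_spec (hA.gen _ _) χ)).1 (mem_filter.1 hχ).2
    simp only [mem_union, mem_filter, mem_univ, true_and]
    omega
  have h4 := (card_le_card h3).trans (card_union_le _ _)
  rw [k0_eq, Nat.card_eq_fintype_card, Fintype.card_subtype]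
  omega

end Chr

/-- at most nine members -/
theorem k0_le (hF : BoxFlt) (hR : BoxRw) (hT : BoxT) (m : ℕ) (hm : 1 ≤ m) (k : Type) [Field k] [CharP k 2] [IsAlgClosed k]
    (X : XF hpF4 2 k ((2 : ℤ) ^ m • GamF)) (f : Fr X.D) [Fintype ↥(GF X.F ⊤)] (hA : Api f) {M : Ideal AlgInt}
    (hM : IsPModular 3 M) : k0 M ↥(GF X.F ⊤) ≤ 9 := by
  obtain ⟨R⟩ := hR m hm k X f hA
  obtain ⟨T⟩ := hT m hm k X f hA (R.w 4) (by have h := R.ord 4; rw [oT_four] at h; exact_mod_cast h)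
  exact R.k0_le hm hA hF T hM

end Cfsg.Agent.KZ.TF
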