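import Cfsg.Agent.KZ.TF.Row
import Cfsg.Agent.KZ.TF.Fin

/-!
# KZ, the row of `²F₄(q)` from the boxes (helper22)
-/

set_option autoImplicit false

namespace Cfsg.Agent.KZ.TF

theorem boxFin (hF : BoxFlt) (hR : BoxRw) (hT : BoxT) : BoxFin := fun m hm k _ _ _ X f _ hA R =>
  ⟨fun _ hM => k0_le hF hR hT m hm k X f hA hM, R.disj hm hA hF⟩

/-- `Box.tf4` -/
theorem row_tf4_of (hA : Lie.BoxApi) (hF : BoxFlt) (hR : BoxRw) (hT : BoxT) : Row fun S _ => Cfsg.Lie.Iso2F4 S :=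
  row_tf4 hA hR (boxFin hF hR hT)

end Cfsg.Agent.KZ.TF
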