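import Cfsg.Agent.KZ.TF.TaF

/-!
# KZ, `²F₄`: the box `BoxTa` (helper90)
-/

set_option autoImplicit false
set_option linter.unusedSectionVars false
set_option maxHeartbeats 400000

namespace Cfsg.Agent.KZ.TF.Ta

open Cfsg Cfsg.Lie Cfsg.Agent.DL Cfsg.Agent.DL.PP Cfsg.Agent.Nodes.Reps Cfsg.Agent.KZ.Lie Cfsg.Agent.KZ.DatX
  Cfsg.Agent.KZ.McX Matrix Cfsg.Agent.Tits.Roots
open Cfsg.Agent.ChevalleyStructure Cfsg.Agent.ChevalleyStructure.CoxeterGeomTypes Cfsg.Agent.Nodes Cfsg.Agent.Nodes.RGDChev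

variable {k : Type} [Field k] [CharP k 2] [IsAlgClosed k] {m : ℕ} (X : XF hpF4 2 k ((2 : ℤ) ^ m • GamF)) (b : Bool)

theorem mx_eq (L : List (Fin 4)) : wm X (el X L) * ((2 : ℤ) ^ m • GamF) = (2 : ℤ) ^ m • mW L G4 := by
  rw [Matrix.mul_smul, wm_el, GamF_eq]
  exact congrArg _ (mW_mul L G4)

/-- the frame -/
noncomputable abbrev Db : Datum 2 (chevF4.group k).subtype X.F ⊤ := DD X (el X (Lb b))

theorem tc_Db {U L L' : List (Fin 4)} :
    Tc (Db X b) (el X U) (el X L) (el X L') ↔ tcB U (L ++ Lb b) (L' ++ Lb b) = true := by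
  rw [DD_tc, ← el_append, ← el_append, tc_B]

theorem ord_Db (i : Fin 3) : ordT (Db X b) (el X (Vc i)) =
    ![(2 ^ (2 * m + 1) + 1) ^ 2, (2 ^ (2 * m + 1)) ^ 2 - 1, (2 ^ (2 * m + 1)) ^ 2 - 2 ^ (2 * m + 1) + 1] i := by
  have h : ordT (Db X b) (el X (Vc i)) = ((2 : ℤ) ^ m • mW (Vc i ++ Lb b) G4 - 1).det.natAbs := by
    rw [DD_ord, ← el_append, ← mx_eq X]
    rfl
  have h1 : 1 ≤ (2 ^ (2 * m + 1)) ^ 2 := Nat.one_le_pow _ _ (by positivity)
  have h2 : 2 ^ (2 * m + 1) ≤ (2 ^ (2 * m + 1)) ^ 2 := Nat.le_self_pow two_ne_zero _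
  rw [h, det_cp4, Vc_cp, Int.natAbs_eq_iff]
  fin_cases i
  · exact Or.inl (by simp only [Fin.zero_eta, cons_val_zero]; push_cast; ring)
  · exact Or.inr (by simp only [Fin.mk_one, cons_val_one, cons_val_zero]; push_cast [h1]; ring)
  · exact Or.inl (by simp only [Fin.reduceFinMk, cons_val]; push_cast [h2]; ring)

theorem g_Db {x y : Fin 4 → ℤ} (hx : x ∈ l6 b) (hy : y ∈ l6 b) {n : ℕ} (h : y ᵥ* Bm b = (2 : ℤ) ^ n • x) :
    (Db X b).g x = y ∧ (Db X b).ex x = m + n :=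
  DD_g X _ ((rt_iff X _ x).2 (of_six b x hx).1) ((rt_iff X _ y).2 (of_six b y hy).1) (by
    rw [mx_eq, Bm_eq, vecMul_smul, h, smul_smul, pow_add])

theorem sr_l6 : ∀ b, ∀ i : Fin 4, i ≠ 2 → Pi.single i 1 ∈ l6 b := by decide +kernel

theorem sv_l6 (j : Fin 4) : sv b j ∈ l6 b := (mem_L6 (s := sv b)).2 (Or.inl ⟨j, rfl⟩)

theorem c_l6 : sv b 0 + sv b 2 ∈ l6 b := (mem_L6 (s := sv b)).2 (Or.inr (Or.inl rfl))

theorem d_l6 : sv b 1 + sv b 3 ∈ l6 b := (mem_L6 (s := sv b)).2 (Or.inr (Or.inr rfl))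

theorem conj_F_tD {n : ↥(chevF4.group k)} (hn : (Db X b).Rp (el X (Vc 0)) n) (x : Fin 4 → ℤ) (a : kˣ) :
    n * X.F (tD X (el X (Lb b)) (coch x a)) * n⁻¹ = tD X (el X (Lb b)) (coch ((2 : ℤ) ^ m • A0 b *ᵥ x) a) := by
  rw [F_tD, conj_tD X _ hn, mulVec_mulVec, ← mul_assoc, ← wm_mul, ← el_append, mx_eq, A0_eq, smul_mulVec]

variable {ω : kˣ} (hω : IsPrimitiveRoot ω 3)
include hω

theorem lam_mem {a : Fin 4 → ℤ} : a ∈ (Db X b).Lam {tD X (el X (Lb b)) (coch lam ω)} ↔ 3 ∣ a 2 :=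
  ⟨fun h => (χ_lam X _ hω a).1 (h _ rfl), fun h _ hz => hz ▸ (χ_lam X _ hω a).2 h⟩

theorem l6_Sz {a : Fin 4 → ℤ} (h : a ∈ l6 b) : a ∈ (Db X b).Sz {tD X (el X (Lb b)) (coch lam ω)} :=
  ⟨(rt_iff X _ a).2 (of_six b a h).1, (lam_mem X b hω).2 (of_six b a h).2.2⟩

theorem gen_mem (U : List (Fin 4)) : el X (U.flatMap gen) ∈
    Subgroup.closure ((Db X b).rf '' (Db X b).Sz {tD X (el X (Lb b)) (coch lam ω)}) := by
  have h2 := (sv_mem b).2.2.2
  have e : ∀ i : Fin 4, i ≠ 2 → el X [i] ∈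
      Subgroup.closure ((Db X b).rf '' (Db X b).Sz {tD X (el X (Lb b)) (coch lam ω)}) := fun i h =>
    Subgroup.subset_closure ⟨_, l6_Sz X b hω (sr_l6 b i h), rf_sr X _ i⟩
  induction U with
  | nil => exact el_nil X ▸ one_mem _
  | cons j U ih =>
    rw [List.flatMap_cons, el_append]
    refine Subgroup.mul_mem _ ?_ ih
    fin_cases j
    · exact e 0 (by decide)
    · exact e 1 (by decide)
    · refine Subgroup.subset_closure ⟨_, l6_Sz X b hω h2, ?_⟩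
      have h4 : (Db X b).act (el X tL) (sr (3 : Fin 4)) = ![2, 4, 3, 1] := act_eq X _ (by rw [wm_el]; exact tL_three)
      have h5 : (el X tL)⁻¹ = el X tL :=
        inv_eq_of_mul_eq_one_left ((el_append X _ _).symm.trans (((el_eq_iff X).2 tL_sq).trans (el_nil X)))
      refine (congrArg _ h4.symm).trans ((rf_act X _ _ 3).trans ?_)
      rw [h5, ← el_append, ← el_append]
      rfl
    · exact e 3 (by decide)

theorem exists_zd (hb : 3 ∣ 2 ^ m - ep b) : Nonempty (Zd (Db X b) (2 * m + 1)) := by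
  have hsb : ∀ v : X.D.W, Sb (Db X b) (tD X (el X (Lb b)) (coch lam ω)) v → ∃ U ∈ G36, v = el X (U.flatMap gen) := fun v h => by
    obtain ⟨L, hL, rfl⟩ := exists_el X v
    obtain ⟨U, hU, e⟩ := stab_G36 L hL ((sb_iff X _ hω).1 h)
    exact ⟨U, hU, (el_eq_iff X).2 e⟩
  have h0 : tD X (el X (Lb b)) (coch 0 ω) = 1 := by
    rw [show coch (0 : Fin 4 → ℤ) ω = 1 from funext fun _ => zpow_zero ω, map_one]
  have hs := fun j => g_Db X b (sv_l6 b j) (sv_l6 b (j + 1)) (sv_g b j)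
  have hc := g_Db X b (c_l6 b) (d_l6 b) (sv_gc b).1
  have hd := g_Db X b (d_l6 b) (c_l6 b) (sv_gc b).2
  refine ⟨{
    z := tD X (el X (Lb b)) (coch lam ω)
    zT := tD_mem X _ _
    zF := ?_
    ord := ?_
    pos := Nat.succ_pos _
    s := sv b
    inj := sv_inj b
    six := fun a => ⟨fun h => ?_, fun h => ⟨(l6_Sz X b hω h).1, (of_six b a h).2.1, (l6_Sz X b hω h).2⟩⟩
    ind := sv_ind b
    ne := fun h => ?_
    gs := fun j => (hs j).1
    gc := hc.1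
    gd := hd.1
    e0 := (congrArg₂ (· + ·) (hs 0).2 (hs 1).2).trans (show m + 1 + (m + 0) = _ by omega)
    e2 := (congrArg₂ (· + ·) (hs 2).2 (hs 3).2).trans (show m + 1 + (m + 0) = _ by omega)
    ec := (congrArg₂ (· + ·) hc.2 hd.2).trans (by omega)
    btw := fun a ha h => ?_
    zen := fun t ht h => ?_
    stab := fun v h => ?_
    tw := el X tL
    tw_F := ?_
    tw_z := fun n hn => ?_
    tw_s := fun j => act_eq X _ (by rw [wm_el]; exact tL_sv b j)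
    v := fun i => el X (Vc i)
    v_one := el_nil X
    v_sb := fun i => (sb_iff X _ hω).2 (Vc_sb i)
    v_ord := ord_Db X b
    v_cw := fun i => (card_W X _ _ fun L => ?_).trans (Vc_cw b i)
    v_all := fun v h => ?_
    μ := fun j => tD X (el X (Lb b)) (coch (mu b j) ω)
    μ_inj := fun i j h => mu_inj b i j ((tD_iff X _ hω).1 h)
    μ_cj := fun j => ?_
    μ_F := fun j n hn => (conj_F_tD X b hn _ _).trans ((tD_iff X _ hω).2 ((cg_smul hb).2 (mu_fix b j)))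
    μ_all := fun t ht h3 h1 n hn h => ?_ }⟩
  · rw [F_tD, mx_eq, Bm_eq, smul_mulVec]
    exact (tD_iff X _ hω).2 ((cg_smul hb).2 (lam_fix b))
  · have : Fact (Nat.Prime 3) := ⟨Nat.prime_three⟩
    refine orderOf_eq_prime (by rw [← map_pow, ← map_pow, hω.pow_eq_one, map_one, map_one]) fun h => ?_
    exact absurd ((tD_iff X _ hω).1 (h.trans h0.symm) 2) (by decide)
  · obtain ⟨r, hr, rfl⟩ := (rt_iff X _ a).1 h.1
    exact six_of b r hr h.2.1 ((lam_mem X b hω).1 h.2.2)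
  · exact absurd (((sv_c b).1.symm.trans h).trans (sv_c b).2) (by decide)
  · obtain ⟨r, hr, rfl⟩ := (rt_iff X _ a).1 ha.1
    obtain ⟨-, n, x, y, hn, hx, hy, e⟩ := h
    have e' : n • RGDChev.vec chevF4 4 r = x • (sv b 0 + sv b 2) + y • (sv b 1 + sv b 3) := e
    rw [(sv_c b).1, (sv_c b).2] at e'
    have e0 : n * RGDChev.vec chevF4 4 r 0 = x * 1 + y * 2 := congrFun e' 0
    have e2 : n * RGDChev.vec chevF4 4 r 2 = x * 0 + y * 3 := congrFun e' 2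
    have h1 := mul_le_mul_of_nonneg_left (no_btw r hr ((lam_mem X b hω).1 ha.2) (pos_of_mul_pos_left (b := n) (by
      rw [mul_comm, e2]; omega) hn.le)) hn.le
    nlinarith
  · obtain ⟨c, rfl⟩ := exists_tD X _ ht
    have h1 : ∀ a ∈ l6 b, chr a c = 1 := fun a ha => by
      have h2 : ∀ j, chr (sv b j) c = 1 := fun j => Units.val_eq_one.1 ((χ_tD X _ _ c).symm.trans (h j))
      rcases (mem_L6 (s := sv b)).1 ha with ⟨j, rfl⟩ | rfl | rfl
      · exact h2 j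
      · rw [chr_add, h2, h2, mul_one]
      · rw [chr_add, h2, h2, mul_one]
    obtain ⟨a0, a1, a3, a2⟩ := sv_mem b
    have c0 : c 0 = 1 := by simpa [chr_apply, Fin.prod_univ_four] using h1 _ a0
    have c1 : c 1 = 1 := by simpa [chr_apply, Fin.prod_univ_four] using h1 _ a1
    have c3 : c 3 = 1 := by simpa [chr_apply, Fin.prod_univ_four] using h1 _ a3
    have c2 : c 2 ^ (3 : ℤ) = 1 := by simpa [chr_apply, Fin.prod_univ_four, c0, c1, c3] using h1 _ a2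
    obtain ⟨n, hn⟩ := exists_pow hω (a := c 2) (by exact_mod_cast c2)
    refine ⟨(n : ℕ), ?_⟩
    show tD X _ _ ^ ((n : ℕ) : ℤ) = _
    rw [zpow_natCast, ← map_pow, ← map_pow, ← hn]
    refine congrArg _ (funext fun i => ?_)
    fin_cases i <;> simp [coch_apply, lam, c0, c1, c3]
  · obtain ⟨U, -, rfl⟩ := hsb v h
    exact gen_mem X b hω U
  · have h : Tc (Db X b) (el X tL) (el X []) (el X []) := (tc_Db X b).2 (tL_tc b)
    rw [el_nil] at h
    exact (one_mul _).symm.trans (Eq.trans h (mul_one _))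
  · rw [conj_tD X _ hn, wm_el, ← map_inv, ← coch_neg]
    exact (tD_iff X _ hω).2 tL_lam
  · rw [Bool.and_eq_true]
    exact and_congr (sb_iff X _ hω) (tc_Db X b)
  · obtain ⟨L, hL, rfl⟩ := hsb v h
    obtain ⟨U, -, i, h1, h2⟩ := G36_all b L hL
    exact ⟨i, _, (sb_iff X _ hω).2 h1, (tc_Db X b).2 h2⟩
  · obtain ⟨n, hn, -⟩ := (Db X b).exists_rp (el X (mw b j))
    refine ⟨n, ⟨_, hn⟩, (conj_tD X _ hn _ _).trans ((tD_iff X _ hω).2 ?_)⟩
    rw [wm_el]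
    exact mu_cj b j
  · obtain ⟨c, rfl⟩ := exists_tD X _ ht
    obtain ⟨x, y, z, t, rfl⟩ := exists_coch hω (c := c) (tD_inj X _ (by rw [map_pow, h3, map_one]))
    refine (mu_all b x y z t ((cg_smul hb).1 ((tD_iff X _ hω).1 ((conj_F_tD X b hn _ _).symm.trans h)))).elim
      (fun h4 => (h1 (((tD_iff X _ hω).2 h4).trans h0)).elim) fun ⟨j, hj⟩ => ⟨j, (tD_iff X _ hω).2 hj⟩

omit hω in
theorem tc_of_ord (hm : 1 ≤ m) {w₁ w : X.D.W} (h : Gt X.D w₁ ((-2) ^ m) J4) (hw : ordT X.D w = (2 ^ (2 * m + 1) + 1) ^ 2) :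
    ∃ v, Tc X.D v w₁ w := by
  obtain ⟨L, hL, e⟩ := exists_LF X w
  rcases (good_word L hL).2 with hc | ⟨V, -, hV⟩
  · refine (not_cpL (t := (-2) ^ m) (dvd_pow (by decide) (by omega)) h.ne hc ?_).elim
    rw [← det_cp4, ← det_J4, ← e]
    exact (hw.trans h.ordF.symm).trans (by rw [ordT, h.eq]; rfl)
  · exact ⟨CoxeterMatrix.F₄.toCoxeterSystem.wordProd V, (tc_smul h.eq e h.ne).2 (by
      rw [mW_eq V, mW_eq V, mul_one, ← X.Wm_word] at hV
      exact hV)⟩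

end Cfsg.Agent.KZ.TF.Ta

namespace Cfsg.Agent.KZ.TF

open Cfsg.Agent.DL Cfsg.Agent.KZ.Lie Cfsg.Agent.KZ.McX Cfsg.Agent.Nodes.Reps Ta

/-- **The centraliser of an element of order three.** -/
theorem boxTa : BoxTa := fun m hm k _ _ _ X w₀ h₀ => by
  obtain ⟨ω, hω⟩ := exists_prim3 (k := k) (p := 2) (by decide) 1
  obtain ⟨b, hb⟩ : ∃ b, (3 : ℤ) ∣ 2 ^ m - ep b := by
    have := sub_dvd_pow_sub_pow (2 : ℤ) (-1) m
    rcases m.even_or_odd with h | h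
    · exact ⟨false, by rwa [h.neg_one_pow] at this⟩
    · exact ⟨true, by rwa [h.neg_one_pow] at this⟩
  obtain ⟨Z⟩ := exists_zd X b hω hb
  obtain ⟨h1, h2⟩ := tori_R_eq (DD_pair X (el X (Lb b)))
  rw [← h1, ← h2]
  refine Z.l3 fun S hS hc => ?_
  obtain ⟨y, hy, rfl, h⟩ := h1.le hS
  obtain ⟨w, hw⟩ := (X.D.stable_iff hy).1 h
  obtain ⟨w₁, h3⟩ := exists_gtF X
  obtain ⟨v, hv⟩ := tc_of_ord X hm h3 h₀
  obtain ⟨v', hv'⟩ := tc_of_ord X hm h3 ((X.D.card_cj_TF hy hw).symm.trans hc)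
  exact conj_of_tc (yw_mem _ _) (yw_rp _ _) hy hw (tc_trans hv.symm hv')

end Cfsg.Agent.KZ.TF
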