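import Cfsg.Agent.KZ.TF.TbB
import Mathlib.Analysis.Fourier.FiniteAbelian.PontryaginDuality

/-!
# KZ, `²F₄`, box `Tb`: the two class functions (helper4)

* `exists_psi`, `exists_x` : the three orbits of linear characters of `U`;
* `main` : the two class functions on the ambient group;
* `boxTb` : the box.
-/

set_option autoImplicit false

namespace Cfsg.Agent.KZ.TF.TbC

open Cfsg Cfsg.Agent.DL.Uni Cfsg.Agent.Nodes.Reps Cfsg.Agent.Characters.Core Cfsg.Agent.KZ.TF.TbA Cfsg.Agent.KZ.TF.TbB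
open scoped ComplexConjugate

attribute [local instance] L3.fld L3.fin

theorem exists_psi (K : Type) [Field K] [Fintype K] {n : ℕ} (hn : n ≠ 0) (hK : Fintype.card K = (2 ^ n) ^ 2) :
    ∃ (ψ : AddChar K ℂ) (μ : Kˣ), ψ ≠ 1 ∧ ∀ t, ψ (t ^ 2 ^ n) = ψ (μ * t) := by
  classical
  have h2 : (2 : K) = 0 := by
    have h := FiniteField.cast_card_eq_zero K
    rw [hK, ← pow_mul, Nat.cast_pow, Nat.cast_ofNat] at h
    exact pow_eq_zero_iff (by omega) |>.1 h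
  have : Fact (Nat.Prime 2) := ⟨Nat.prime_two⟩
  have : CharP K 2 := (CharP.charP_iff_prime_eq_zero Nat.prime_two).2 (by exact_mod_cast h2)
  obtain ⟨ψ, hψ⟩ := (AddChar.exists_apply_ne_zero (α := K) (a := 1)).2 one_ne_zero
  have h1 : ψ ≠ 1 := fun h => hψ (by rw [h, AddChar.one_apply])
  have h3 : Function.Bijective ψ.mulShift := (Fintype.bijective_iff_injective_and_card _).2
    ⟨AddChar.to_mulShift_inj_of_isPrimitive (AddChar.IsPrimitive.of_ne_one h1), AddChar.card_eq.symm⟩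
  obtain ⟨μ, hμ⟩ := h3.2 (ψ.compAddMonoidHom (iterateFrobenius K 2 n).toAddMonoidHom)
  have h4 : ∀ t, ψ (t ^ 2 ^ n) = ψ (μ * t) := fun t => (DFunLike.congr_fun hμ t).symm
  refine ⟨ψ, Units.mk0 μ ?_, h1, h4⟩
  rintro rfl
  have h5 := h4 1
  rw [one_pow, zero_mul, AddChar.map_zero_eq_one] at h5
  exact hψ h5

variable {Γ : Type} [Group Γ] {H : Subgroup Γ} {A : Set (Subgroup Γ)} {R : Subgroup Γ → (Γ → ℂ) →ₗ[ℂ] (Γ → ℂ)} {Q : ℕ}
  {T₀ : Subgroup Γ} (L : L3 H A R Q T₀) {n : ℕ}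

theorem index_range : L.a.range.index = 3 := by
  classical
  have h1 := L.a.ker.card_mul_index
  have h2 := L.a.range.card_mul_index
  rw [Subgroup.index_ker, L.a_ker, L.T_card] at h1
  rw [Nat.card_units, Nat.card_eq_fintype_card (α := L.K), L.K_card] at h2
  exact Nat.eq_of_mul_eq_mul_left Nat.card_pos (h2.trans (h1.symm.trans (mul_comm _ _)))

theorem exists_x [Finite H] (hQ : Q = 2 ^ n) (h8 : 8 ≤ Q) (h3 : Q % 3 = 2) :
    ∃ (ψ : AddChar L.K ℂ) (x : Fin 3 → L.K), ψ ≠ 1 ∧ (∀ i, x i ≠ 0) ∧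
      (∀ i j, Nat.card {t : ↥(L.T 1 ⊓ H) // x i * L.a t⁻¹ = x j} = if i = j then 3 else 0) ∧
      ∀ f : Γ → ℂ, IsCharacter H (res H f) →
        conj (ip L.U (fun u => f (L.z * u)) (xc L ψ (x 0))) = ip L.U (fun u => f (L.z * u)) (xc L ψ (x 0)) ∧
        conj (ip L.U (fun u => f (L.z * u)) (xc L ψ (x 1))) = ip L.U (fun u => f (L.z * u)) (xc L ψ (x 2)) := by
  have hn : n ≠ 0 := by
    rintro rfl
    omega
  obtain ⟨ψ, μ, hψ, hμ⟩ := exists_psi L.K hn (hQ ▸ L.K_card)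
  rw [← hQ] at hμ
  have hi := index_range L
  have hc : ∀ y : L.Kˣ, y ^ 3 ∈ L.a.range := fun y => by
    have := L.a.range.pow_index_mem y
    rwa [hi] at this
  obtain ⟨g, hg⟩ : ∃ g, g ∉ L.a.range := by
    by_contra h
    have := Subgroup.index_eq_one.2 ((Subgroup.eq_top_iff' _).2 fun g => not_not.1 fun h' => h ⟨g, h'⟩ : L.a.range = ⊤)
    omega
  have : Fact (Nat.Prime 3) := ⟨Nat.prime_three⟩
  have ho : orderOf (QuotientGroup.mk' L.a.range g) = 3 := orderOf_eq_prime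
    (by rw [← map_pow]; exact (QuotientGroup.eq_one_iff _).2 (hc g)) fun h => hg ((QuotientGroup.eq_one_iff _).1 h)
  obtain ⟨q, hq⟩ : ∃ q, Q = 3 * q + 2 := ⟨Q / 3, by omega⟩
  let ν : L.Kˣ := μ * L.κ ^ Q
  refine ⟨ψ, fun i => (g ^ (i : ℕ) * ν ^ 2 : L.Kˣ), hψ, fun i => Units.ne_zero _, fun i j => ?_, fun f hf => ?_⟩
  · split_ifs with h
    · subst h
      refine Eq.trans (Nat.card_congr (Equiv.subtypeEquivRight fun t => ?_)) L.a_ker
      rw [mul_eq_left₀ (Units.ne_zero _), Units.val_eq_one, map_inv, inv_eq_one, MonoidHom.mem_ker]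
    · refine Nat.card_eq_zero.2 (Or.inl ⟨fun ⟨t, ht⟩ => h (Fin.ext ?_)⟩)
      have h1 : g ^ (i : ℕ) * ν ^ 2 * L.a t⁻¹ = g ^ (j : ℕ) * ν ^ 2 := Units.ext ht
      rw [mul_right_comm, mul_left_inj] at h1
      have h2 := congrArg (QuotientGroup.mk' L.a.range) h1
      rw [map_mul, map_pow, map_pow, show QuotientGroup.mk' L.a.range (L.a t⁻¹) = 1 from
        (QuotientGroup.eq_one_iff _).2 ⟨_, rfl⟩, mul_one] at h2
      exact pow_injOn_Iio_orderOf (i.2.trans_eq ho.symm) (j.2.trans_eq ho.symm) h2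
  · have hcl : IsCls H f := isCls_of_gen (gen_of_char hf)
    have key : ∀ x y s : L.Kˣ, ν * x ^ Q = y * s ^ 3 → conj (ip L.U (fun u => f (L.z * u)) (xc L ψ x)) =
        ip L.U (fun u => f (L.z * u)) (xc L ψ y) := fun x y s h => by
      obtain ⟨t, ht⟩ := hc s
      rw [d_conj L hf hμ, ← d_tor L (x := y) hcl t, ht, ← Units.val_mul y, ← h]
      congr 2
      simp only [ν, Units.val_mul, Units.val_pow_eq_pow_val]
      ring
    refine ⟨key _ _ (ν ^ (2 * q + 1)) ?_, key _ _ (g ^ q * ν ^ (2 * q + 1)) ?_⟩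
    · generalize ν = v
      rw [congrArg (_ ^ ·) hq]
      refine Units.ext ?_
      simp only [Units.val_mul, Units.val_pow_eq_pow_val, Fin.val_zero]
      ring
    · generalize ν = v
      rw [congrArg (_ ^ ·) hq]
      refine Units.ext ?_
      simp only [Units.val_mul, Units.val_pow_eq_pow_val, Fin.val_one, Fin.val_two]
      ring

theorem card_x [Finite H] : Nat.card {x : H // L.z ∈ cj (x : Γ) (L.T 0)} = 8 * Nat.card L.C := by
  have := finC L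
  have := finite_inf (H := H) (L.T 0)
  have hm : ∀ x : H, (x : Γ)⁻¹ * L.z * x ∈ H := fun x => H.mul_mem (H.mul_mem (H.inv_mem x.2) L.z_mem) x.2
  rw [← L.T_eight]
  refine DL.St.card_of_fibers (fun x => ⟨⟨_, mem_cj.1 x.2, hm x.1⟩, _, H.inv_mem x.1.2, by rw [inv_inv]⟩)
    Nat.card_pos.ne' ?_
  rintro ⟨t, h, hh, e⟩
  have h1 : ∀ c : L.C, ((c : Γ) * h⁻¹)⁻¹ * L.z * (c * h⁻¹) = t := fun c => by
    rw [← e, show ((c : Γ) * h⁻¹)⁻¹ * L.z * (c * h⁻¹) = h * ((c : Γ)⁻¹ * (L.z * c)) * h⁻¹ by group, ← L.cent.cent c c.2,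
      inv_mul_cancel_left]
  refine Nat.card_congr ⟨fun x => ⟨x.1.1 * h, L.full _ (H.mul_mem x.1.1.2 hh) ?_⟩,
    fun c => ⟨⟨⟨c * h⁻¹, H.mul_mem (L.cent.le c.2) (H.inv_mem hh)⟩, mem_cj.2 (h1 c ▸ t.2.1)⟩,
      Subtype.ext (Subtype.ext (h1 c))⟩, fun x => by simp, fun c => by simp⟩
  have h2 : (x.1.1 : Γ)⁻¹ * L.z * x.1.1 = h * L.z * h⁻¹ := (congrArg (fun y => (y.1 : Γ)) x.2).trans e.symm
  generalize (x.1.1 : Γ) = y at h2
  calc _ = y * (h * L.z * h⁻¹) * h := by group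
    _ = _ := by rw [← h2]; group

include L in
/-- **the two class functions** -/
theorem main (S : Sys 2 H A R) (hQ : Q = 2 ^ n) (h8 : 8 ≤ Q) (h3 : Q % 3 = 2) :
    ∃ Ξ Ξ' : Γ → ℂ, IsCls H Ξ ∧ IsCls H Ξ' ∧
      (∀ f, IsCharacter H (res H f) → ∃ a b : ℤ, ip H f Ξ = a ∧ ip H f Ξ' = b ∧ 3 ∣ a - b) ∧ ip H Ξ' Ξ' = 9 ∧
      (∀ T ∈ A, ip H (R T 1) Ξ' = 0) ∧ IsUnif H A R Ξ ∧ (ip H (R T₀ 1) Ξ = 24 ∨ ip H (R T₀ 1) Ξ = -24) ∧
      ∀ T ∈ A, ¬ 3 ∣ Nat.card ↥(T ⊓ H) → ip H (R T 1) Ξ = 0 := by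
  classical
  have := S.finH
  have := finC L
  have := finU L
  have := Fintype.ofFinite H
  have : Fact (Nat.Prime 2) := ⟨Nat.prime_two⟩
  have hUH : L.U ≤ H := L.U_le.trans L.cent.le
  obtain ⟨ψ, x, hψ, hx, hc, hd⟩ := exists_x L hQ h8 h3
  obtain ⟨ω, hω, cω⟩ : ∃ ω : ℂ, ω ^ 2 + ω + 1 = 0 ∧ conj ω = ω ^ 2 := by
    have h1 : ((√3 : ℝ) : ℂ) ^ 2 = 3 := by exact_mod_cast Real.sq_sqrt (by norm_num : (0 : ℝ) ≤ 3)
    refine ⟨(-1 + (√3 : ℝ) * Complex.I) / 2, ?_, ?_⟩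
    · linear_combination (Complex.I ^ 2 / 4) * h1 + (3 / 4) * Complex.I_sq
    · rw [map_div₀, map_add, map_mul, Complex.conj_ofReal, Complex.conj_I, map_neg, map_one, map_ofNat]
      linear_combination (-Complex.I ^ 2 / 4) * h1 - (3 / 4) * Complex.I_sq
  have hG : ∀ i j, ip H (xi H L.U L.z (xc L ψ (x i))) (xi H L.U L.z (xc L ψ (x j))) =
      (Q : ℂ) ^ 2 - 1 + if i = j then 3 else 0 := fun i j => by
    rw [ip_xc L S hQ h8 hψ, hc, Nat.cast_ite, Nat.cast_ofNat, Nat.cast_zero]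
  have he : ∀ i, ∀ T ∈ A, L.z ∈ T → ip L.U (L.RC T 1) (xc L ψ (x i)) = eps L.C L.RC L.St T := fun i =>
    e_eq L S hQ h8 (xc_lin L) (xc_ne L hψ (hx i)) (by rw [hG, if_pos rfl]; ring)
  have he3 : ∀ T ∈ A, L.z ∈ T → ip L.U (L.RC T 1) (xc L ψ (x 0) + xc L ψ (x 1) + xc L ψ (x 2)) =
      3 * eps L.C L.RC L.St T := fun T hT hz => by
    rw [ip_add_right, ip_add_right, he 0 T hT hz, he 1 T hT hz, he 2 T hT hz]
    ring
  refine ⟨xi H L.U L.z (xc L ψ (x 0) + xc L ψ (x 1) + xc L ψ (x 2)),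
    xi H L.U L.z (xc L ψ (x 0) + ω • xc L ψ (x 1) + ω ^ 2 • xc L ψ (x 2)), xi_cls, xi_cls, fun f hf => ?_, ?_,
    fun T hT => ?_, S.unif_of_norm (le_of_eq (congrArg _ ?_)), ?_, fun T hT h => ?_⟩
  · have hcl : IsCls H f := isCls_of_gen (gen_of_char hf)
    have hz3 : L.z ^ 3 = 1 := L.z_ord ▸ pow_orderOf_eq_one L.z
    have hzc : ∀ u ∈ L.U, u * L.z = L.z * u := fun u hu => L.cent.cent u (L.U_le hu)
    obtain ⟨a, b, h0⟩ := zw_ip hω L.z_mem hz3 hUH hzc hf (xc_lin L (ψ := ψ) (x := x 0))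
    obtain ⟨c, d, h1⟩ := zw_ip hω L.z_mem hz3 hUH hzc hf (xc_lin L (ψ := ψ) (x := x 1))
    obtain ⟨h4, h5⟩ := hd f hf
    rw [h0, map_add, map_mul, map_intCast, map_intCast, cω] at h4
    rw [h1, map_add, map_mul, map_intCast, map_intCast, cω] at h5
    have hb : (b : ℂ) = 0 := by linear_combination (-(1 / 3) * (ω ^ 2 - ω)) * h4 + (b / 3 * (ω ^ 2 - 3 * ω + 3)) * hω
    refine ⟨a + 2 * c - d, a - c + 2 * d, ?_, ?_, c - d, by ring⟩
    · rw [ip_xi L.z_mem hUH hcl, ip_add_right, ip_add_right, h0, h1, ← h5, hb]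
      push_cast
      linear_combination d * hω
    · rw [ip_xi L.z_mem hUH hcl, ip_add_right, ip_add_right, ip_smul_right, ip_smul_right, h0, h1, ← h5, hb, map_pow, cω]
      push_cast
      linear_combination (c * (ω ^ 2 - ω + 1) + d * (ω ^ 4 - ω ^ 3 + 2 * ω - 2)) * hω
  · simp only [xi_add, xi_smul, ip_add_left, ip_add_right, ip_smul_left, ip_smul_right, hG, map_pow, cω]
    simp
    linear_combination (((Q : ℂ) ^ 2 - 1) * (ω ^ 4 + ω ^ 2 + 1) + 3 * (ω ^ 4 - ω ^ 3 + 2 * ω - 2)) * hω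
  · rw [ip_R_xi S L.cent L.z_mem L.U_le (uni L hQ) hT, Finset.sum_eq_zero fun y _ => ?_, mul_zero]
    split_ifs with h
    · have h1 := S.conjA y y.2 T hT
      rw [ip_add_right, ip_add_right, ip_smul_right, ip_smul_right, he 0 _ h1 h, he 1 _ h1 h, he 2 _ h1 h, map_pow, cω]
      linear_combination (eps L.C L.RC L.St (cj y T) * (ω ^ 2 - ω + 1)) * hω
    · rfl
  · obtain ⟨c0, c1, c2⟩ := card_cast L h8
    rw [ip_pr_xi S L.cent L.z_mem L.U_le (uni L hQ) L.full, Finset.sum_congr rfl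
      (g := fun T => (wt L.C T : ℂ) * (9 * Nat.card ↥(T ⊓ H))) fun T hT => by
        have h1 := L.cent.sys.mem_tori.1 hT
        rw [he3 T h1.1 h1.2, map_mul, L.st.conj_eps L.cent.sys h1, map_ofNat]
        linear_combination (9 * (wt L.C T : ℂ) * Nat.card ↥(T ⊓ H)) * L.st.eps_mul_self L.cent.sys h1,
      sumT L h8 (fun T => 9 * Nat.card ↥(T ⊓ H)) fun T _ _ c hc => by rw [card_cj_inf (L.cent.le hc)], c0, c1, c2]
    simp only [xi_add, ip_add_left, ip_add_right, hG]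
    simp
    ring
  · obtain ⟨h, hh, e⟩ := L.T_zero
    have h1 : ∀ g ∈ H, R T₀ 1 g = R (L.T 0) 1 g := fun g hg => by
      have := S.R_conj (L.T_mem 0).1 (H.inv_mem hh) 1 g hg
      rwa [e, cj_inv_cj, ← e] at this
    rw [ip_congr h1 fun _ _ => rfl, ip_R_xi S L.cent L.z_mem L.U_le (uni L hQ) (L.T_mem 0).1, Finset.sum_congr rfl
      (g := fun y : H => if L.z ∈ cj (y : Γ) (L.T 0) then 3 * eps L.C L.RC L.St (L.T 0) else 0) fun y _ => by
        split_ifs with hy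
        · have h2 := S.conjA y y.2 _ (L.T_mem 0).1
          obtain ⟨i, c, hc, e⟩ := L.T_all _ h2 hy
          obtain rfl : 0 = i := card_inj L h8 (by rw [← card_cj_inf y.2, e, card_cj_inf (L.cent.le hc)])
          rw [he3 _ h2 hy, e, eps_cj L _ (L.T_mem 0).1 (L.T_mem 0).2 c hc]
        · rfl,
      ← Finset.sum_filter, Finset.sum_const, ← Fintype.card_subtype, ← Nat.card_eq_fintype_card, card_x, nsmul_eq_mul,
      Nat.cast_mul, mul_comm ((8 : ℕ) : ℂ), mul_assoc, inv_mul_cancel_left₀ (card_ne_zero _)]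
    rcases L.st.eps_sign L.cent.sys (L.T_mem 0) with h | h <;> rw [h] <;> norm_num
  · rw [ip_R_xi S L.cent L.z_mem L.U_le (uni L hQ) hT, Finset.sum_eq_zero fun y _ => if_neg fun hy => h ?_, mul_zero]
    rw [← card_cj_inf y.2, ← L.z_ord]
    exact Subgroup.orderOf_dvd_natCard _ ⟨hy, L.z_mem⟩

theorem ip_unif_zero {p : ℕ} (S : Sys p H A R) {f u : Γ → ℂ} (hu : IsUnif H A R u)
    (hf : ∀ T ∈ A, ∀ θ, IsLin (T ⊓ H) θ → ip H f (R T θ) = 0) : ip H f u = 0 := by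
  have := S.finH
  rw [S.ip_unif f hu]
  refine Finset.sum_eq_zero fun T hT => ?_
  have h1 := S.mem_tori.1 hT
  have := S.finT T
  have := finite_hom (T ⊓ H)
  have := Fintype.ofFinite (↥(T ⊓ H) →* ℂˣ)
  rw [← S.ip_rst h1, ip_congr (fun _ _ => rfl) (S.R_eq_sum_lin h1 _), ip_sum_right, Finset.sum_eq_zero fun θ _ => by
    rw [ip_smul_right, hf T h1 _ (isLin_lin θ), mul_zero], mul_zero]

open Cfsg.Agent.KZ.Lie Cfsg.Agent.DL in
/-- **the box `Tb`** -/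
theorem boxTb : BoxTb := by
  intro hTa m hm k _ _ _ X f _ _ w₀ hw₀
  obtain ⟨L⟩ := hTa m hm k X w₀ hw₀
  have S := Asm.sys' X.D
  obtain ⟨Ξ, Ξ', h1, h2, h3, h4, h5, h6, h7, h8⟩ := main L S rfl
    (show 2 ^ 3 ≤ _ from Nat.pow_le_pow_right two_pos (by omega)) (by
      rw [pow_succ, pow_mul, Nat.mul_mod, Nat.pow_mod]
      simp)
  have hR : ∀ u, RW f u 1 = res _ (Asm.R X.D (Tw X.D u) 1) := fun u =>
    (funext (R_eq_RW f (yw_mem X.D u) (yw_rp X.D u) (lab_one f _))).symm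
  have hE : ∀ φ : ↥(GF X.F ⊤) → ℂ, res _ (extendByZero _ φ) = φ := fun φ => funext fun g => extendByZero_of_mem _ φ g.2
  refine ⟨⟨res _ Ξ, res _ Ξ', fun g h => h1 g g.2 h h.2, fun g h => h2 g g.2 h h.2, fun χ => ?_,
    (ip_eq_classInner Ξ' Ξ').symm.trans h4, fun u => ?_, fun φ _ hφ => ?_, ?_, fun u hu => ?_⟩⟩
  · have := h3 (extendByZero _ χ.1) (by rw [hE]; exact isIrr_isCharacter χ.2)
    rwa [ip_eq_classInner, ip_eq_classInner, hE] at this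
  · rw [hR, ← ip_eq_classInner]
    exact h5 _ (Tw_mem u)
  · rw [← hE φ, ← ip_eq_classInner]
    refine ip_unif_zero S h6 fun T hT θ hθ => ?_
    obtain ⟨w, c, -, e⟩ := RW_all f hT hθ
    rw [ip_eq_classInner, hE, e, hφ]
  · rw [hR, ← ip_eq_classInner]
    exact h7
  · rw [hR, ← ip_eq_classInner]
    exact h8 _ (Tw_mem u) (by rwa [card_Tw])

end Cfsg.Agent.KZ.TF.TbC
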