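import Cfsg.Agent.KZ.TF.RowG
import Cfsg.Agent.KZ.TF.Iface
import Cfsg.Agent.KZ.G2.Brg
import Cfsg.Agent.KZ.G2.Mat
import Cfsg.Agent.KZ.McX.TF4
import Cfsg.Agent.KZ.Lie.Loc

/-!
# KZ, the row of `²F₄(q)` (helper22)

`BoxFin` : `k0 ≤ 9` and `disj`; `row_tf4 : BoxApi → BoxRw → BoxFin → Row fun S _ => Iso2F4 S`.
-/

set_option autoImplicit false
set_option linter.unusedSectionVars false

namespace Cfsg.Agent.KZ.TF

open Cfsg Cfsg.Agent.DL Cfsg.Agent.DL.PP Cfsg.Agent.DL.Uni Cfsg.Agent.DL.Asm Cfsg.Agent.KZ.Lie Matrix Cfsg.Agent.KZ.G2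
  Cfsg.Agent.KZ.McX Cfsg.Agent.KZ.DatX Cfsg.Agent.Characters.Core

section

variable {p : ℕ} [Fact p.Prime] {k : Type} [Field k] [CharP k p] {Y : Type} [Group Y] {N : Type} [Fintype N]
  [DecidableEq N] {ρ : Y →* GL N k} {F : MulAut Y} {G : Subgroup Y} [IsAlgClosed k] {D : Datum p ρ F G}
  {Adm : Matrix D.R D.R ℤ → Prop} {w₀ : D.W}

variable (D w₀) in
/-- the combinatorial input -/
structure Cc where
  σ : D.W
  r : D.W
  s : Lbl D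
  σ_mem : σ ∈ CW D w₀
  σ_ne : σ ≠ 1
  σ_cube : σ ^ 3 = 1
  r_mem : r ∈ CW D w₀
  rσ : r * σ * r⁻¹ * σ = 1
  nine : ¬ 3 ^ 2 ∣ Nat.card (CW D w₀)
  s_cube : s ^ 3 = 1
  s_ne : s ≠ 1
  s_fx : Fx D w₀ s
  s_σ : Rel D σ s s
  s_r : Rel D r s s
  fixed : ∀ c, Fx D w₀ c → Rel D σ c c → c = 1 ∨ c = s ∨ c = s⁻¹
  faith : ∀ x ∈ CW D w₀, (∀ c, Fx D w₀ c → c ^ 3 = 1 → Rel D x c c) → x = 1

/-- the input in terms of matrices -/
theorem exists_cc {Q : ℤ} {P A B U1 U2 U3 : Matrix D.R D.R ℤ} (h : Gt D w₀ Q P) (h9 : ¬ 3 ^ 2 ∣ Nat.card (CW D w₀))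
    {σ r : D.W} (hσ : D.Wm σ = A) (hr : D.Wm r = B) {xs y0 x1 : D.R → ℤ}
    (H : (A * P = P * A ∧ A * (A * A) = 1 ∧ A ≠ 1) ∧ B * P = P * B ∧ A * B * A = B ∧ (A - 1) * (A * A - 1) = (3 : ℤ) • 1 ∧
      1 = vecMulVec y0 xs + (A - 1) * U1 + (P - 1) * U2 + (3 : ℤ) • U3 ∧ (∀ j, 3 ∣ (xs ᵥ* A - xs) j) ∧
      (∀ j, 3 ∣ (xs ᵥ* B - xs) j) ∧ (∀ j, 3 ∣ (xs ᵥ* P - xs) j) ∧ (∀ j, 3 ∣ (x1 ᵥ* P - x1) j) ∧ ∃ j, ¬ 3 ∣ xs j)
    (hf : ∀ x, (∀ j, 3 ∣ (xs ᵥ* D.Wm x - xs) j) → (∀ j, 3 ∣ (x1 ᵥ* D.Wm x - x1) j) → D.Wm x * P = P * D.Wm x → D.Wm x = 1) :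
    Nonempty (Cc D w₀) := by
  subst hσ hr
  obtain ⟨⟨h1, h2, h3⟩, h4, h5, h6, h7, h8, h10, h11, h12, j, hj⟩ := H
  obtain ⟨ω, hω⟩ := exists_omega
  obtain ⟨n, hn⟩ := h.dvd
  have h0 : D.Wm w₀ * D.Mx = (3 * n + 1) • P := sub_eq_iff_eq_add.1 hn ▸ h.eq
  have c3 : ∀ x : D.R → ℤ, coch x ω ^ 3 = 1 := fun x => by rw [← map_pow, hω.pow_eq_one, map_one]
  exact ⟨{
    σ := σ
    r := r
    s := coch xs ω
    σ_mem := h.mem_CW.2 h1
    σ_ne := fun e => h3 (by rw [e, D.Wm_one])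
    σ_cube := wm_one (by rw [pow_three, D.Wm_mul, D.Wm_mul, h2])
    r_mem := h.mem_CW.2 h4
    rσ := by
      have e : σ * r * σ = r := D.Wm_injective (by rw [D.Wm_mul, D.Wm_mul, h5])
      calc r * σ * r⁻¹ * σ = r * σ * (σ * r * σ)⁻¹ * σ := by rw [e]
        _ = 1 := by group
    nine := h9
    s_cube := c3 _
    s_ne := fun e => hj ((hω.zpow_eq_one_iff_dvd _).1 (congrFun e j))
    s_fx := Cm.fx_coch h0 hω h11
    s_σ := (tr_coch hω).2 h8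
    s_r := (tr_coch hω).2 h10
    fixed := fun c e1 e2 => by
      have a1 : ∀ v, chr ((D.Wm σ - 1) *ᵥ v) c = 1 := fun v => by
        rw [sub_mulVec, one_mulVec, DL.chr_sub, e2, mul_inv_cancel]
      have a3 : ∀ v, chr v c ^ (3 : ℤ) = 1 := fun v => by
        rw [← DL.chr_zsmul, ← a1 ((D.Wm σ * D.Wm σ - 1) *ᵥ v), mulVec_mulVec, h6, smul_mulVec, one_mulVec]
      have a4 : ∀ v, chr ((P - 1) *ᵥ v) c = 1 := fun v => by
        rw [sub_mulVec, one_mulVec, DL.chr_sub, ← e1 v, h0, smul_mulVec, DL.chr_zsmul, _root_.zpow_add_one,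
          _root_.zpow_mul, a3, _root_.one_zpow, one_mul, mul_inv_cancel]
      have a5 : c = coch xs (chr y0 c) := eq_of_chr D fun v => by
        have b1 := congrArg (fun B => chr (B *ᵥ v) c) h7
        simp only [one_mulVec, add_mulVec, DL.chr_add, ← mulVec_mulVec, a1, a4, smul_mulVec, DL.chr_zsmul, a3, mul_one,
          vecMulVec_mulVec, op_smul_eq_smul] at b1
        rw [b1, DL.chr_coch, dotProduct_comm]
        rfl
      obtain ⟨i, hi, h4⟩ := hω.eq_pow_of_mem_rootsOfUnity (ξ := chr y0 c) (by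
        rw [mem_rootsOfUnity, ← zpow_natCast]; exact a3 _)
      rw [a5, ← h4]
      interval_cases i
      · exact .inl (by rw [pow_zero, map_one])
      · exact .inr (.inl (by rw [pow_one]))
      · exact .inr (.inr (by rw [← map_inv, eq_inv_of_mul_eq_one_left ((pow_succ ω 2).symm.trans hω.pow_eq_one)]))
    faith := fun x hx e => wm_one (hf x ((tr_coch hω).1 (e _ (Cm.fx_coch h0 hω h11) (c3 _)))
      ((tr_coch hω).1 (e _ (Cm.fx_coch h0 hω h12) (c3 _))) (h.mem_CW.1 hx)) }⟩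

variable {f : Fr D} [Fintype ↥(GF F G)] {S : Type} [Group S] {s : Sit D Adm S} {z : D.W} (hz : D.Wm z = -1)
  (adm : ∀ A, Adm A → ∃ n : ℤ, ¬ 3 ∣ n ∧ A = n • 1) (hA : Api f) (hπ : Function.Injective s.π) (hH : s.H0 = GF F G)

include hz in
theorem z_tc (w : D.W) : Tc D z w w := by rw [tc_mat, hz, mul_neg, neg_mul, mul_one, one_mul]

include hz adm hA in
theorem RW_fix {α : MulAut Y} {A : Matrix D.R D.R ℤ} (h : Au D α A) (h' : Adm A) {w : D.W} {c : Lbl D} (hw : Fx D w c)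
    (hc : c ^ 3 = 1) (g : ↥(GF F G)) : RW f w c (h.aut g) = RW f w c g := by
  obtain ⟨n, hn, rfl⟩ := adm A h'
  rw [((hA.aut α _ h).2 w w _ c (by rw [mul_smul_comm, smul_mul_assoc, mul_one, one_mul]) (tr_iff.2 rfl) hw).2 g _
    (h.coe_aut g), mon_smul_one]
  rcases zpow_of_cube hc hn with ⟨-, e⟩ | ⟨-, e⟩ <;> rw [e]
  rw [hA.conj _ _ _ c⁻¹ c (z_tc hz w) (by rw [rel_iff, hz, transpose_neg, transpose_one, DL.mon_neg, DL.mon_one])]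

include hz adm hA hπ hH

theorem exists_lg2 {A : Type} [Group A] {N₀ : Subgroup A} {P : Sylow 3 A} (L : Loc2 f s w₀ A N₀ P) [N₀.Normal]
    (C : Cc D w₀) : Nonempty (LG2 (N₀.subgroupOf L.Ah) (TT L)) := by
  have st : ∀ (n : ↥(N₀.subgroupOf L.Ah)) (c : ↥(FxS D w₀)), n.1 ∈ stb (Th L hπ c) ↔ Rel D (om L n) c.1 c.1 :=
    fun n c => by rw [mem_stb_Th L hπ hA hH, rel_iff, om_B]
  have cube : ∀ (c : ↥(FxS D w₀)) (n : ℕ), Th L hπ c ^ n = 1 ↔ c.1 ^ n = 1 := fun c n => by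
    rw [show Th L hπ c ^ n = Th L hπ (c ^ n) from (map_pow (Th L hπ) c n).symm, map_eq_one_iff _ (Th_inj L hπ hA hH),
      Subtype.ext_iff]
    rfl
  obtain ⟨g, hσ⟩ := om_surj L C.σ_mem
  obtain ⟨r, hr⟩ := om_surj L C.r_mem
  obtain ⟨s', hs⟩ : ∃ s' : ↥(FxS D w₀), s'.1 = C.s := ⟨⟨C.s, C.s_fx⟩, rfl⟩
  refine ⟨{
    normal := inferInstance
    le := fun t ht => (L.N1_eq.le (L.Tb_le ht)).2
    comm := fun a ha b hb => Subtype.ext (L.Tb_comm a ha b hb)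
    act := fun x => ?_
    faith := fun x hx h => (om_ker L ⟨x, hx⟩).1 (C.faith _ (om_mem L _) fun c hc h3 =>
      (st ⟨x, hx⟩ ⟨c, hc⟩).1 (mem_HH.1 h _ ((cube _ _).2 h3)))
    g := g
    r := r
    g_mem := g.2
    r_mem := r.2
    g_not := fun h => C.σ_ne (hσ.symm.trans ((om_ker L g).2 h))
    g_cube := (om_ker L (g ^ 3)).1 (by rw [map_pow, hσ, C.σ_cube])
    rg := (om_ker L (r * g * r⁻¹ * g)).1 (by rw [map_mul, map_mul, map_mul, map_inv, hσ, hr, C.rσ])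
    nine := ?_
    θ := Th L hπ s'
    θ_cube := (cube _ _).2 (by rw [hs, C.s_cube])
    θ_ne := fun h => C.s_ne (hs.symm.trans (congrArg Subtype.val ((map_eq_one_iff _ (Th_inj L hπ hA hH)).1 h)))
    θ_g := (st g _).2 (by rw [hσ, hs]; exact C.s_σ)
    θ_r := (st r _).2 (by rw [hr, hs]; exact C.s_r)
    fixed := fun μ h2 => ?_ }⟩
  · obtain ⟨v, A', h1, h2⟩ := L.B_adm x x.2
    obtain ⟨n, hn, rfl⟩ := adm A' h1
    have h3 := L.B_comm x x.2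
    rw [mul_smul_comm, mul_one] at h2
    rw [h2, smul_mul_assoc, mul_smul_comm] at h3
    have hv : v ∈ CW D w₀ := tc_mat.2 (smul_right_injective _ (show n ≠ 0 by omega) h3)
    obtain ⟨u, hu, h4⟩ : ∃ u ∈ CW D w₀, ∀ c : Lbl D, c ^ 3 = 1 → mon (D.Wm u)ᵀ c = mon (L.B x)ᵀ c := by
      have h5 : ∀ c : Lbl D, c ^ 3 = 1 → mon (D.Wm v)ᵀ c ^ 3 = 1 := fun c hc => by rw [← map_pow, hc, map_one]
      by_cases h6 : 3 ∣ n - 1
      · refine ⟨v, hv, fun c hc => ?_⟩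
        rw [h2, transpose_smul, DL.mon_zsmul]
        rcases zpow_of_cube (h5 c hc) hn with ⟨-, e⟩ | ⟨h7, -⟩
        · exact e.symm
        · omega
      · refine ⟨v * z, mul_mem hv (z_tc hz w₀), fun c hc => ?_⟩
        rw [h2, transpose_smul, DL.mon_zsmul, D.Wm_mul, hz, mul_neg, mul_one, transpose_neg, DL.mon_neg]
        rcases zpow_of_cube (h5 c hc) hn with ⟨h7, -⟩ | ⟨-, e⟩
        · omega
        · exact e.symm
    obtain ⟨⟨m, hm⟩, h5⟩ := om_surj L hu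
    refine ⟨m, hm, mem_HH.2 fun μ hμ t => ?_⟩
    obtain ⟨c, hc⟩ := Th_surj L hπ (cjm μ m⁻¹)
    obtain ⟨h6, h7⟩ := Th_cj L hπ x c
    obtain ⟨h8, h9⟩ := Th_cj L hπ m c
    have h10 : cjm (Th L hπ c) x = cjm (Th L hπ c) m := by
      rw [h7, h9]
      congr 2
      rw [← h4 c ((cube _ _).1 (by rw [hc]; exact cjm_pow hμ _)), ← h5, ← om_B]
    have h11 := DFunLike.congr_fun h10 t
    rw [hc, cjm_apply, cjm_apply, cjm_apply, cjm_apply, ← MulAut.mul_apply, ← MulAut.mul_apply, ← map_mul, ← map_mul,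
      inv_mul_cancel, map_one, MulAut.one_apply] at h11
    exact h11
  · rw [Subgroup.relIndex, show (TT L).subgroupOf _ = (om L).ker from Subgroup.ext fun x => (om_ker L x).symm,
      Subgroup.index_ker, show (om L).range = CW D w₀ from Subgroup.ext fun u => ⟨fun ⟨x, e⟩ => e ▸ om_mem L x, om_surj L⟩]
    exact C.nine
  · obtain ⟨c, rfl⟩ := Th_surj L hπ μ
    rcases C.fixed c c.2 (hσ ▸ (st g c).1 h2) with e | e | e
    · exact .inl (by rw [show c = 1 from Subtype.ext e, map_one])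
    · exact .inr (.inl (congrArg _ (Subtype.ext (e.trans hs.symm))))
    · exact .inr (.inr ((congrArg _ (Subtype.ext (by rw [e, ← hs]; rfl))).trans (map_inv (Th L hπ) s')))

theorem nab_facts2 {A : Type} [Group A] [Finite A] {N₀ : Subgroup A} {P : Sylow 3 A} (L : Loc2 f s w₀ A N₀ P) [N₀.Normal]
    (C : Cc D w₀) : (¬ 3 ∣ N₀.index → nab P ≤ 9 ∧
      ∃ Q : Sylow 3 A, N₀ ⊔ Subgroup.centralizer ((Q : Subgroup A) : Set A) = ⊤) ∧ (3 ∣ N₀.index → 27 ≤ nab P) := by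
  have : Fact (Nat.Prime 3) := ⟨Nat.prime_three⟩
  obtain ⟨Q⟩ := exists_lg2 hz adm hA hπ hH L C
  have h1 : (N₀.subgroupOf L.Ah).index = N₀.index := by
    rw [← N₀.relIndex_top_right, ← L.sup, Subgroup.relIndex_sup_left]
    rfl
  rw [← h1, ← Red.nab_subtype P L.P_le]
  obtain ⟨h2, h3⟩ := Q.facts (P.subtype L.P_le)
  refine ⟨fun h => ⟨(h2 h).1, ?_⟩, h3⟩
  obtain ⟨R, hR⟩ := (h2 h).2
  exact exists_sup (fun e => P.not_dvd_index (e.trans (Subgroup.index_dvd_of_le L.P_le))) L.sup R hR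

theorem mem_facts2 {r : ℤ} (R : Rw f r) (disj : ∀ χ : IrrCharacter ↥(GF F G),
      classInner (χ : ↥(GF F G) → ℂ) (RW f (R.w 4) 1) ≠ 0 → classInner (χ : ↥(GF F G) → ℂ) (RW f (R.w 4) (R.s 1)) = 0)
    {M : Ideal AlgInt} (hM : IsPModular 3 M) : k0 M S = k0 M ↥(GF F G) ∧
      ∃ e : Fin 3 → IrrCharacter S, Function.Injective e ∧ ∀ i, Mem M (e i) ∧ Nontriv (e i) ∧ ∀ σ, Fixes σ (e i) := by
  classical
  have := s.finite
  have := finite_irr (G := ↥(GF F G))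
  have := Fintype.ofFinite (IrrCharacter ↥(GF F G))
  obtain ⟨ε, hε⟩ : ∃ ε : S ≃* ↥(GF F G), ∀ h : ↥s.H0, ε (s.π h) = ⟨h, s.le h.2⟩ :=
    ⟨(MulEquiv.ofBijective s.π ⟨hπ, s.surj⟩).symm.trans (MulEquiv.subgroupCongr hH), fun h =>
      congrArg (MulEquiv.subgroupCongr hH) ((MulEquiv.ofBijective s.π ⟨hπ, s.surj⟩).symm_apply_apply h)⟩
  obtain ⟨x, y, u, hxy, hxu, hyu, ax, bx, ay, by0, au, bu, r0⟩ := shape (a := mu (RW f (R.w 4) (R.s 1)))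
    (b := mu (RW f (R.w 1) (R.s 0))) (fun χ => two_dvd_mu (hA.gen _ _) (hA.gen _ _) R.half (funext fun g => by
      simp only [Pi.add_apply]; ring) χ) (sum_mu_sq (n := 6) (hA.gen _ _) (R.ips 1 1)) (sum_mu_sq (n := 2) (hA.gen _ _)
      (R.ips 0 0)) (sum_mu (n := 0) (hA.gen _ _) (hA.gen _ _) ((R.ips 1 0).trans Nat.cast_zero.symm))
  have ax' := sq_eq_one_iff.1 ax
  have au' := sq_eq_one_iff.1 au
  have ay' := sq_eq_sq_iff_eq_or_eq_neg.1 (ay.trans (by norm_num : (4 : ℤ) = 2 ^ 2))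
  have key : ∀ χ ∈ [x, y, u], ¬ 3 ∣ mu (RW f (R.w 4) (R.s 1)) χ ∧ ∀ j, mu (RW f (R.w 4) (R.s 1)) j = mu (RW f (R.w 4) (R.s 1)) χ →
      mu (RW f (R.w 1) (R.s 0)) j = mu (RW f (R.w 1) (R.s 0)) χ → j = χ := fun χ hχ => by
    simp only [List.mem_cons, List.not_mem_nil, or_false] at hχ
    refine ⟨by rcases hχ with rfl | rfl | rfl <;> omega, fun j e1 e2 => ?_⟩
    have h1 : j = x ∨ j = y ∨ j = u := by
      by_contra! h5
      have := (r0 j h5.1 h5.2.1 h5.2.2).1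
      rcases hχ with rfl | rfl | rfl <;> omega
    rcases hχ with rfl | rfl | rfl <;> rcases h1 with rfl | rfl | rfl <;> first | rfl | omega
  have h1 : ∀ i, ![x, y, u] i ∈ [x, y, u] := fun i => by fin_cases i <;> simp
  refine ⟨Res.k0_congr hM ε, fun i => Res.tr ε (![x, y, u] i), (Res.tr ε).injective.comp fun i j e => ?_, fun i => ?_⟩
  · fin_cases i <;> fin_cases j <;> simp_all
  obtain ⟨h2, h3⟩ := key _ (h1 i)
  beta_reduce
  generalize ![x, y, u] i = χ at h2 h3 ⊢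
  have h4 : classInner (χ : ↥(GF F G) → ℂ) (RW f (R.w 4) 1) = (0 : ℤ) := by_contra fun e =>
    h2 (by rw [mu_eq ((disj χ (by simpa using e)).trans Int.cast_zero.symm)]; exact dvd_zero 3)
  refine ⟨(Res.mem_tr hM ε).2 ((R.mem M hM χ _ _ h4 (mu_spec (hA.gen _ _) χ)).2 (by omega)), Res.nontriv_tr ε fun e => ?_,
    Sit.Dn.fixes (s := s) (χ := χ) (fun x => by rw [Res.tr_apply, hε]) fun α A h h' g => ?_⟩
  · rw [e, R.one] at h4
    norm_num at h4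
  · exact congrFun (congrArg Subtype.val (h3 ⟨_, isIrr_comp h.aut.toMonoidHom h.aut.surjective χ.2⟩
      (mu_aut h.aut (RW_fix hz adm hA h h' (R.s_fx 1) (R.s_pow 1)) fun _ => rfl)
      (mu_aut h.aut (RW_fix hz adm hA h h' (R.s_fx 0) (R.s_pow 0)) fun _ => rfl))) g

end

/-- an involution -/
def rF : Matrix (Fin 4) (Fin 4) ℤ := !![0, 1, 1, 1; 1, 2, 1, 0; -2, -4, -3, -1; 2, 2, 2, 1]

/-- fixed vectors modulo three -/
def xF : Fin 4 → ℤ := ![0, 1, 0, 1]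

/-- fixed vectors modulo three -/
def yF : Fin 4 → ℤ := ![1, 0, -1, 0]

theorem matF : (aF * J4 = J4 * aF ∧ aF * (aF * aF) = 1 ∧ aF ≠ 1) ∧ rF * J4 = J4 * rF ∧ aF * rF * aF = rF ∧
    (aF - 1) * (aF * aF - 1) = (3 : ℤ) • 1 ∧
    1 = vecMulVec ![0, 0, 0, 1] xF + (aF - 1) * !![0, 0, 0, 0; 0, 0, 0, 0; 0, 0, 0, 0; 1, 0, -1, 0] +
      (J4 - 1) * !![0, 0, 0, 0; 0, 0, 0, 0; -1, 0, 0, 0; 1, -1, 0, 0] +
      (3 : ℤ) • !![0, 0, 0, 0; 0, 0, 0, 0; 0, 0, 0, 0; 1, 0, 0, 0] ∧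
    (∀ j, 3 ∣ (xF ᵥ* aF - xF) j) ∧ (∀ j, 3 ∣ (xF ᵥ* rF - xF) j) ∧
    (∀ j, 3 ∣ (xF ᵥ* J4 - xF) j) ∧ (∀ j, 3 ∣ (yF ᵥ* J4 - yF) j) ∧
    ∃ j, ¬ (3 : ℤ) ∣ xF j := by decide +kernel

theorem faithF : ∀ L ∈ wordsF4, (∀ j, 3 ∣ (xF ᵥ* mW L 1 - xF) j) →
    (∀ j, 3 ∣ (yF ᵥ* mW L 1 - yF) j) → mW L 1 * J4 = J4 * mW L 1 → mW L 1 = 1 := by decide +kernel

/-- the output of `KZ/TF/Fin` -/
def BoxFin : Prop :=
  ∀ (m : ℕ), 1 ≤ m → ∀ (k : Type) [Field k] [CharP k 2] [IsAlgClosed k] (X : XF hpF4 2 k ((2 : ℤ) ^ m • GamF)) (f : Fr X.D)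
    [Fintype ↥(GF X.F ⊤)], Api f → ∀ R : Rw f (2 ^ m), (∀ M, IsPModular 3 M → k0 M ↥(GF X.F ⊤) ≤ 9) ∧
      ∀ χ : IrrCharacter ↥(GF X.F ⊤), classInner (χ : ↥(GF X.F ⊤) → ℂ) (RW f (R.w 4) 1) ≠ 0 →
        classInner (χ : ↥(GF X.F ⊤) → ℂ) (RW f (R.w 4) (R.s 1)) = 0

theorem admF_two {A : Matrix (Fin 4) (Fin 4) ℤ} (h : AdmF 2 A) : ∃ n : ℤ, ¬ 3 ∣ n ∧ A = n • 1 :=
  let ⟨_, hj⟩ := h
  ⟨_, fun e => absurd (Int.prime_three.dvd_of_dvd_pow e) (by decide), hj⟩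

theorem mem_tf4 (hA : BoxApi) (hR : BoxRw) (hF : BoxFin) {S : Type} [Group S] (h : Lie.Iso2F4 S) {M : Ideal AlgInt}
    (hM : IsPModular 3 M) : k0 M S ≤ 9 ∧ ∃ e : Fin 3 → IrrCharacter S, Function.Injective e ∧
      ∀ i, Mem M (e i) ∧ Nontriv (e i) ∧ ∀ σ, Fixes σ (e i) := by
  obtain ⟨m, hm, k, _, _, _, X, ⟨s⟩⟩ := row_2F4 h
  have := X.finite
  have := Fintype.ofFinite ↥(GF X.F ⊤)
  obtain ⟨f⟩ := nonempty_fr X.D
  obtain ⟨z, hz⟩ := X.exists_neg_F4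
  have h1 := hA f X.D_qs
  obtain ⟨R⟩ := hR m hm k X f h1
  obtain ⟨h2, h3⟩ := hF m hm k X f h1 R
  obtain ⟨h4, h5⟩ := mem_facts2 (s := s.sit) hz (fun _ => admF_two) h1 s.sit_π_inj s.H0_eq R h3 hM
  exact ⟨h4.trans_le (h2 M hM), h5⟩

theorem nab_tf4 (hA : BoxApi) {A : Type} [Group A] [Finite A] {N₀ : Subgroup A} [N₀.Normal] (h : Lie.Iso2F4 ↥N₀)
    (P : Sylow 3 A) : (¬ 3 ∣ N₀.index → nab P ≤ 9 ∧
      ∃ Q : Sylow 3 A, N₀ ⊔ Subgroup.centralizer ((Q : Subgroup A) : Set A) = ⊤) ∧ (3 ∣ N₀.index → 27 ≤ nab P) := by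
  obtain ⟨m, hm, k, _, _, _, X, ⟨s⟩⟩ := row_2F4 h
  have := X.finite
  have := Fintype.ofFinite ↥(GF X.F ⊤)
  obtain ⟨f⟩ := nonempty_fr X.D
  obtain ⟨z, hz⟩ := X.exists_neg_F4
  obtain ⟨w₀, g⟩ := exists_gtF X
  obtain ⟨L⟩ := exists_loc s.sit (hA f X.D_qs) (by decide) (g.cardF (by decide)) g.admF g.regF
    (.inr (by rw [h1_top s.H0_eq, Subgroup.index_top]; decide)) A N₀ (MulEquiv.refl _) P
  obtain ⟨C⟩ := exists_cc g (not_nineF X w₀) ((X.Wm_word [0, 1, 2, 1, 0, 2, 1, 2, 3, 2, 1, 0, 2, 1, 2, 3]).trans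
    (prod_eq_of isRows_F4 _ (B := aF) (by decide +kernel))) ((X.Wm_word [2, 1, 0, 2, 3, 2, 1, 2]).trans
      (prod_eq_of isRows_F4 _ (B := rF) (by decide +kernel))) matF fun x => by
        obtain ⟨L, hL, rfl⟩ := exists_wordF4 X x
        have h1 := faithF L hL
        rw [mW_eq, mul_one, ← X.Wm_word] at h1
        exact h1
  exact nab_facts2 hz (fun _ => admF_two) (hA f X.D_qs) s.sit_π_inj s.H0_eq L C

/-- `Box.tf4` -/
theorem row_tf4 (hA : BoxApi) (hR : BoxRw) (hF : BoxFin) : Row fun S _ => Lie.Iso2F4 S := by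
  refine Row.of_one Tool.toolOne (fun M hM A _ _ N h1 h2 P h3 => ?_) (fun M hM A _ _ N h1 h2 h3 P h4 => ?_)
    fun M hM S _ _ _ _ _ h => ?_
  · have := h1.normal
    obtain ⟨h4, h5⟩ := nab_tf4 hA h2 P
    by_cases h6 : 3 ∣ N.index
    · have := h5 h6
      omega
    · obtain ⟨Q, hQ⟩ := (h4 h6).2
      rw [Res.same hM h6 Q hQ]
      exact (mem_tf4 hA hR hF h2 hM).1
  · have := h1.normal
    rcases h3 with h3 | h3
    · have := ((nab_tf4 hA h2 P).1 h3).1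
      omega
    · obtain ⟨-, e, he, h⟩ := mem_tf4 hA hR hF h2 hM
      refine le_trans (by norm_num) (Res.twelve_le hM h1.cent h3 (Res.p4_of_fam (ι := Option (Fin 3))
        (fun i => i.elim (Tool.triv _) e) (by simp) (fun i => ?_) (fun i j hij => ?_) fun σ _ _ i => ?_))
      · cases i
        · exact Tool.mem_triv hM
        · exact (h _).1
      · cases i <;> cases j
        · rfl
        · exact absurd hij.symm (Tool.nontriv_iff.1 (h _).2.1)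
        · exact absurd hij (Tool.nontriv_iff.1 (h _).2.1)
        · exact congrArg _ (he hij)
      · cases i
        · exact fun _ => rfl
        · exact (h _).2.2 σ
  · obtain ⟨-, e, -, h⟩ := mem_tf4 hA hR hF h hM
    exact ⟨e 0, h 0⟩

end Cfsg.Agent.KZ.TF
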