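import Cfsg.Agent.KZ.TF.W1
import Cfsg.Agent.KZ.TF.Row

/-!
# KZ, `²F₄`: the labels of order three, the first half of `BoxRw` (helper29)

`leviOK_of`, `Cc.mem_iff` : general facts; `lab3`, `RW_three`, `half_gen`, `mem_wT`; `rw0`.
-/

set_option autoImplicit false
set_option linter.unusedSectionVars false

namespace Cfsg.Agent.KZ.TF

open Cfsg Cfsg.Lie Cfsg.Agent.DL Cfsg.Agent.DL.PP Cfsg.Agent.DL.Uni Cfsg.Agent.Nodes.Reps Cfsg.Agent.KZ.Lie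
  Cfsg.Agent.KZ.DatX Cfsg.Agent.KZ.McX Matrix Cfsg.Agent.Characters.Core Cfsg.Agent.KZ.G2
open Cfsg.Agent.ChevalleyStructure Cfsg.Agent.ChevalleyStructure.CoxeterGeomTypes Cfsg.Agent.Nodes Cfsg.Agent.Nodes.RGDChev

section Gen

variable {p : ℕ} [Fact p.Prime] {k : Type} [Field k] [CharP k p] {Y : Type} [Group Y] {N : Type} [Fintype N]
  [DecidableEq N] {ρ : Y →* GL N k} {F : MulAut Y} {G : Subgroup Y} [IsAlgClosed k] {D : Datum p ρ F G}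

theorem rf_fix {a : D.I → ℤ} (ha : D.Rt a) {y : D.R → ℤ} : D.Wm (D.rf a) *ᵥ y = y ↔ D.wt a ⬝ᵥ y = 0 := by
  have h : D.cor a ≠ 0 := fun e => by
    have h1 : (D.Wm (D.rf a)).det = -1 := sgZ_rf D ha
    rw [D.Wm_rf ha, e, zero_vecMulVec, sub_zero, det_one] at h1
    omega
  rw [D.Wm_rf ha, sub_mulVec, one_mulVec, vecMulVec_mulVec, sub_eq_self, op_smul_eq_smul, smul_eq_zero, or_iff_left h]

theorem leviOK_of {lam y x : D.R → ℤ} {w₁ : D.W} {n : ℤ} (hn : n ≠ 0) (hy : (D.Wm w₁ * D.Mx) *ᵥ y = n • lam)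
    (h : ∀ u ∈ Wl D lam, D.Wm u *ᵥ y = y ∧ x ᵥ* D.Wm u = x) {ξ : ℂˣ} (hc : Fx D w₁ (coch x ξ)) :
    LeviOK D lam w₁ (coch x ξ) where
  stab a ha h1 := by
    have h2 := congrArg (· ⬝ᵥ y) (wt_gw (D := D) w₁ ha)
    simp only [← dotProduct_mulVec, hy, dotProduct_smul, smul_dotProduct,
      (rf_fix ha).1 (h _ ((rf_fix ha).2 h1)).1, smul_zero, smul_eq_zero] at h2
    exact h2.resolve_left hn
  fx := hc
  cen := ⟨ξ, x, fun a ha h1 => by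
    have h3 := (h _ ((rf_fix ha).2 h1)).2
    rw [D.Wm_rf ha, vecMul_sub, vecMul_one, vecMul_vecMulVec, sub_eq_self, smul_eq_zero] at h3
    exact h3.resolve_right (D.wt_ne_zero ha), rfl⟩

variable {f : Fr D} [Fintype ↥(GF F G)] (hA : Api f)
include hA

/-- the membership test -/
theorem Cc.mem_iff {w₀ : D.W} (C : Cc D w₀) (hC : Mc f w₀) (reg : RegC D w₀) (h0 : RW f w₀ C.s⁻¹ = RW f w₀ C.s)
    {M : Ideal AlgInt} (hM : IsPModular 3 M) (χ : IrrCharacter ↥(GF F G)) :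
    Mem M χ ↔ ¬ 3 ∣ mu (RW f w₀ 1) χ + 2 * mu (RW f w₀ C.s) χ := by
  classical
  have hfin : {c : Lbl D | Fx D w₀ c}.Finite := finite_Fx D w₀
  obtain ⟨S, hS⟩ : ∃ S : Finset (Lbl D), ∀ c, c ∈ S ↔ Fx D w₀ c ∧ Is3 D c :=
    ⟨hfin.toFinset.filter (Is3 D), fun c => by simp⟩
  have h1 : Lie.mS f w₀ χ = ((∑ c ∈ S, mu (RW f w₀ c) χ : ℤ) : ℂ) := by
    rw [Lie.mS, Int.cast_sum, ← Finset.sum_congr rfl fun c _ => mu_spec (hA.gen w₀ c) χ]
    refine finsum_mem_eq_sum_of_inter_support_eq (fun c => classInner (χ : ↥(GF F G) → ℂ) (RW f w₀ c))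
      (s := {c | Is3 D c}) (Set.ext fun c => ⟨fun h => ⟨(hS c).2 ⟨?_, h.1⟩, h.2⟩, fun h => ⟨((hS c).1 h.1).2, h.2⟩⟩)
    by_contra h2
    exact h.2 (by beta_reduce; rw [hA.zero _ _ h2, classInner_zero_right])
  rw [hC.all reg M hM χ _ h1]
  have hne : C.s ≠ C.s⁻¹ := fun h => C.s_ne (by
    have h1 := C.s_cube
    rwa [pow_succ, pow_two, eq_inv_iff_mul_eq_one.1 h, one_mul] at h1)
  have h2 : ({1, C.s, C.s⁻¹} : Finset (Lbl D)) ⊆ S := by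
    intro c hc
    simp only [Finset.mem_insert, Finset.mem_singleton] at hc
    rcases hc with rfl | rfl | rfl
    · exact (hS _).2 ⟨G2.fx_one _, 0, one_pow _⟩
    · exact (hS _).2 ⟨C.s_fx, 1, C.s_cube⟩
    · exact (hS _).2 ⟨G2.fx_inv C.s_fx, 1, by rw [inv_pow, pow_one, C.s_cube, inv_one]⟩
  have h3 : ∀ c, Rel D C.σ (mon (D.Wm C.σ)ᵀ c) c := fun c => rel_iff.2 rfl
  have h4 : ∀ c, mon (D.Wm C.σ)ᵀ (mon (D.Wm C.σ)ᵀ (mon (D.Wm C.σ)ᵀ c)) = c := fun c => by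
    have h5 := ((h3 _).trans (h3 _)).trans (h3 c)
    rw [← mul_assoc, ← pow_three', C.σ_cube, rel_iff, D.Wm_one, transpose_one, DL.mon_one] at h5
    exact h5
  have h5 : ∀ c, c ∈ ({1, C.s, C.s⁻¹} : Finset (Lbl D)) → mon (D.Wm C.σ)ᵀ c = c := by
    intro c hc
    simp only [Finset.mem_insert, Finset.mem_singleton] at hc
    rcases hc with rfl | rfl | rfl
    · exact map_one _
    · exact (rel_iff.1 C.s_σ).symm
    · exact (rel_iff.1 (rel_inv C.s_σ)).symm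
  have h6 := three_dvd_sum (mon (D.Wm C.σ)ᵀ) (fun c => mu (RW f w₀ c) χ) (S \ {1, C.s, C.s⁻¹}) (fun c _ => h4 c)
    (fun c hc => by
      obtain ⟨h7, h8⟩ := Finset.mem_sdiff.1 hc
      obtain ⟨h9, j, hj⟩ := (hS c).1 h7
      refine Finset.mem_sdiff.2 ⟨(hS _).2 ⟨fx_of_tc (Tc.symm C.σ_mem) (h3 c).symm h9, j, by
        rw [← map_pow, hj, map_one]⟩, fun h10 => h8 ?_⟩
      rw [← h4 c, h5 _ h10, h5 _ h10]
      exact h10)
    (fun c _ => by rw [hA.conj _ _ _ _ _ C.σ_mem (h3 c)]) fun c hc e => by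
      obtain ⟨h7, h8⟩ := Finset.mem_sdiff.1 hc
      exact h8 (by simpa using C.fixed c ((hS c).1 h7).1 (rel_iff.2 e.symm))
  rw [← Finset.sum_sdiff h2, Finset.sum_insert (by simp [C.s_ne.symm, C.s_ne]), Finset.sum_pair hne, h0,
    Int.dvd_add_right h6, two_mul]

end Gen

/-! ### finite checks -/

/-- congruence modulo three -/
def cg3 (x y : Fin 4 → ℤ) : Bool := (x 0 - y 0) % 3 == 0 && (x 1 - y 1) % 3 == 0 && (x 2 - y 2) % 3 == 0 && (x 3 - y 3) % 3 == 0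

theorem cg3_iff {x y : Fin 4 → ℤ} : cg3 x y = true ↔ ∀ j, 3 ∣ (x - y) j := by
  simp only [cg3, Bool.and_eq_true, beq_iff_eq, Fin.forall_fin_succ, Pi.sub_apply, Int.dvd_iff_emod_eq_zero, and_assoc,
    IsEmpty.forall_iff, and_true]
  rfl

theorem lab_chk : ∀ e ∈ [(1 : ℤ), -1], ∀ i, ∀ a b c d : Fin 3,
    (∀ j, 3 ∣ e * (![(a : ℤ), b, c, d] ᵥ* mW (wd i) G4) j - ![(a : ℤ), b, c, d] j) → (a = 0 ∧ b = 0 ∧ c = 0 ∧ d = 0) ∨
      ∃ t, i = iS t ∧ ∃ V ∈ cwL i, cg3 (xs e t ᵥ* mW V 1) ![(a : ℤ), b, c, d] = true := by decide +kernel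

theorem fx_chk : ∀ e ∈ [(1 : ℤ), -1], ∀ t j, 3 ∣ e * (xs e t ᵥ* mW (wd (iS t)) G4) j - xs e t j := by decide +kernel

theorem stab_chk : ∀ e ∈ [(1 : ℤ), -1], ∀ t, ((cwL (iS t)).countP fun V => cg3 (xs e t ᵥ* mW V 1) (xs e t)) = nS t := by
  decide +kernel

/-- the type of the Levi subgroup -/
def p1 : List (Fin 4) := [1, 0, 2, 1, 2, 3, 2, 1, 0, 2, 1]

/-- the central label -/
def xh (e : ℤ) : Fin 4 → ℤ := if e = 1 then ![0, 0, 2, 1] else ![1, 2, 0, 0]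

theorem wl_chk : (wordsF4.filter fun L => app rowsF4 L [0, 1, 1, 0] == [0, 1, 1, 0]) = [[], [0], [3], [3, 0]] := by
  decide +kernel

theorem half_chk : ∀ e ∈ [(1 : ℤ), -1], (∃ j, ¬ 3 ∣ xh e j) ∧ ∀ L ∈ [[], [0], [3], [3, 0]],
    mW L 1 *ᵥ ![0, 7, -10, 0] = ![0, 7, -10, 0] ∧ xh e ᵥ* mW L 1 = xh e ∧
      ∀ j, 3 ∣ e * (xh e ᵥ* mW (L ++ p1) G4) j - xh e j := by decide +kernel

theorem p1_chk : mW p1 G4 *ᵥ ![0, 7, -10, 0] = (2 : ℤ) • ![0, 1, 1, 0] ∧ cp4 (mW ([] ++ p1) G4) = cpI (iS 0) ∧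
    cp4 (mW ([0] ++ p1) G4) = cpI (iS 1) ∧ cp4 (mW ([3] ++ p1) G4) = cpI (iS 1) ∧
    cp4 (mW ([3, 0] ++ p1) G4) = cpI (iS 0) := by decide +kernel

theorem iS_inj : ∀ a b, iS a = iS b → a = b := by decide

/-! ### the labels -/

variable {m : ℕ} {k : Type} [Field k] [CharP k 2] [IsAlgClosed k] (X : XF hpF4 2 k ((2 : ℤ) ^ m • GamF))

theorem sl_fx (a : Fin 3) : Fx X.D (wT X (iS a)) (sl X a) := (fx_coch X).2 (fx_chk _ (sgn_cases m) a)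

/-- all labels of order three -/
theorem lab3 {u : X.D.W} {c : Lbl X.D} (h3 : c ^ 3 = 1) (h1 : c ≠ 1) (h : Fx X.D u c) :
    ∃ a v, Tc X.D v u (wT X (iS a)) ∧ Rel X.D v c (sl X a) := by
  obtain ⟨i, v, hv⟩ := cls X u
  obtain ⟨c', hc⟩ : ∃ c', Rel X.D v c c' := ⟨_, Rel.symm (u := v⁻¹) (rel_iff.2 rfl) |> (inv_inv v ▸ ·)⟩
  have h4 : c' ^ 3 = 1 := by rw [rel_iff.1 hc.symm, ← map_pow, h3, map_one]
  have h5 : ∀ j : Fin 4, ∃ n : Fin 3, om ^ ((n : ℕ) : ℤ) = c' j := fun j => by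
    obtain ⟨n, hn, e⟩ := om_spec.eq_pow_of_mem_rootsOfUnity (ξ := c' j) ((mem_rootsOfUnity _ _).2 (congrFun h4 j))
    exact ⟨⟨n, hn⟩, (zpow_natCast _ _).trans e⟩
  choose n hn using h5
  obtain rfl : (coch ![(n 0 : ℤ), n 1, n 2, n 3] om : Fin 4 → ℂˣ) = c' := funext fun j => by
    rw [← hn j]
    fin_cases j <;> rfl
  rcases lab_chk _ (sgn_cases m) i _ _ _ _ ((fx_coch X).1 (fx_of_tc hv hc h)) with ⟨a0, a1, a2, a3⟩ | ⟨t, rfl, V, h6, h7⟩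
  · refine absurd (eq_one_of_rel (u := v) ?_) h1
    rw [a0, a1, a2, a3] at hc
    refine (funext fun j : Fin 4 => ?_ : (coch ![((0 : Fin 3) : ℤ), (0 : Fin 3), (0 : Fin 3), (0 : Fin 3)] om : Fin 4 → ℂˣ) = 1) ▸ hc
    fin_cases j <;> rfl
  · exact ⟨t, el X V * v, tc_trans hv ((mem_cw X).2 ⟨V, h6, rfl⟩), hc.trans ((rel_coch X).2 (cg3_iff.1 h7))⟩

theorem mem_wl (L : List (Fin 4)) :
    el X L ∈ Wl X.D ![0, 1, 1, 0] ↔ (app rowsF4 L [0, 1, 1, 0] == [0, 1, 1, 0]) = true := by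
  rw [beq_iff_eq]
  refine Iff.trans ?_ ((app_mW L ![0, 1, 1, 0]).symm ▸ List.ofFn_injective.eq_iff (b := ![0, 1, 1, 0])).symm
  rw [← wm_el X]
  rfl

theorem exists_levi : ∃ c : Lbl X.D, c ^ 3 = 1 ∧ c ≠ 1 ∧ (∀ L ∈ [[], [0], [3], [3, 0]], Fx X.D (el X (L ++ p1)) c) ∧
    LeviOK X.D ![0, 1, 1, 0] (el X p1) c := by
  obtain ⟨⟨j, hj⟩, h1⟩ := half_chk _ (sgn_cases m)
  refine ⟨coch (xh ((-1) ^ m)) om, coch_cube (D := X.D) _, fun e => hj ((om_spec.zpow_eq_one_iff_dvd _).1 (congrFun e j)),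
    fun L hL => (fx_coch X).2 (h1 L hL).2.2, leviOK_of (D := X.D) (y := ![0, 7, -10, 0]) (n := 2 ^ m * 2) (by positivity) ?_
      (fun u hu => ?_) ((fx_coch X).2 (h1 [] (by simp)).2.2)⟩
  · have h5 : ((2 : ℤ) ^ m • (wm X (el X p1) * G4)) *ᵥ ![0, 7, -10, 0] = ((2 : ℤ) ^ m * 2) • ![0, 1, 1, 0] := by
      rw [el_G4, smul_mulVec, p1_chk.1, smul_smul]
    rw [wm_mx]
    exact h5
  · obtain ⟨L, hL, rfl⟩ := exists_el X u
    have h6 := h1 L (wl_chk ▸ List.mem_filter.2 ⟨hL, (mem_wl X L).1 hu⟩)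
    rw [← wm_el X] at h6
    exact ⟨h6.1, h6.2.1⟩

variable {X} {f : Fr X.D} [Fintype ↥(GF X.F ⊤)]

theorem avg_W (U : Subgroup X.D.W) (q : List (Fin 4) → Bool) (h : ∀ L, el X L ∈ U ↔ q L = true) {l : List (List (Fin 4))}
    (hl : wordsF4.filter q = l) (φ : X.D.W → ℂ) (w₁ : X.D.W) (c : Lbl X.D) (g : ↥(GF X.F ⊤)) :
    avg f U φ w₁ c g = (l.length : ℂ)⁻¹ * (l.map fun L => φ (el X L) * RW f (el X L * w₁) c g).sum := by
  rw [avg, sum_W X U q h fun u => φ u * RW f (u * w₁) c g, show Nat.card U = _ from card_W X _ q h,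
    List.countP_eq_length_filter, hl]

variable (hA : Api f)
include hA

theorem RW_three {u : X.D.W} {c : Lbl X.D} (h3 : c ^ 3 = 1) (h1 : c ≠ 1) (h : Fx X.D u c) {a : Fin 3}
    (ha : cp4 (wm X u * G4) = cpI (iS a)) : RW f u c = RW f (wT X (iS a)) (sl X a) := by
  obtain ⟨b, v, h4, h5⟩ := lab3 X h3 h1 h
  rw [hA.conj _ _ _ _ _ h4 h5, iS_inj _ _ (cls_eq X ha h4)]

theorem half_gen : IsGeneralizedCharacter ↥(GF X.F ⊤)
    fun g => 2⁻¹ * (RW f (wT X (iS 0)) (sl X 0) g + RW f (wT X (iS 1)) (sl X 1) g) := by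
  obtain ⟨-, a0, a1, a2, a3⟩ := p1_chk
  obtain ⟨c, h3, h1, h2, h5⟩ := exists_levi X
  have h4 : ∀ L ∈ [[], [0], [3], [3, 0]], ∀ a, cp4 (mW (L ++ p1) G4) = cpI (iS a) →
      RW f (el X L * el X p1) c = RW f (wT X (iS a)) (sl X a) := fun L hL a ha => by
    rw [← el_append]
    exact RW_three hA h3 h1 (h2 L hL) ((congrArg _ (el_G4 X _)).trans ha)
  refine (congrArg _ (funext fun g => (avg_W _ _ (mem_wl X) wl_chk _ _ _ g).trans ?_)).mp (hA.levi _ _ _ h5)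
  simp only [List.map_cons, List.map_nil, List.sum_cons, List.sum_nil, List.length_cons, List.length_nil]
  rw [h4 _ (by simp) _ a0, h4 _ (by simp) _ a1, h4 _ (by simp) _ a2, h4 _ (by simp) _ a3]
  push_cast
  ring

theorem mem_wT {M : Ideal AlgInt} (hM : IsPModular 3 M) (χ : IrrCharacter ↥(GF X.F ⊤)) (a b : ℤ)
    (ha : classInner (χ : ↥(GF X.F ⊤) → ℂ) (RW f (wT X 4) 1) = a)
    (hb : classInner (χ : ↥(GF X.F ⊤) → ℂ) (RW f (wT X 4) (sl X 1)) = b) : Mem M χ ↔ ¬ 3 ∣ a - b := by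
  obtain ⟨w₀, g⟩ := exists_gtF X
  obtain ⟨C⟩ := exists_cc g (not_nineF X w₀) ((X.Wm_word [0, 1, 2, 1, 0, 2, 1, 2, 3, 2, 1, 0, 2, 1, 2, 3]).trans
    (prod_eq_of isRows_F4 _ (B := aF) (by decide +kernel))) ((X.Wm_word [2, 1, 0, 2, 3, 2, 1, 2]).trans
      (prod_eq_of isRows_F4 _ (B := rF) (by decide +kernel))) matF fun x => by
        obtain ⟨L, hL, rfl⟩ := exists_wordF4 X x
        have h1 := faithF L hL
        rw [mW_eq, mul_one, ← X.Wm_word] at h1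
        exact h1
  have h1 : cp4 (wm X w₀ * G4) = cpI (iS 1) := by
    have h2 : (2 : ℤ) ^ m • (wm X w₀ * G4) = (-2 : ℤ) ^ m • J4 := (wm_mx X w₀).symm.trans g.eq
    rw [neg_pow, mul_comm, ← smul_smul] at h2
    have h3 : ∀ e ∈ [(1 : ℤ), -1], cp4 (e • J4) = cpI (iS 1) := by decide +kernel
    rw [smul_right_injective _ (pow_ne_zero m two_ne_zero) h2]
    exact h3 _ (sgn_cases m)
  obtain ⟨v, hv⟩ := cls_of X h1
  have h2 := RW_three hA C.s_cube C.s_ne C.s_fx h1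
  rw [C.mem_iff hA (g.mcF f (by decide)) g.regF ((RW_three hA (by rw [inv_pow, C.s_cube, inv_one]) (inv_ne_one.2 C.s_ne)
    (G2.fx_inv C.s_fx) h1).trans h2.symm) hM, h2, hA.conj _ _ _ _ _ hv (rel_oo v), show mu (RW f (wT X (iS 1)) 1) χ = a from mu_eq ha,
    show mu (RW f (wT X (iS 1)) (sl X 1)) χ = b from mu_eq hb]
  omega

/-- **The first half of `BoxRw`.** -/
theorem rw0 : Nonempty (Rw0 f) := ⟨{
  s := sl X
  cls := cls X
  ord := ord_wT X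
  cw := card_cw X
  card := card_GF hA
  s_fx := sl_fx X
  s_pow := sl_cube X
  s_ne := sl_ne X
  ip1 := fun i i' => by
    split_ifs with h
    · rw [← h, ip_one hA, card_cw]
    · exact (ip_zero hA fun v h1 _ => h (eq_of_tc X h1)).trans Nat.cast_zero
  ips := fun a a' => by
    split_ifs with h
    · rw [← h, hA.ip _ _ _ _ (sl_fx X a) (sl_fx X a), ← stab_chk _ (sgn_cases m) a]
      exact congrArg _ (card_sub X _ _ _ fun L => (rel_coch X).trans cg3_iff.symm)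
    · exact (ip_zero hA fun v h1 _ => h (iS_inj _ _ (eq_of_tc X h1))).trans Nat.cast_zero
  ip1s := fun i a => (ip_zero hA fun v _ h => sl_ne X a (eq_one_of_rel' h)).trans Nat.cast_zero
  one := fun i => by rw [← hA.one]; exact ip_avg_one hA (fun _ => 1) _ fun _ _ _ => rfl
  st := fun i => (ip_avg_one hA (sg X.D) _ fun _ _ h => (sg_tc X.D h).symm).trans (sg_wT X i)
  half := half_gen hA
  mem := fun _ hM => mem_wT hA hM
  three := fun u c h3 h1 h => by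
    obtain ⟨a, v, h4, h5⟩ := lab3 X h3 h1 h
    exact ⟨a, hA.conj _ _ _ _ _ h4 h5⟩
  deg := deg_wT hA }⟩

end Cfsg.Agent.KZ.TF
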