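import Cfsg.Agent.KZ.TF.Iface
import Cfsg.Agent.KZ.G2.Vec

/-!
# KZ, `²F₄(Q)`: the counting argument on integer vectors (helper27)

`card_le_six`: at most six rows have a multiplicity prime to `3` in the column of the torus `D`.
-/

set_option autoImplicit false

namespace Cfsg.Agent.KZ.TF

open Finset

theorem sum_fib {ι κ : Type} [Fintype κ] [DecidableEq κ] (S : Finset ι) (a : ι → κ) (c : κ → ℤ) :
    ∑ x ∈ S, c (a x) = ∑ k, ((S.filter fun x => a x = k).card : ℤ) * c k := by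
  rw [← sum_fiberwise S a]
  refine sum_congr rfl fun k _ => ?_
  rw [sum_congr rfl fun x hx => by rw [(mem_filter.1 hx).2], sum_const, nsmul_eq_mul]

theorem sum_split {ι : Type} [Fintype ι] [DecidableEq ι] {o s : ι} (h : o ≠ s) (P : ι → Prop) [DecidablePred P]
    (g : ι → ℤ) : ∑ x, g x = g o + g s + ∑ x ∈ univ.filter (fun x => x ≠ o ∧ x ≠ s ∧ P x), g x +
      ∑ x ∈ univ.filter (fun x => x ≠ o ∧ x ≠ s ∧ ¬ P x), g x := by
  have h1 : ∀ x, g x = (if x = o then g o else 0) + (if x = s then g s else 0) +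
      (if x ≠ o ∧ x ≠ s ∧ P x then g x else 0) + if x ≠ o ∧ x ≠ s ∧ ¬ P x then g x else 0 := fun x => by
    by_cases e1 : x = o
    · subst e1; simp [h]
    by_cases e2 : x = s
    · subst e2; simp [e1]
    by_cases e3 : P x <;> simp [e1, e2, e3]
  rw [sum_congr rfl fun x _ => h1 x, sum_add_distrib, sum_add_distrib, sum_add_distrib, sum_filter, sum_filter]
  simp only [sum_ite_eq', mem_univ, if_true]

/-- lower bounds for `2 b ^ 2 + ε m b` -/
def lowB : Fin 9 → ℤ := ![0, 0, -4, 0, 0, 4, 4, -2, 4]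

theorem low_le (a : Fin 9) (b ε : ℤ) (hε : ε = 1 ∨ ε = -1) (h1 : a = 0 ∨ a = 1 → b = 0)
    (h2 : a = 5 ∨ a = 6 ∨ a = 8 → 3 ∣ 2 * b - ε * ty a 4) : lowB a ≤ 2 * b ^ 2 + ε * (ty a 4 * b) := by
  have k1 : ∀ x : ℤ, 0 ≤ x * (x + 1) := fun x => by
    rcases le_or_gt 0 x with h | h
    · positivity
    · exact mul_nonneg_of_nonpos_of_nonpos h.le (by omega)
  have k2 : ∀ x : ℤ, 3 ∣ x - 1 → 2 ≤ x * (x + 1) := fun x h => by
    rcases le_or_gt 1 x with h' | h'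
    · nlinarith
    · have : x ≤ -2 := by omega
      nlinarith
  fin_cases a
  · rw [h1 (.inl rfl)]; simp [lowB]
  · rw [h1 (.inr rfl)]; simp [lowB]
  · show (-4 : ℤ) ≤ 2 * b ^ 2 + ε * (-6 * b)
    have := k1 (b + 1)
    have := k1 (-b + 1)
    rcases hε with rfl | rfl <;> nlinarith
  · show (0 : ℤ) ≤ 2 * b ^ 2 + ε * (2 * b)
    have := k1 b
    have := k1 (-b)
    rcases hε with rfl | rfl <;> nlinarith
  · show (0 : ℤ) ≤ 2 * b ^ 2 + ε * (-2 * b)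
    have := k1 b
    have := k1 (-b)
    rcases hε with rfl | rfl <;> nlinarith
  · have h3 : 3 ∣ 2 * b - ε * -2 := h2 (.inl rfl)
    show (4 : ℤ) ≤ 2 * b ^ 2 + ε * (-2 * b)
    rcases hε with rfl | rfl
    · have := k2 (-b) (by omega); nlinarith
    · have := k2 b (by omega); nlinarith
  · have h3 : 3 ∣ 2 * b - ε * -2 := h2 (.inr (.inl rfl))
    show (4 : ℤ) ≤ 2 * b ^ 2 + ε * (-2 * b)
    rcases hε with rfl | rfl
    · have := k2 (-b) (by omega); nlinarith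
    · have := k2 b (by omega); nlinarith
  · show (-2 : ℤ) ≤ 2 * b ^ 2 + ε * (4 * b)
    rcases hε with rfl | rfl
    · nlinarith [sq_nonneg (b + 1)]
    · nlinarith [sq_nonneg (b - 1)]
  · have h3 : 3 ∣ 2 * b - ε * 2 := h2 (.inr (.inr rfl))
    show (4 : ℤ) ≤ 2 * b ^ 2 + ε * (2 * b)
    rcases hε with rfl | rfl
    · have := k2 b (by omega); nlinarith
    · have := k2 (-b) (by omega); nlinarith

theorem card_le_six {ι : Type} [Fintype ι] [DecidableEq ι] (m : ι → Fin 11 → ℤ) (b : ι → ℤ) {ε : ℤ} (hε : ε = 1 ∨ ε = -1)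
    {o s : ι} (hos : o ≠ s) (ho : ∀ i, m o i = 1) (hs : ∀ i, m s i = sG i) (bo : b o = 0) (bs : b s = 0)
    (hty : ∀ x, x ≠ o → x ≠ s → m x 4 ≠ 0 → ∃ a, m x = ty a ∧ (a = 0 ∨ a = 1 → b x = 0) ∧
      (a = 5 ∨ a = 6 ∨ a = 8 → 3 ∣ 2 * b x - ε * ty a 4))
    (hD : ∀ i, ∑ x, m x 4 * m x i = if 4 = i then 48 else 0) (hb : ∑ x, b x ^ 2 = 9) (hbD : ∑ x, m x 4 * b x = 0) :
    (univ.filter fun x => ¬ 3 ∣ m x 4).card ≤ 6 := by
  classical
  choose! a ha using hty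
  obtain ⟨S, hS⟩ : ∃ S : Finset ι, S = univ.filter fun x => x ≠ o ∧ x ≠ s ∧ m x 4 ≠ 0 := ⟨_, rfl⟩
  have hm : ∀ x ∈ S, x ≠ o ∧ x ≠ s ∧ m x 4 ≠ 0 := fun x hx => by rw [hS] at hx; exact (mem_filter.1 hx).2
  obtain ⟨n, hn⟩ : ∃ n : Fin 9 → ℕ, ∀ k, n k = (S.filter fun x => a x = k).card := ⟨_, fun _ => rfl⟩
  have key : ∀ g : (Fin 11 → ℤ) → ℤ, (∀ v, v 4 = 0 → g v = 0) →
      ∑ x, g (m x) = g (m o) + g (m s) + ∑ k, (n k : ℤ) * g (ty k) := fun g hg => by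
    rw [sum_split hos (fun x => m x 4 ≠ 0), ← hS, sum_eq_zero (s := univ.filter _) fun x hx =>
      hg _ (not_not.1 (mem_filter.1 hx).2.2.2), add_zero,
      sum_congr rfl fun x hx => congrArg g (ha x (hm x hx).1 (hm x hx).2.1 (hm x hx).2.2).1,
      sum_fib S a fun k => g (ty k)]
    simp only [hn]
  have eq : ∀ i, 1 + sG i + ∑ k, (n k : ℤ) * (ty k 4 * ty k i) = if 4 = i then 48 else 0 := fun i => by
    rw [← hD i, key (fun v => v 4 * v i) fun v hv => by rw [hv, zero_mul]]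
    simp only [ho, hs, one_mul]
    rw [show sG 4 = 1 from rfl, one_mul]
  have e0 := eq 0
  have e1 := eq 1
  have e4 := eq 4
  have e8 := eq 8
  have e9 := eq 9
  have e10 := eq 10
  have e : ((univ.filter fun x => ¬ 3 ∣ m x 4).card : ℤ) = 2 + ∑ k, (n k : ℤ) * if 3 ∣ ty k 4 then 0 else 1 := by
    have h1 := key (fun v => if 3 ∣ v 4 then 0 else 1) fun v hv => by rw [hv, if_pos (dvd_zero 3)]
    simp only [ho, hs] at h1
    rw [if_neg (by decide), if_neg (by decide)] at h1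
    rw [card_filter, Nat.cast_sum, show (2 : ℤ) = 1 + 1 from rfl, ← h1]
    refine sum_congr rfl fun x _ => ?_
    split_ifs <;> rfl
  have l : ∑ k, (n k : ℤ) * lowB k ≤ 18 := by
    have h1 : ∑ x, (2 * b x ^ 2 + ε * (m x 4 * b x)) = 18 := by
      rw [sum_add_distrib, ← mul_sum, ← mul_sum, hb, hbD]; ring
    rw [sum_split hos (fun x => m x 4 ≠ 0), ← hS, bo, bs] at h1
    have h2 : 0 ≤ ∑ x ∈ univ.filter (fun x => x ≠ o ∧ x ≠ s ∧ ¬ m x 4 ≠ 0), (2 * b x ^ 2 + ε * (m x 4 * b x)) :=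
      sum_nonneg fun x hx => by
        rw [not_not.1 (mem_filter.1 hx).2.2.2, zero_mul, mul_zero, add_zero]; positivity
    have h3 : ∑ x ∈ S, lowB (a x) ≤ ∑ x ∈ S, (2 * b x ^ 2 + ε * (m x 4 * b x)) := sum_le_sum fun x hx => by
      obtain ⟨h4, h5, h6⟩ := ha x (hm x hx).1 (hm x hx).2.1 (hm x hx).2.2
      rw [h4]
      exact low_le _ _ _ hε h5 h6
    rw [sum_fib S a lowB] at h3
    simp only [hn]
    linarith
  simp [Fin.sum_univ_succ, ty, sG, lowB] at e0 e1 e4 e8 e9 e10 l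
  simp only [Fin.sum_univ_succ, Fin.sum_univ_zero] at e
  simp [ty] at e
  omega

end Cfsg.Agent.KZ.TF
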