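import Mathlib

/-!
# KZ, `²F₄`: the checker for the arithmetic filter (helper8)

Polynomials are lists of integers, highest coefficient first.  `chk T f` shows that the odd part of `f (2 ^ k)` never divides
`G3 (2 ^ k)`; `al`, `dt` : the loops of the enumeration.
-/

set_option autoImplicit false

namespace Cfsg.Agent.KZ.TF.Flt

/-! ### forcing -/

/-- evaluate a natural number -/
noncomputable def fN (n : ℕ) (f : ℕ → Bool) : Bool := Nat.rec (f 0) (fun m _ => f (Nat.succ m)) n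

theorem fN_eq (n : ℕ) (f : ℕ → Bool) : fN n f = f n := by cases n <;> rfl

/-- evaluate an integer -/
noncomputable def fI (z : ℤ) (f : ℤ → Bool) : Bool :=
  Int.rec (fun n => fN n fun n => f (Int.ofNat n)) (fun n => fN n fun n => f (Int.negSucc n)) z

theorem fI_eq (z : ℤ) (f : ℤ → Bool) : fI z f = f z := by
  cases z with
  | ofNat n => exact fN_eq n fun n => f (Int.ofNat n)
  | negSucc n => exact fN_eq n fun n => f (Int.negSucc n)

/-- evaluate a list -/
noncomputable def fL (l : List ℤ) : (List ℤ → Bool) → Bool :=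
  List.rec (fun f => f []) (fun c _ ih f => fI c fun c => ih fun l => f (c :: l)) l

theorem fL_eq (l : List ℤ) (f : List ℤ → Bool) : fL l f = f l := by
  induction l generalizing f with
  | nil => rfl
  | cons c l ih => exact (fI_eq c fun c => fL l fun l => f (c :: l)).trans (ih _)

/-! ### polynomials -/

/-- the value -/
noncomputable def ev (r : ℤ) (l : List ℤ) : ℤ := List.rec 0 (fun c l ih => c * r ^ l.length + ih) l

theorem ev_nil (r : ℤ) : ev r [] = 0 := rfl

theorem ev_cons (r c : ℤ) (l : List ℤ) : ev r (c :: l) = c * r ^ l.length + ev r l := rfl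

/-- the Horner scheme -/
noncomputable def hor (r : ℤ) (l : List ℤ) : ℤ → ℤ := List.rec (fun s => s) (fun c _ ih s => ih (Int.add (Int.mul s r) c)) l

theorem hor_eq (r : ℤ) (l : List ℤ) (s : ℤ) : hor r l s = s * r ^ l.length + ev r l := by
  induction l generalizing s with
  | nil => exact (by simp : s = s * r ^ 0 + 0)
  | cons c l ih =>
    refine (ih (s * r + c)).trans ?_
    rw [ev_cons, List.length_cons]
    ring

theorem hor_zero (r : ℤ) (l : List ℤ) : hor r l 0 = ev r l := by rw [hor_eq, zero_mul, zero_add]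

/-- the sum of the absolute values -/
noncomputable def sa (l : List ℤ) : ℕ := List.rec 0 (fun c _ ih => Nat.add c.natAbs ih) l

theorem sa_cons (c : ℤ) (l : List ℤ) : sa (c :: l) = c.natAbs + sa l := rfl

theorem ev_le {r : ℤ} (hr : 1 ≤ r) (l : List ℤ) : |ev r l| * r ≤ sa l * r ^ l.length := by
  induction l with
  | nil => simp [ev_nil]
  | cons c l ih =>
    have h1 : 0 ≤ r ^ l.length := by positivity
    have h2 : |c * r ^ l.length + ev r l| ≤ |c| * r ^ l.length + |ev r l| := by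
      refine (abs_add_le _ _).trans ?_
      rw [abs_mul, abs_of_nonneg h1]
    have h3 : (sa l : ℤ) * r ^ l.length ≤ sa l * r ^ l.length * r := le_mul_of_one_le_right (by positivity) hr
    rw [ev_cons, sa_cons, List.length_cons, pow_succ, Nat.cast_add, Int.natCast_natAbs]
    nlinarith [mul_le_mul_of_nonneg_right h2 (zero_le_one.trans hr)]

theorem dvd_ev_sub (r : ℤ) (l : List ℤ) : r ∣ ev r l - ev 0 l := by
  induction l with
  | nil => exact dvd_zero r
  | cons c l ih =>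
    have h1 : r - 0 ∣ r ^ l.length - 0 ^ l.length := sub_dvd_pow_sub_pow _ _ _
    rw [sub_zero] at h1
    rw [ev_cons, ev_cons, add_sub_add_comm, ← mul_sub]
    exact dvd_add (h1.mul_left c) ih

/-- `a + x b` -/
noncomputable def lin (x : ℤ) (a : List ℤ) : List ℤ → List ℤ :=
  List.rec (fun _ => []) (fun u _ ih b => List.rec [] (fun v b _ => Int.add u (Int.mul x v) :: ih b) b) a

theorem lin_spec (r x : ℤ) {a b : List ℤ} (h : a.length = b.length) :
    (lin x a b).length = a.length ∧ ev r (lin x a b) = ev r a + x * ev r b := by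
  induction a generalizing b with
  | nil =>
    cases b with
    | nil => exact ⟨rfl, by simp [ev_nil, show lin x [] [] = [] from rfl]⟩
    | cons _ _ => cases h
  | cons u a ih =>
    cases b with
    | nil => cases h
    | cons v b =>
      have h1 := Nat.succ.inj h
      obtain ⟨h2, h3⟩ := ih h1
      have e : lin x (u :: a) (v :: b) = (u + x * v) :: lin x a b := rfl
      rw [e, List.length_cons, ev_cons, ev_cons, ev_cons, h2, h3, ← h1]
      exact ⟨rfl, by ring⟩

/-- drop the leading zeros -/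
noncomputable def dz (l : List ℤ) : List ℤ := List.rec [] (fun c l ih => bif c == 0 then ih else c :: l) l

theorem ev_dz (r : ℤ) (l : List ℤ) : ev r (dz l) = ev r l := by
  induction l with
  | nil => rfl
  | cons c l ih =>
    show ev r (bif c == 0 then dz l else c :: l) = _
    by_cases h : c = 0
    · rw [h, beq_self_eq_true, cond_true, ih, ev_cons, zero_mul, zero_add]
    · rw [beq_eq_false_iff_ne.2 h, cond_false]

/-- drop the trailing zeros -/
noncomputable def st (l : List ℤ) : List ℤ :=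
  List.rec [] (fun c _ ih => bif ih.isEmpty && c == 0 then [] else c :: ih) l

theorem ev_st (r : ℤ) (l : List ℤ) : ∃ s, l.length = (st l).length + s ∧ ev r l = r ^ s * ev r (st l) := by
  induction l with
  | nil => exact ⟨0, rfl, (mul_zero _).symm⟩
  | cons c l ih =>
    obtain ⟨s, h1, h2⟩ := ih
    have e : st (c :: l) = bif (st l).isEmpty && c == 0 then [] else c :: st l := rfl
    cases h : (st l).isEmpty && c == 0 with
    | true =>
      rw [Bool.and_eq_true, List.isEmpty_iff, beq_iff_eq] at h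
      rw [e, h.1, h.2]
      exact ⟨l.length + 1, by simp, by rw [ev_cons, h2, h.1]; simp [ev_nil]⟩
    | false =>
      rw [e, h, cond_false]
      refine ⟨s, by rw [List.length_cons, List.length_cons, h1, add_right_comm], ?_⟩
      rw [ev_cons, ev_cons, h2, h1]
      ring

/-- `x a - y X ^ n b` -/
noncomputable def sb (x y : ℤ) (a : List ℤ) : List ℤ → List ℤ :=
  List.rec (fun _ => []) (fun u _ ih b =>
    List.rec (Int.mul x u :: ih []) (fun v b _ => Int.sub (Int.mul x u) (Int.mul y v) :: ih b) b) a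

theorem sb_spec (r x y : ℤ) {a b : List ℤ} {n : ℕ} (h : a.length = b.length + n) :
    (sb x y a b).length = a.length ∧ ev r (sb x y a b) = x * ev r a - y * (r ^ n * ev r b) := by
  induction a generalizing b n with
  | nil =>
    cases b with
    | nil => exact ⟨rfl, by simp [ev_nil, show sb x y [] [] = [] from rfl]⟩
    | cons _ _ => simp only [List.length_cons, List.length_nil] at h; omega
  | cons u a ih =>
    cases b with
    | nil =>
      obtain ⟨h2, h3⟩ := ih (b := []) (n := a.length) (zero_add _).symm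
      have e : sb x y (u :: a) [] = (x * u) :: sb x y a [] := rfl
      rw [e, List.length_cons, ev_cons, ev_cons, h2, h3, ev_nil]
      exact ⟨rfl, by ring⟩
    | cons v b =>
      have h1 : a.length = b.length + n := by
        simp only [List.length_cons] at h
        omega
      obtain ⟨h2, h3⟩ := ih h1
      have e : sb x y (u :: a) (v :: b) = (x * u - y * v) :: sb x y a b := rfl
      rw [e, List.length_cons, ev_cons, ev_cons, ev_cons, h2, h3, h1]
      exact ⟨by rw [List.length_cons, h1], by ring⟩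

/-- `n` steps of the division by `L :: f` -/
noncomputable def red (L : ℤ) (f : List ℤ) (F : List ℤ → Bool) (n : ℕ) : List ℤ → Bool :=
  Nat.rec F (fun _ ih a => List.rec false (fun c a _ =>
    fI (L / (Int.gcd c L : ℤ)) fun x => fI (c / (Int.gcd c L : ℤ)) fun y => fL (sb x y a f) ih) a) n

theorem red_spec {L : ℤ} {f : List ℤ} {F : List ℤ → Bool} {n : ℕ} {a : List ℤ}
    (h : red L f F n a = true) (hl : a.length = f.length + n) :
    ∃ b, F b = true ∧ b.length = f.length ∧ ∀ r o, o ∣ ev r (L :: f) → o ∣ ev r a → o ∣ ev r b := by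
  induction n generalizing a with
  | zero => exact ⟨a, h, hl, fun _ _ _ ha => ha⟩
  | succ n ih =>
    cases a with
    | nil => cases h
    | cons c a =>
      have h1 : a.length = f.length + n := Nat.succ.inj hl
      have h0 : (fI (L / (Int.gcd c L : ℤ)) fun x => fI (c / (Int.gcd c L : ℤ)) fun y =>
        fL (sb x y a f) (red L f F n)) = true := h
      rw [fI_eq, fI_eq, fL_eq] at h0
      obtain ⟨b, h2, h3, h4⟩ := ih h0 ((sb_spec 0 _ _ h1).1.trans h1)
      refine ⟨b, h2, h3, fun r o hf ha => h4 r o hf ?_⟩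
      have h5 : L / (Int.gcd c L : ℤ) * c = c / (Int.gcd c L : ℤ) * L := by
        have h6 := Int.ediv_mul_cancel (Int.gcd_dvd_left c L)
        have h7 := Int.ediv_mul_cancel (Int.gcd_dvd_right c L)
        generalize L / (Int.gcd c L : ℤ) = x at *
        generalize c / (Int.gcd c L : ℤ) = y at *
        generalize (Int.gcd c L : ℤ) = g at *
        rw [← h6, ← h7]
        ring
      have e : ev r (sb (L / (Int.gcd c L : ℤ)) (c / (Int.gcd c L : ℤ)) a f) =
          L / (Int.gcd c L : ℤ) * ev r (c :: a) - c / (Int.gcd c L : ℤ) * r ^ n * ev r (L :: f) := by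
        rw [(sb_spec r _ _ h1).2, ev_cons, ev_cons, h1]
        linear_combination (-r ^ (f.length + n)) * h5
      rw [e]
      exact dvd_sub (ha.mul_left _) (hf.mul_left _)

/-- the greatest common divisor of `g` and the coefficients -/
noncomputable def ct (g : ℕ) (l : List ℤ) : ℕ := List.rec g (fun c _ ih => Nat.gcd c.natAbs ih) l

theorem ct_spec (r : ℤ) (g : ℕ) (l : List ℤ) : ct g l ∣ g ∧ (ct g l : ℤ) ∣ ev r l := by
  induction l with
  | nil => exact ⟨dvd_rfl, dvd_zero _⟩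
  | cons c l ih =>
    have e : ct g (c :: l) = Nat.gcd c.natAbs (ct g l) := rfl
    rw [e, ev_cons]
    exact ⟨(Nat.gcd_dvd_right _ _).trans ih.1, dvd_add ((Int.natCast_dvd.2 (Nat.gcd_dvd_left _ _)).mul_right _)
      ((Int.natCast_dvd_natCast.2 (Nat.gcd_dvd_right _ _)).trans ih.2)⟩

/-! ### the test of one polynomial -/

/-- three times the odd part of the order of the group -/
def G3 : List ℤ := [49152, 0, -24576, 0, 0, 0, 6144, 0, -6144, 0, 1536, 0, 768, 0, -768, 0, 192, 0, 96, 0, -96, 0, 24, 0, 0, 0,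
  -6, 0, 3]

/-- the odd part of `f (2 ^ k) > 0` divides `G3 (2 ^ k)` -/
def Bad (f : List ℤ) (k : ℕ) : Prop :=
  0 < ev (2 ^ k) f ∧ ∃ (b : ℕ) (o : ℤ), Odd o ∧ ev (2 ^ k) f = 2 ^ b * o ∧ o ∣ ev (2 ^ k) G3

/-- the test at one place -/
noncomputable def small (f : List ℤ) (R N G : ℕ) : Bool :=
  Int.rec (fun n => fN n fun n => Nat.beq n 0 || (Nat.ble n N && !Nat.beq (Nat.mod G n) 0)) (fun _ => true) (hor (Int.ofNat R) f 0)

theorem small_spec {f : List ℤ} {k N G : ℕ} (hG : (G : ℤ) = 2 ^ N * ev (2 ^ k) G3) (h : small f (2 ^ k) (2 ^ N) G = true) :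
    ¬ Bad f k := by
  rintro ⟨h0, b, o, -, h1, h2⟩
  have e : hor (Int.ofNat (2 ^ k)) f 0 = ev (2 ^ k) f := by
    rw [hor_zero]
    congr 1
  obtain ⟨n, hn⟩ := Int.eq_ofNat_of_zero_le h0.le
  have h3 : small f (2 ^ k) (2 ^ N) G = (Nat.beq n 0 || (Nat.ble n (2 ^ N) && !Nat.beq (Nat.mod G n) 0)) := by
    unfold small
    rw [e, hn]
    exact fN_eq _ _
  rw [h3, Bool.or_eq_true, Bool.and_eq_true, Nat.beq_eq, Nat.ble_eq, Bool.not_eq_true', ← Bool.not_eq_true, Nat.beq_eq] at h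
  rcases h with h | ⟨h4, h5⟩
  · omega
  refine h5 (Nat.mod_eq_zero_of_dvd (Int.natCast_dvd_natCast.1 ?_))
  have h6 : 0 < o := (mul_pos_iff_of_pos_left (pow_pos two_pos b)).1 (h1 ▸ h0)
  have h7 : (2 : ℤ) ^ b ≤ 2 ^ N := by
    have h8 : (n : ℤ) ≤ 2 ^ N := by exact_mod_cast h4
    nlinarith [pow_pos (two_pos (α := ℤ)) b]
  rw [← hn, hG, h1]
  exact mul_dvd_mul (pow_dvd_pow 2 ((pow_le_pow_iff_right₀ one_lt_two).1 h7)) h2

/-- the loop over the places -/
noncomputable def run (f : List ℤ) (big : ℕ → Bool) (T : List (ℕ × ℕ × ℕ)) : Bool :=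
  List.rec false (fun x _ ih => big x.1 || (small f x.1 x.2.1 x.2.2 && ih)) T

/-- one line of the table -/
noncomputable def row (k : ℕ) : ℕ × ℕ × ℕ := (2 ^ k, 2 ^ (24 * k + 30), 2 ^ (24 * k + 30) * (hor (2 ^ k) G3 0).natAbs)

theorem G3_pos (k : ℕ) : 0 ≤ ev (2 ^ k) G3 := by
  have h1 : (1 : ℤ) ≤ 2 ^ k := one_le_pow₀ one_le_two
  have h2 := ev_le h1 G3.tail
  have h3 : ev (2 ^ k) G3 = 49152 * (2 ^ k) ^ G3.tail.length + ev (2 ^ k) G3.tail := rfl
  have h4 : sa G3.tail = 40353 := by decide +kernel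
  have h5 : (0 : ℤ) ≤ (2 ^ k) ^ G3.tail.length := by positivity
  rw [h4] at h2
  have h6 := neg_abs_le (ev (2 ^ k) G3.tail)
  have h7 := le_mul_of_one_le_right (abs_nonneg (ev (2 ^ k) G3.tail)) h1
  push_cast at h2
  linarith

theorem run_spec {f : List ℤ} {big : ℕ → Bool} (hb : ∀ k, big (2 ^ k) = true → ∀ k', k ≤ k' → ¬ Bad f k') {n k : ℕ}
    (h : run f big ((List.range' k n).map row) = true) : ∀ k', k ≤ k' → ¬ Bad f k' := by
  induction n generalizing k with
  | zero => cases h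
  | succ n ih =>
    have h1 : (big (2 ^ k) || (small f (2 ^ k) (2 ^ (24 * k + 30)) (row k).2.2 &&
      run f big ((List.range' (k + 1) n).map row))) = true := h
    rw [Bool.or_eq_true, Bool.and_eq_true] at h1
    rcases h1 with h1 | ⟨h1, h2⟩
    · exact hb k h1
    intro k' hk
    rcases hk.eq_or_lt with rfl | hk'
    · refine small_spec ?_ h1
      show ((2 ^ (24 * k + 30) * (hor (2 ^ k) G3 0).natAbs : ℕ) : ℤ) = _
      rw [hor_zero, Nat.cast_mul, Int.natCast_natAbs, abs_of_nonneg (G3_pos k)]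
      rfl
    · exact ih h2 k' hk'

theorem neg_spec {n S k k' : ℕ} {f : List ℤ} (hS : S = sa f) (h : Nat.ble S (Nat.mul (n + 1) (2 ^ k)) = true) (hk : k ≤ k') :
    ¬ Bad (Int.negSucc n :: f) k' := by
  rintro ⟨h0, -⟩
  have h1 : (1 : ℤ) ≤ 2 ^ k' := one_le_pow₀ one_le_two
  have h2 := ev_le h1 f
  have h3 : (S : ℤ) ≤ (n + 1) * 2 ^ k := by exact_mod_cast Nat.le_of_ble_eq_true h
  have h4 : (2 : ℤ) ^ k ≤ 2 ^ k' := pow_le_pow_right₀ one_le_two hk
  rw [ev_cons, Int.negSucc_eq] at h0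
  rw [← hS] at h2
  generalize (2 : ℤ) ^ k' = r at *
  have h5 : 0 ≤ r ^ f.length := by positivity
  have h6 := le_abs_self (ev r f)
  have h7 : (S : ℤ) ≤ (n + 1) * r := h3.trans (mul_le_mul_of_nonneg_left h4 (by positivity))
  nlinarith [mul_le_mul_of_nonneg_right h7 h5, mul_le_mul_of_nonneg_right h6 (zero_le_one.trans h1),
    mul_pos h0 (zero_lt_one.trans_le h1)]

/-- the test for all large places -/
noncomputable def big (L S f0 e S1 c S2 R : ℕ) : Bool :=
  Nat.blt (Nat.add (Nat.mul (Nat.gcd f0 R) S1) (Nat.mul S e)) (Nat.mul (Nat.mul L R) e) && Nat.blt S2 (Nat.mul c R) &&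
    Nat.blt f0 R && Nat.blt 0 f0

theorem big_spec {L k k' : ℕ} {f ρ ρ' : List ℤ} {c : ℤ} (hz : dz ρ = c :: ρ') (hl : ρ.length = f.length)
    (h : big L (sa f) (hor 0 ((L : ℤ) :: f) 0).natAbs (ct (2 ^ 200) ρ) (sa ρ) c.natAbs (sa ρ') (2 ^ k) = true) (hk : k ≤ k')
    {b : ℕ} {o : ℤ} (ho : Odd o) (h0 : 0 < ev (2 ^ k') ((L : ℤ) :: f)) (h1 : ev (2 ^ k') ((L : ℤ) :: f) = 2 ^ b * o)
    (h2 : o ∣ ev (2 ^ k') ρ) : False := by
  unfold big at h
  simp only [Bool.and_eq_true, Nat.blt_eq, hor_zero] at h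
  obtain ⟨⟨⟨a1, a2⟩, a3⟩, a4⟩ := h
  obtain ⟨f0, hf0⟩ : ∃ f0, f0 = (ev 0 ((L : ℤ) :: f)).natAbs := ⟨_, rfl⟩
  rw [← hf0] at a1 a3 a4
  have b1 : (1 : ℤ) ≤ 2 ^ k' := one_le_pow₀ one_le_two
  have b2 : (2 : ℤ) ^ k ≤ 2 ^ k' := pow_le_pow_right₀ one_le_two hk
  have b3 : 2 ^ b ∣ f0 := by
    have b4 : ∀ i, i ≤ b → i ≤ k' → 2 ^ i ∣ f0 := fun i hi hi' => by
      have b5 := ((pow_dvd_pow 2 hi').trans (dvd_ev_sub (2 ^ k') ((L : ℤ) :: f)))
      have b6 : (2 : ℤ) ^ i ∣ ev (2 ^ k') ((L : ℤ) :: f) := h1 ▸ (pow_dvd_pow 2 hi).mul_right _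
      rw [hf0, ← Int.natCast_dvd]
      exact_mod_cast (dvd_sub_right b6).1 b5
    refine b4 b le_rfl (not_lt.1 fun b5 => ?_)
    have b6 := Nat.le_of_dvd a4 (b4 k (by omega) hk)
    omega
  have b4 : 2 ^ b ≤ Nat.gcd f0 (2 ^ k) := Nat.le_of_dvd (Nat.gcd_pos_of_pos_left _ a4) (Nat.dvd_gcd b3
    (pow_dvd_pow 2 ((Nat.pow_lt_pow_iff_right one_lt_two).1 ((Nat.le_of_dvd a4 b3).trans_lt a3)).le))
  obtain ⟨b5, b6⟩ := ct_spec (2 ^ k') (2 ^ 200) ρ
  generalize ct (2 ^ 200) ρ = e at *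
  have b7 : IsCoprime o (e : ℤ) := by
    have b8 : (e : ℤ) ∣ 2 ^ 200 := by exact_mod_cast b5
    exact (Int.isCoprime_two_right.2 ho).pow_right.of_isCoprime_of_dvd_right b8
  have c1 : ((Nat.gcd f0 (2 ^ k) : ℕ) : ℤ) * sa ρ + sa f * e < L * 2 ^ k * e := by exact_mod_cast a1
  have c2 : (sa ρ' : ℤ) < |c| * 2 ^ k := by
    rw [← Int.natCast_natAbs]
    exact_mod_cast a2
  have c3 : (2 : ℤ) ^ b ≤ (Nat.gcd f0 (2 ^ k) : ℕ) := by exact_mod_cast b4
  generalize ((Nat.gcd f0 (2 ^ k) : ℕ) : ℤ) = v at *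
  have c4 := ev_le b1 ρ
  have c5 := ev_le b1 ρ'
  have c6 := ev_le b1 f
  have c7 := ev_dz (2 ^ k') ρ
  rw [hz, ev_cons] at c7
  rw [ev_cons] at h0 h1
  rw [hl] at c4
  generalize (2 : ℤ) ^ k' = r at *
  have r0 : 0 < r := zero_lt_one.trans_le b1
  have d1 : ev r ρ ≠ 0 := fun e0 => by
    have d2 : |ev r ρ'| = |c| * r ^ ρ'.length := by
      rw [eq_neg_of_add_eq_zero_right (c7.trans e0), abs_neg, abs_mul, abs_of_pos (pow_pos r0 _)]
    rw [d2] at c5
    have d3 : (sa ρ' : ℤ) < |c| * r := c2.trans_le (mul_le_mul_of_nonneg_left b2 (abs_nonneg c))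
    nlinarith [mul_lt_mul_of_pos_right d3 (pow_pos r0 ρ'.length)]
  have d2 : o * e ≤ |ev r ρ| := Int.le_of_dvd (abs_pos.2 d1) ((dvd_abs _ _).2 (b7.mul_dvd h2 b6))
  have d3 : 0 < o := (mul_pos_iff_of_pos_left (pow_pos two_pos b)).1 (h1 ▸ h0)
  have e0 : (0 : ℤ) ≤ e := Int.natCast_nonneg e
  have d4 : 2 ^ b * (o * e) ≤ v * |ev r ρ| := mul_le_mul c3 d2 (by positivity) ((pow_pos two_pos b).le.trans c3)
  have d5 : v * (|ev r ρ| * r) ≤ v * (sa ρ * r ^ f.length) := mul_le_mul_of_nonneg_left c4 ((pow_pos two_pos b).le.trans c3)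
  have d6 : (L : ℤ) * 2 ^ k * e ≤ L * r * e :=
    mul_le_mul_of_nonneg_right (mul_le_mul_of_nonneg_left b2 (Int.natCast_nonneg L)) e0
  have d7 := mul_lt_mul_of_pos_right (c1.trans_le d6) (pow_pos r0 f.length)
  have d8 := mul_le_mul_of_nonneg_right d4 r0.le
  have d9 := mul_le_mul_of_nonneg_right ((mul_le_mul_of_nonneg_right (neg_abs_le (ev r f)) r0.le)) e0
  have d10 := mul_le_mul_of_nonneg_right c6 e0
  have d11 : (L * r ^ f.length + ev r f) * e * r = 2 ^ b * (o * e) * r := by rw [h1]; ring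
  nlinarith

/-- the test of the polynomial `f` -/
noncomputable def chk (T : List (ℕ × ℕ × ℕ)) (f : List ℤ) : Bool :=
  List.rec false (fun L f _ => fN (sa f) fun S => Int.rec
    (fun L => red (Int.ofNat L) f (fun ρ => List.rec false (fun c ρ' _ =>
      fN (hor 0 (Int.ofNat L :: f) 0).natAbs fun f0 => fN (ct (2 ^ 200) ρ) fun e => fN (sa ρ) fun S1 => fN (sa ρ') fun S2 =>
        run (Int.ofNat L :: f) (big L S f0 e S1 c.natAbs S2) T) (dz ρ)) (29 - f.length) G3 && Nat.ble f.length 29)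
    (fun n => run (Int.negSucc n :: f) (fun R => Nat.ble S (Nat.mul (n + 1) R)) T) L) f

theorem chk_spec {f : List ℤ} {n : ℕ} (h : chk ((List.range' 1 n).map row) f = true) {k : ℕ} (hk : 1 ≤ k) : ¬ Bad f k := by
  cases f with
  | nil => cases h
  | cons L f =>
    cases L with
    | negSucc m =>
      have h1 : (fN (sa f) fun S => run (Int.negSucc m :: f) (fun R => Nat.ble S (Nat.mul (m + 1) R))
        ((List.range' 1 n).map row)) = true := h
      rw [fN_eq] at h1
      exact run_spec (fun k h2 k' h3 => neg_spec rfl h2 h3) h1 k hk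
    | ofNat L =>
      have h1 : (fN (sa f) fun S => red (Int.ofNat L) f (fun ρ => List.rec false (fun c ρ' _ =>
        fN (hor 0 (Int.ofNat L :: f) 0).natAbs fun f0 => fN (ct (2 ^ 200) ρ) fun e => fN (sa ρ) fun S1 => fN (sa ρ') fun S2 =>
          run (Int.ofNat L :: f) (big L S f0 e S1 c.natAbs S2) ((List.range' 1 n).map row)) (dz ρ)) (29 - f.length) G3 &&
          Nat.ble f.length 29) = true := h
      rw [fN_eq, Bool.and_eq_true, Nat.ble_eq] at h1
      obtain ⟨ρ, h2, h3, h4⟩ := red_spec h1.1 (show 29 = _ by omega)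
      cases hz : dz ρ with
      | nil =>
        rw [hz] at h2
        cases h2
      | cons c ρ' =>
        rw [hz] at h2
        have h5 : (fN (hor 0 (Int.ofNat L :: f) 0).natAbs fun f0 => fN (ct (2 ^ 200) ρ) fun e => fN (sa ρ) fun S1 =>
          fN (sa ρ') fun S2 => run (Int.ofNat L :: f) (big L (sa f) f0 e S1 c.natAbs S2) ((List.range' 1 n).map row)) = true := h2
        rw [fN_eq, fN_eq, fN_eq, fN_eq] at h5
        refine run_spec (fun k h6 k' h7 => ?_) h5 k hk
        rintro ⟨h0, b, o, ho, h8, h9⟩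
        exact big_spec hz h3 h6 h7 ho h0 h8 (h4 _ o (h8 ▸ dvd_mul_left _ _) h9)

/-! ### the loops -/

/-- the values `± x`, `± (x + 1)`, ... -/
noncomputable def lp (w b : ℕ) (f : ℤ → ℕ → Bool) (n : ℕ) : ℕ → Bool :=
  Nat.rec (fun _ => false) (fun _ ih x => Nat.blt b (Nat.mul w (Nat.mul (Nat.succ x) (Nat.succ x))) ||
    fN (Nat.sub b (Nat.mul w (Nat.mul (Nat.succ x) (Nat.succ x)))) fun c =>
      f (Int.ofNat (Nat.succ x)) c && f (Int.negSucc x) c && ih (Nat.succ x)) n

/-- all `z` with `w z ^ 2 ≤ b` -/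
noncomputable def al (w b : ℕ) (f : ℤ → ℕ → Bool) : Bool := f 0 b && lp w b f 12 0

theorem lp_spec {w b : ℕ} {f : ℤ → ℕ → Bool} {n x : ℕ} (h : lp w b f n x = true) (y : ℕ) (hy : x ≤ y)
    (hb : w * ((y + 1) * (y + 1)) ≤ b) : f (Int.ofNat (y + 1)) (b - w * ((y + 1) * (y + 1))) = true ∧
      f (Int.negSucc y) (b - w * ((y + 1) * (y + 1))) = true := by
  induction n generalizing x with
  | zero => cases h
  | succ n ih =>
    have h1 : (Nat.blt b (w * ((x + 1) * (x + 1))) || fN (b - w * ((x + 1) * (x + 1))) fun c =>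
      f (Int.ofNat (x + 1)) c && f (Int.negSucc x) c && lp w b f n (x + 1)) = true := h
    rw [fN_eq, Bool.or_eq_true, Nat.blt_eq, Bool.and_eq_true, Bool.and_eq_true] at h1
    rcases h1 with h1 | h1
    · have h2 : w * ((x + 1) * (x + 1)) ≤ w * ((y + 1) * (y + 1)) :=
        Nat.mul_le_mul_left _ (Nat.mul_le_mul (by omega) (by omega))
      omega
    rcases hy.eq_or_lt with rfl | hy'
    · exact h1.1
    · exact ih h1.2 hy'

theorem al_spec {w b : ℕ} {f : ℤ → ℕ → Bool} (h : al w b f = true) (z : ℤ) {s : ℤ} (h0 : 0 ≤ s) (hs : w * z ^ 2 + s ≤ b) :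
    ∃ c : ℕ, s ≤ c ∧ f z c = true := by
  obtain ⟨h1, h2⟩ := (Bool.and_eq_true _ _).mp h
  have key : ∀ y : ℕ, z ^ 2 = (y + 1) * (y + 1) → w * ((y + 1) * (y + 1)) ≤ b ∧ s ≤ (b - w * ((y + 1) * (y + 1)) : ℕ) := by
    intro y e
    rw [e] at hs
    have h3 : w * ((y + 1) * (y + 1)) ≤ b := by exact_mod_cast (show (w : ℤ) * ((y + 1) * (y + 1)) ≤ b by linarith)
    refine ⟨h3, ?_⟩
    push_cast [h3]
    linarith
  rcases z with (_ | y) | y
  · exact ⟨b, by simpa using hs, h1⟩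
  · obtain ⟨h3, h4⟩ := key y (by simp [sq])
    exact ⟨_, h4, (lp_spec h2 y (Nat.zero_le _) h3).1⟩
  · obtain ⟨h3, h4⟩ := key y (by rw [Int.negSucc_eq]; ring)
    exact ⟨_, h4, (lp_spec h2 y (Nat.zero_le _) h3).2⟩

/-- one value `z`, if `w z ^ 2 ≤ b` -/
noncomputable def dt (w b : ℕ) (z : ℤ) (f : ℤ → ℕ → Bool) : Bool :=
  fI z fun z => Nat.blt b (Nat.mul w (Nat.mul z.natAbs z.natAbs)) || fN (Nat.sub b (Nat.mul w (Nat.mul z.natAbs z.natAbs))) (f z)

theorem dt_spec {w b : ℕ} {z : ℤ} {f : ℤ → ℕ → Bool} (h : dt w b z f = true) {s : ℤ} (h0 : 0 ≤ s) (hs : w * z ^ 2 + s ≤ b) :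
    ∃ c : ℕ, s ≤ c ∧ f z c = true := by
  have h1 : (Nat.blt b (w * (z.natAbs * z.natAbs)) || fN (b - w * (z.natAbs * z.natAbs)) (f z)) = true :=
    (fI_eq z _).symm.trans h
  have e : ((z.natAbs * z.natAbs : ℕ) : ℤ) = z ^ 2 := by rw [Nat.cast_mul, Int.natAbs_mul_self', sq]
  have h3 : w * (z.natAbs * z.natAbs) ≤ b := by
    exact_mod_cast (show ((w * (z.natAbs * z.natAbs) : ℕ) : ℤ) ≤ b by rw [Nat.cast_mul, e]; linarith)
  rw [fN_eq, Bool.or_eq_true, Nat.blt_eq] at h1
  refine ⟨_, ?_, h1.resolve_left (not_lt.2 h3)⟩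
  rw [Nat.cast_sub h3, Nat.cast_mul, e]
  linarith

end Cfsg.Agent.KZ.TF.Flt
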