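import Cfsg.Agent.KZ.TF.FltA

/-!
# KZ, `²F₄`: the enumeration for the arithmetic filter (helper8)
-/

set_option autoImplicit false
set_option maxRecDepth 100000
set_option Elab.async false

namespace Cfsg.Agent.KZ.TF.Flt

/-- the degree of the character number 0 -/
def D0 : List ℤ := [4096, 0, 2048, 0, 1024, 0, 1024, 0, 256, 0, 128, 0, 128, 0, 32, 0, 16, 0, 16, 0, 4, 0, 2, 0, 1]

/-- the degree of the character number 1 -/
def D1 : List ℤ := [-4096, 0, 2048, 0, -1024, 0, 0, 0, 256, 0, -128, 0, 0, 0, 32, 0, -16, 0, 0, 0, 4, 0, -2, 0, 1]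

/-- the degree of the character number 2 -/
def D2 : List ℤ := [-4096, 4096, -2048, 0, 1024, -1024, 0, 512, -256, 0, 128, -128, 0, 64, -32, 0, 16, -16, 0, 8, -4, 0, 2, -2, 1]

/-- the degree of the character number 3 -/
def D3 : List ℤ := [-4096, -4096, -2048, 0, 1024, 1024, 0, -512, -256, 0, 128, 128, 0, -64, -32, 0, 16, 16, 0, -8, -4, 0, 2, 2, 1]

/-- the degree of the character number 4 -/
def D4 : List ℤ := [4096, 0, -6144, 0, 5120, 0, -3072, 0, 1280, 0, -384, 0, 128, 0, -96, 0, 80, 0, -48, 0, 20, 0, -6, 0, 1]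

/-- the degree of the character number 5 -/
def D5 : List ℤ := [4096, -8192, 6144, 0, -5120, 6144, -3072, -1024, 2816, -2048, 384, 768, -896, 384, 96, -256, 176, -32, -48, 48, -20, 0, 6, -4, 1]

/-- the degree of the character number 6 -/
def D6 : List ℤ := [4096, 8192, 6144, 0, -5120, -6144, -3072, 1024, 2816, 2048, 384, -768, -896, -384, 96, 256, 176, 32, -48, -48, -20, 0, 6, 4, 1]

/-- the degree of the character number 7 -/
def D7 : List ℤ := [4096, 0, -2048, 0, -1024, 0, 1024, 0, -256, 0, -128, 0, 128, 0, -32, 0, -16, 0, 16, 0, -4, 0, -2, 0, 1]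

/-- the degree of the character number 8 -/
def D8 : List ℤ := [4096, 0, 0, 0, -1024, 0, 0, 0, -256, 0, 0, 0, 128, 0, 0, 0, -16, 0, 0, 0, -4, 0, 0, 0, 1]

/-- the degree of the character number 9 -/
def D9 : List ℤ := [4096, -4096, 0, 0, 1024, 0, 0, -512, -256, 512, 0, 0, -128, 0, 0, 64, -16, -16, 0, 0, 4, 0, 0, -2, 1]

/-- the degree of the character number 10 -/
def D10 : List ℤ := [4096, 4096, 0, 0, 1024, 0, 0, 512, -256, -512, 0, 0, -128, 0, 0, -64, -16, 16, 0, 0, 4, 0, 0, 2, 1]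

/-- evaluate the table -/
noncomputable def fT (l : List (ℕ × ℕ × ℕ)) : (List (ℕ × ℕ × ℕ) → Bool) → Bool :=
  List.rec (fun f => f []) (fun c _ ih f => fN c.1 fun x => fN c.2.1 fun y => fN c.2.2 fun z => ih fun l => f ((x, y, z) :: l)) l

theorem fT_eq (l : List (ℕ × ℕ × ℕ)) (f : List (ℕ × ℕ × ℕ) → Bool) : fT l f = f l := by
  induction l generalizing f with
  | nil => rfl
  | cons c l ih =>
    show (fN c.1 fun x => fN c.2.1 fun y => fN c.2.2 fun z => fT l fun l => f ((x, y, z) :: l)) = _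
    rw [fN_eq, fN_eq, fN_eq, ih]

/-- add `x b` to `a` -/
noncomputable def ad (x : ℤ) (b a : List ℤ) (f : List ℤ → Bool) : Bool :=
  fI x fun x => bif x == 0 then f a else fL (lin x a b) f

theorem ad_spec {x : ℤ} {b a : List ℤ} {f : List ℤ → Bool} (h : ad x b a f = true) (ha : a.length = 25) (hb : b.length = 25) :
    ∃ c, f c = true ∧ c.length = 25 ∧ ∀ r, ev r c = ev r a + x * ev r b := by
  have h1 : (bif x == 0 then f a else fL (lin x a b) f) = true := (fI_eq x _).symm.trans h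
  by_cases h0 : x = 0
  · rw [h0, beq_self_eq_true, cond_true] at h1
    exact ⟨a, h1, ha, fun r => by rw [h0, zero_mul, add_zero]⟩
  · rw [beq_eq_false_iff_ne.2 h0, cond_false, fL_eq] at h1
    exact ⟨_, h1, (lin_spec 0 x (ha.trans hb.symm)).1.trans ha, fun r => (lin_spec r x (ha.trans hb.symm)).2⟩

/-- the nine types -/
def tyL : List (List ℤ) :=
  [[1, -1, 1, 1, -3, 3, 3, -1, 0, 0, 0], [1, 1, -1, -1, -3, 3, 3, -1, 0, 0, 0], [2, 0, 0, 0, -6, 0, 0, 0, 0, 0, 0],
    [2, 0, 0, 0, 2, 0, 0, 0, -1, 0, 0], [0, 0, 0, 0, -2, -3, -3, -1, 1, 0, 0], [0, 0, 0, 0, -2, -4, 0, 0, 0, 1, 0],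
    [0, 0, 0, 0, -2, 0, -4, 0, 0, 0, 1], [0, 0, 0, 0, 4, 2, 2, -2, 0, 0, 0], [0, 0, 0, 0, 2, 1, 1, -1, 0, 0, 0]]

/-- the test of one candidate -/
noncomputable def leaf (T : List (ℕ × ℕ × ℕ)) (m0 m1 m2 m3 m4 m5 m6 m7 m8 m9 m10 t0 t1 t2 j0 j1 j2 : ℤ) : Bool :=
  (t1 == 2 && (m4 == 2 || m4 == -2)) ||
  ([t0, t1, t2, j0, j1, j2] == [0, 0, 0, 0, 0, 0] && tyL.elem [m0, m1, m2, m3, m4, m5, m6, m7, m8, m9, m10]) ||
  ad (6 * m0) D0 (List.replicate 25 0) fun a => ad (24 * m1 + 48 * t0) D1 a fun a => ad (12 * m2 + 24 * j0) D2 a fun a =>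
  ad (12 * m3 - 24 * j0) D3 a fun a => ad (2 * m4 + 16 * t1) D4 a fun a => ad (m5 + 24 * j1) D5 a fun a =>
  ad (m6 - 24 * j2) D6 a fun a => ad (6 * m7 + 24 * (j2 - j1)) D7 a fun a => ad (16 * m8 + 32 * t2) D8 a fun a =>
  ad (8 * m9) D9 a fun a => ad (8 * m10) D10 a fun a => fL (st (dz a)) (chk T)

/-- the enumeration -/
noncomputable def enum (T : List (ℕ × ℕ × ℕ)) (n i m4 : ℤ) (b : ℕ) : Bool :=
  al 24 b fun m1 b => !((m1 + m4) % 2 == 0) ||
  al 6 b fun m0 b => !((m0 + m1) % 2 == 0) ||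
  al 12 b fun m2 b => dt 12 b (-2 * m1 - m2) fun m3 b => !((2 * m0 + m2 + m3) % 4 == 0) ||
  al 6 b fun m7 b =>
  al 1 b fun m5 b => !((2 * m2 + m5 + m7) % 4 == 0) ||
  al 1 b fun m6 b => !((2 * m3 + m7 + m6) % 4 == 0) || !((6 * m0 + 2 * m4 + m5 + m6 + 6 * m7) % 8 == 0) ||
  !((m5 + 2 * m6 - i) % n == 0) || fI (-((6 * m0 + 2 * m4 + m5 + m6 + 6 * m7) / 8)) fun s =>
  al 16 b fun m8 b => al 8 b fun m9 b => dt 8 b (s - 2 * m8 - m9) fun m10 b =>
  al 48 b fun t0 b => al 16 b fun t1 b => !((t0 + t1) % 2 == 0) ||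
  al 32 b fun t2 b => al 48 b fun j0 b => al 48 b fun j1 b => al 48 b fun j2 _ =>
  leaf T m0 m1 m2 m3 m4 m5 m6 m7 m8 m9 m10 t0 t1 t2 j0 j1 j2

/-- the check for one value of `m 4` -/
noncomputable def one (n i m4 : ℤ) (b : ℕ) : Bool := fT ((List.range' 1 40).map row) fun T => enum T n i m4 b

theorem one_p1 : one 1 0 1 94 = true := by decide +kernel

theorem one_m1 : one 1 0 (-1) 94 = true := by decide +kernel

theorem one_p20 : one 5 0 2 88 = true := by decide +kernel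

theorem one_m20 : one 5 0 (-2) 88 = true := by decide +kernel

theorem one_p21 : one 5 1 2 88 = true := by decide +kernel

theorem one_m21 : one 5 1 (-2) 88 = true := by decide +kernel

theorem one_p22 : one 5 2 2 88 = true := by decide +kernel

theorem one_m22 : one 5 2 (-2) 88 = true := by decide +kernel

theorem one_p23 : one 5 3 2 88 = true := by decide +kernel

theorem one_m23 : one 5 3 (-2) 88 = true := by decide +kernel

theorem one_p24 : one 5 4 2 88 = true := by decide +kernel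

theorem one_m24 : one 5 4 (-2) 88 = true := by decide +kernel

theorem one_p3 : one 1 0 3 78 = true := by decide +kernel

theorem one_m3 : one 1 0 (-3) 78 = true := by decide +kernel

theorem one_p4 : one 1 0 4 64 = true := by decide +kernel

theorem one_m4 : one 1 0 (-4) 64 = true := by decide +kernel

theorem one_p5 : one 1 0 5 46 = true := by decide +kernel

theorem one_m5 : one 1 0 (-5) 46 = true := by decide +kernel

theorem one_p6 : one 1 0 6 24 = true := by decide +kernel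

theorem one_m6 : one 1 0 (-6) 24 = true := by decide +kernel

theorem one_true {z s : ℤ} (hz : z ≠ 0) (h0 : 0 ≤ s) (hs : 2 * z ^ 2 + s ≤ 96) (y : ℤ) :
    ∃ n i, n ∣ y - i ∧ ∃ c : ℕ, s ≤ c ∧ enum ((List.range' 1 40).map row) n i z c = true := by
  have h1 : -7 < z := by nlinarith
  have h2 : z < 7 := by nlinarith
  have key : ∀ {n i : ℤ} {c : ℕ}, one n i z c = true → 2 * z ^ 2 + c = 96 → n ∣ y - i →
      ∃ n i, n ∣ y - i ∧ ∃ c : ℕ, s ≤ c ∧ enum ((List.range' 1 40).map row) n i z c = true := fun {n i c} h e d =>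
    ⟨n, i, d, c, by linarith, (fT_eq _ fun T => enum T n i z c).symm.trans h⟩
  have h5 : 5 ∣ y - 0 ∨ 5 ∣ y - 1 ∨ 5 ∣ y - 2 ∨ 5 ∣ y - 3 ∨ 5 ∣ y - 4 := by omega
  have o := one_dvd (y - 0)
  interval_cases z
  exacts [key one_m6 rfl o, key one_m5 rfl o, key one_m4 rfl o, key one_m3 rfl o,
    h5.elim (key one_m20 rfl) fun h => h.elim (key one_m21 rfl) fun h => h.elim (key one_m22 rfl) fun h =>
      h.elim (key one_m23 rfl) (key one_m24 rfl),
    key one_m1 rfl o, absurd rfl hz, key one_p1 rfl o,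
    h5.elim (key one_p20 rfl) fun h => h.elim (key one_p21 rfl) fun h => h.elim (key one_p22 rfl) fun h =>
      h.elim (key one_p23 rfl) (key one_p24 rfl),
    key one_p3 rfl o, key one_p4 rfl o, key one_p5 rfl o, key one_p6 rfl o]

end Cfsg.Agent.KZ.TF.Flt
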