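import Cfsg.Agent.KZ.TF.W1

/-!
# KZ, `²F₄` : the five types of Levi subgroups, data and finite checks (helper12)

`J = 0` is the set `{0, 3}` of simple roots, `J = 1` is `{1, 2}`.
-/

set_option autoImplicit false

namespace Cfsg.Agent.KZ.TF.Mix

open Cfsg Cfsg.Agent.KZ.DatX Cfsg.Agent.KZ.McX Matrix

/-- words -/
abbrev Wd : Type := List (Fin 4)

/-- the value at a regular vector -/
def ev (L : Wd) : List ℤ := app rowsF4 L [1, 1, 1, 1]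

/-- the parabolic subgroup of a type -/
def Jt : Fin 5 → Fin 2 := ![0, 0, 1, 1, 1]

/-- the types -/
def w1 : Fin 5 → Wd := ![[], [1, 0, 2, 1, 2, 3, 2, 1, 0, 2, 1], [], [0, 1, 2, 1, 0, 3, 2, 1, 0, 2, 1, 3, 2, 1, 0], [0, 1, 2, 1, 0]]

/-- the cocharacters of the Levi subgroups -/
def lam : Fin 2 → Fin 4 → ℤ := ![![0, 1, 1, 0], ![1, 0, 0, 1]]

/-- the longest elements -/
def wJ : Fin 2 → Wd := ![[0, 3], [1, 2, 1, 2]]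

/-- the first fundamental weight outside `J` -/
def xa : Fin 2 → Fin 4 → ℤ := ![![3, 6, 4, 2], ![2, 3, 2, 1]]

/-- the second fundamental weight outside `J` -/
def xb : Fin 2 → Fin 4 → ℤ := ![![4, 8, 6, 3], ![2, 4, 3, 2]]

/-- the first coroot outside `J` -/
def ya : Fin 2 → Fin 4 → ℤ := ![![-1, 2, -2, 0], ![2, -1, 0, 0]]

/-- the second coroot outside `J` -/
def yb : Fin 2 → Fin 4 → ℤ := ![![0, -1, 2, -1], ![0, 0, -1, 2]]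

/-- the preimages of `2 • lam` -/
def ys : Fin 5 → Fin 4 → ℤ := ![![0, 1, 2, 0], ![0, 7, -10, 0], ![1, 0, 0, 2], ![1, 0, 0, -4], ![3, 0, 0, -2]]

/-- the action on the quotient -/
def b0 : Fin 5 → ℤ × ℤ × ℤ × ℤ := ![(0, 1, 2, 0), (4, -3, 6, -4), (0, 1, 2, 0), (0, -1, 2, -2), (2, -1, 2, 0)]

/-- the representatives of the twisted classes of the parabolic subgroups -/
def rp : Fin 2 → Fin 3 → Wd := ![![[], [0], [0]], ![[], [1, 2, 1], [1]]]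

/-- the elements of the parabolic subgroups, with conjugating elements and classes -/
def uL : Fin 2 → List (Wd × Wd × Fin 3) :=
  ![[([], [], 0), ([0], [], 1), ([3], [0], 2), ([3, 0], [0], 0)],
    [([], [], 0), ([1], [], 2), ([2], [1], 2), ([2, 1], [2], 0), ([1, 2], [1], 0), ([1, 2, 1], [], 1), ([2, 1, 2], [1], 1),
      ([2, 1, 2, 1], [2, 1], 0)]]

/-- the classes of the tori -/
def ix : Fin 5 → Fin 3 → Fin 11 := ![![0, 1, 1], ![1, 4, 4], ![0, 2, 3], ![2, 5, 7], ![3, 7, 6]]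

/-- the types with a factor `²B₂` -/
def tt : Fin 3 → Fin 5 := ![2, 3, 4]

/-- the conjugations of the involutions to the longest elements -/
def cert : Fin 11 → List (Fin 5 × Wd × Wd) :=
  ![[(0, [], []), (2, [], []), (2, [0, 3], []), (0, [1, 2, 1, 2], []), (0, [1, 2, 1, 0, 2, 3], []), (2, [0, 1, 3, 2, 1, 2], []),
      (2, [0, 1, 3, 2, 1, 0, 2, 3], []), (0, [1, 2, 1, 0, 2, 1, 3, 2, 1, 2], [])],
    [(0, [], [0]), (1, [1, 2, 1, 0, 2, 1, 3, 2, 1, 0, 2], [])],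
    [(2, [], [1, 2, 1]), (3, [0, 1, 2, 3, 2, 1, 0, 2, 3], [])],
    [(2, [], [1]), (4, [0, 1, 2, 3, 2, 1, 0, 2, 3], [])],
    [(1, [2, 1, 0, 3, 2, 1, 0, 2, 1], [0]), (1, [1, 0, 2, 1, 2, 3, 2], [0]), (1, [2, 1, 0], [0]), (1, [2, 1, 2], [0]),
      (1, [1, 0, 2, 1, 0, 2, 3], [0]), (1, [1, 2, 1, 3], [3]), (1, [1, 2, 1, 0, 3, 2], [3]), (1, [2, 1, 2, 3, 2, 1, 0, 2, 1], [0]),
      (1, [2, 1, 0, 2, 1, 3, 2, 1, 0, 2], [3]), (1, [2, 1, 0, 2, 1, 3, 2, 1], [3]), (1, [1, 2, 1, 0, 3, 2, 1, 0, 2, 1, 3], [0]),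
      (1, [1, 2, 1, 0, 2, 1, 2, 3, 2, 1, 0], [0])],
    [(3, [], [1, 2, 1]), (3, [0, 1, 2, 3], [1, 2, 1]), (3, [3, 2, 1, 0], [1, 2, 1]), (3, [0, 1, 2, 3, 2, 1], [1, 2, 1]),
      (3, [0, 3, 2, 1, 0, 2], [1, 2, 1]), (3, [0, 1, 2, 3, 2, 1, 0, 2, 3], [2, 1, 2])],
    [(4, [], [1]), (4, [0, 1, 2, 3], [1]), (4, [3, 2, 1, 0], [1]), (4, [0, 1, 2, 3, 2, 1], [1]), (4, [0, 3, 2, 1, 0, 2], [1]),
      (4, [0, 1, 2, 3, 2, 1, 0, 2, 3], [2])],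
    [(4, [], [1, 2, 1]), (3, [0, 1, 2, 3, 2, 1, 0, 2, 3], [2])], [], [], []]

/-- the test for the parabolic subgroups -/
def inU (J : Fin 2) (L : Wd) : Bool := app rowsF4 L (List.ofFn (lam J)) == List.ofFn (lam J)

/-- the scalar product -/
def dv (x y : Fin 4 → ℤ) : ℤ := x 0 * y 0 + x 1 * y 1 + x 2 * y 2 + x 3 * y 3

theorem dv_eq (x y : Fin 4 → ℤ) : dv x y = x ⬝ᵥ y := by rw [dv, dotProduct, Fin.sum_univ_four]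

/-- the images of the columns of `M - 1` in the quotient -/
def zs (J : Fin 2) (M : Matrix (Fin 4) (Fin 4) ℤ) (i : Fin 4) : ℤ × ℤ := (dv (xa J) (M · i) - xa J i, dv (xb J) (M · i) - xb J i)

/-- the action on the quotient -/
def bz (b : ℤ × ℤ × ℤ × ℤ) (z : ℤ × ℤ) : ℤ × ℤ := (b.1 * z.1 + b.2.1 * z.2, b.2.2.1 * z.1 + b.2.2.2 * z.2)

/-- two vectors span a lattice which contains `384 ℤ ^ 2` -/
def gd (z z' : ℤ × ℤ) : Prop :=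
  z.1 * z'.2 - z.2 * z'.1 ≠ 0 ∧ ∀ t ∈ [z.1, z.2, z'.1, z'.2], 384 * t % (z.1 * z'.2 - z.2 * z'.1) = 0

/-- the vectors and their images -/
def zL (b : ℤ × ℤ × ℤ × ℤ) (z : Fin 4 → ℤ × ℤ) : List (ℤ × ℤ) :=
  [z 0, bz b (z 0), z 1, bz b (z 1), z 2, bz b (z 2), z 3, bz b (z 3)]

theorem chk_stab : ∀ L ∈ wordsF4, ∀ τ, inU (Jt τ) L = true ∨
    ∃ z ∈ zL (b0 τ) (zs (Jt τ) (mW L 1)), ∃ z' ∈ zL (b0 τ) (zs (Jt τ) (mW L 1)), gd z z' := by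
  unfold gd
  decide +kernel

theorem chk_filter : ∀ J, wordsF4.filter (inU J) = (uL J).map (·.1) := by decide +kernel

theorem chk_cw : ∀ i, ∀ L ∈ cwL i, ev L = ev [] ∨
    ((ev (L ++ L) = ev [] → mW L 1 = -1 ∨ ∃ x ∈ cert i, ev (x.2.1 ++ L) = ev (wJ (Jt x.1) ++ x.2.1)) ∧
      (ev (L ++ L ++ L) = ev [] → mW (L ++ L) 1 + mW L 1 + 1 = 0)) := by decide +kernel

theorem chk_cert : ∀ i, ∀ x ∈ cert i, tcB x.2.1 (wd i) (x.2.2 ++ w1 x.1) = true ∧ inU (Jt x.1) x.2.2 = true := by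
  decide +kernel

theorem chk_uL : ∀ τ, ∀ x ∈ uL (Jt τ), tcB x.2.1 (x.1 ++ w1 τ) (rp (Jt τ) x.2.2 ++ w1 τ) = true ∧ inU (Jt τ) x.2.1 = true ∧
    mW x.1 1 *ᵥ ys τ = ys τ ∧ xa (Jt τ) ᵥ* mW x.1 1 = xa (Jt τ) ∧ xb (Jt τ) ᵥ* mW x.1 1 = xb (Jt τ) := by decide +kernel

theorem chk_ix : ∀ τ t, cp4 (mW (rp (Jt τ) t ++ w1 τ) G4) = cpI (ix τ t) ∧ inU (Jt τ) (rp (Jt τ) t) = true ∧
    (-1 : ℤ) ^ (rp (Jt τ) t).length = ![1, -1, -1] t := by decide +kernel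

theorem chk_ys : ∀ τ, mW (w1 τ) G4 *ᵥ ys τ = (2 : ℤ) • lam (Jt τ) := by decide +kernel

theorem chk_b0 : ∀ τ, xa (Jt τ) ᵥ* mW (w1 τ) G4 = (b0 τ).1 • xa (Jt τ) + (b0 τ).2.1 • xb (Jt τ) ∧
    xb (Jt τ) ᵥ* mW (w1 τ) G4 = (b0 τ).2.2.1 • xa (Jt τ) + (b0 τ).2.2.2 • xb (Jt τ) := by decide +kernel

theorem chk_wJ : ∀ J, (mW (wJ J) 1 + 1) * (1 - vecMulVec (ya J) (xa J) - vecMulVec (yb J) (xb J)) = 0 := by decide +kernel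

theorem chk_xy : ∀ J, xa J ⬝ᵥ ya J = 1 ∧ xb J ⬝ᵥ ya J = 0 ∧ xa J ⬝ᵥ yb J = 0 ∧ xb J ⬝ᵥ yb J = 1 := by decide +kernel

theorem chk_tt : ∀ τ, rp (Jt τ) 1 = rp (Jt τ) 2 ∨ ∃ a, τ = tt a := by decide

end Cfsg.Agent.KZ.TF.Mix
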