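import Cfsg.Agent.KZ.TF.MixA
import Cfsg.Agent.KZ.TF.MixB

/-!
# KZ, `²F₄` : labels in normal form (helper12)

`Kc X J c` : the label is trivial on the coroots of `J`; `normal`, `stab`, `levi`, `avg_U`.
-/

set_option autoImplicit false
set_option linter.unusedSectionVars false

namespace Cfsg.Agent.KZ.TF.Mix

open Cfsg Cfsg.Agent.DL Cfsg.Agent.DL.PP Cfsg.Agent.KZ.Lie Cfsg.Agent.Characters.Core Matrix Cfsg.Agent.KZ.ClD
  Cfsg.Agent.KZ.Cl Cfsg.Agent.KZ.DatX Cfsg.Agent.KZ.McX ComplexConjugate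

theorem avg_list (J : Fin 2) (g : Fin 3 → ℂ) : (((uL J).map fun _ => (1 : ℂ)).sum)⁻¹ * ((uL J).map fun x => g x.2.2).sum =
    4⁻¹ * (2 * g 0 + g 1 + g 2) := by
  fin_cases J <;> simp [uL] <;> ring

variable {m : ℕ} {k : Type} [Field k] [CharP k 2] [IsAlgClosed k] (X : XF hpF4 2 k ((2 : ℤ) ^ m • GamF))

/-- the parabolic subgroups -/
noncomputable def UJ (J : Fin 2) : Subgroup X.D.W := Wl X.D (lam J)

/-- the types -/
noncomputable def tL (τ : Fin 5) : X.D.W := el X (w1 τ)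

/-- the representatives -/
noncomputable def rU (τ : Fin 5) (t : Fin 3) : X.D.W := el X (rp (Jt τ) t)

/-- the class of a type -/
noncomputable def cl (u : X.D.W) : Fin 11 := (cls X u).choose

/-- the value of a character -/
noncomputable def ch (y : Fin 4 → ℤ) (c : Lbl X.D) : ℂˣ := chr (R := Fin 4) y c

/-- the label is trivial on the coroots of `J` -/
def Kc (J : Fin 2) (c : Lbl X.D) : Prop := ∀ y, ch X y c = ch X (ya J) c ^ (xa J ⬝ᵥ y) * ch X (yb J) c ^ (xb J ⬝ᵥ y)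

variable {X} {J : Fin 2} {τ : Fin 5} {c : Lbl X.D} {u v w : X.D.W}

theorem cl_spec (u : X.D.W) : ∃ v, Tc X.D v u (wT X (cl X u)) := (cls X u).choose_spec

theorem cl_tc (h : Tc X.D v u w) : cl X u = cl X w := by
  obtain ⟨a, h1⟩ := cl_spec u
  obtain ⟨b, h2⟩ := cl_spec w
  exact eq_of_tc X (tc_trans (tc_trans h1.symm h) h2)

theorem cl_rU (τ : Fin 5) (t : Fin 3) : cl X (rU X τ t * tL X τ) = ix τ t := by
  obtain ⟨a, h1⟩ := cl_spec (rU X τ t * tL X τ)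
  exact cls_eq X (by rw [rU, tL, ← el_append, el_G4, (chk_ix τ t).1]) h1

theorem mem_UJ {L : Wd} : el X L ∈ UJ X J ↔ inU J L = true := by
  rw [inU, beq_iff_eq, app_mW, List.ofFn_inj, ← wm_el X]
  rfl

theorem exists_uL (h : u ∈ UJ X J) : ∃ x ∈ uL J, u = el X x.1 := by
  obtain ⟨L, h1, rfl⟩ := exists_el X u
  have h2 : L ∈ wordsF4.filter (inU J) := List.mem_filter.2 ⟨h1, mem_UJ.1 h⟩
  rw [chk_filter, List.mem_map] at h2
  obtain ⟨x, h3, rfl⟩ := h2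
  exact ⟨x, h3, rfl⟩

theorem fix_U (h : u ∈ UJ X (Jt τ)) : wm X u *ᵥ ys τ = ys τ ∧ xa (Jt τ) ᵥ* wm X u = xa (Jt τ) ∧
    xb (Jt τ) ᵥ* wm X u = xb (Jt τ) := by
  obtain ⟨x, h1, rfl⟩ := exists_uL h
  rw [wm_el]
  exact (chk_uL τ x h1).2.2

theorem tc_uL {x : Wd × Wd × Fin 3} (h : x ∈ uL (Jt τ)) :
    Tc X.D (el X x.2.1) (el X x.1 * tL X τ) (rU X τ x.2.2 * tL X τ) := by
  rw [rU, tL, ← el_append, ← el_append]
  exact (tc_B X).2 (chk_uL τ x h).1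

theorem rU_mem (τ : Fin 5) (t : Fin 3) : rU X τ t ∈ UJ X (Jt τ) := mem_UJ.2 (chk_ix τ t).2.1

theorem sg_rU (τ : Fin 5) (t : Fin 3) : sg X.D (rU X τ t) = (![1, -1, -1] t : ℤ) := by
  rw [rU, sg_el, ← (chk_ix τ t).2.2]
  push_cast
  rfl

theorem sum_U {g : X.D.W → ℂ}
    (hg : ∀ v ∈ UJ X (Jt τ), ∀ u u', Tc X.D v (u * tL X τ) (u' * tL X τ) → g u = g u') :
    (Nat.card (UJ X (Jt τ)) : ℂ)⁻¹ * ∑ᶠ u : UJ X (Jt τ), g u = 4⁻¹ * (2 * g (rU X τ 0) + g (rU X τ 1) + g (rU X τ 2)) := by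
  rw [← mul_one (Nat.card _ : ℂ), ← finsum_const, sum_W X _ _ (fun _ => mem_UJ) fun _ => (1 : ℂ),
    sum_W X _ _ (fun _ => mem_UJ) g, chk_filter, List.map_map, List.map_map, ← avg_list (Jt τ) fun t => g (rU X τ t)]
  exact congrArg _ (congrArg _ (List.map_congr_left fun x h => hg _ (mem_UJ.2 (chk_uL τ x h).2.1) _ _ (tc_uL h)))

theorem ch_rel (h : Rel X.D v c c) (y : Fin 4 → ℤ) : ch X (wm X v *ᵥ y) c = ch X y c := h y

theorem ch_add (y y' : Fin 4 → ℤ) : ch X (y + y') c = ch X y c * ch X y' c := chr_add _ _ _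

theorem ch_zsmul (a : ℤ) (y : Fin 4 → ℤ) : ch X (a • y) c = ch X y c ^ a := chr_zsmul _ _ _

theorem ch_zero : ch X 0 c = 1 := chr_zero _

theorem ch_odd (h : Fx X.D w c) {y : Fin 4 → ℤ} {n : ℕ} (a : ℕ) (hx : ch X y c ^ (2 ^ a * n) = 1) : ch X y c ^ n = 1 :=
  odd_fx rfl h a hx

theorem cube_of_ch (h : ∀ y, ch X y c ^ 3 = 1) : c ^ 3 = 1 :=
  eq_of_chr X.D fun y => by rw [map_pow, map_one]; exact h y

theorem ch_fx (h : Fx X.D w c) {y : Fin 4 → ℤ} (hy : ch X y c = 1) : ch X ((wm X w * G4) *ᵥ y) c = 1 := by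
  have h1 : ch X (((2 : ℤ) ^ m • (wm X w * G4)) *ᵥ y) c = 1 :=
    (congrArg (fun A : Matrix (Fin 4) (Fin 4) ℤ => ch X (A *ᵥ y) c) (wm_mx X w)).symm.trans ((h y).trans hy)
  rw [smul_mulVec, ch_zsmul] at h1
  rw [← pow_one (ch X _ c)]
  exact ch_odd h m (by rw [mul_one, ← zpow_natCast]; exact_mod_cast h1)

theorem U_le (h : Kc X (Jt τ) c) : UJ X (Jt τ) ≤ Wc X.D c := fun u hu (y : Fin 4 → ℤ) => by
  show ch X (wm X u *ᵥ y) c = ch X y c
  rw [h y, h (_ *ᵥ _), dotProduct_mulVec, dotProduct_mulVec, (fix_U hu).2.1, (fix_U hu).2.2]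

theorem ch_one (y : Fin 4 → ℤ) : ch X y 1 = 1 := map_one (chr (R := Fin 4) (k := ℂ) y)

theorem kc_one (J : Fin 2) : Kc X J 1 := fun y => by simp only [ch_one, _root_.one_zpow, mul_one]

theorem kc_of_rel (h : Fx X.D w c) (h1 : Rel X.D (el X (wJ J)) c c) : Kc X J c := fun y => by
  have h2 := congrArg (fun A => ch X (A *ᵥ y) c) (chk_wJ J)
  simp only [← mulVec_mulVec, add_mulVec, one_mulVec, zero_mulVec, ← wm_el X, ch_add, ch_rel h1, ch_zero] at h2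
  have h3 := ch_odd h (n := 1) 1 ((sq _).trans h2)
  rw [pow_one] at h3
  rw [← ch_zsmul, ← ch_zsmul, ← ch_add, ← one_mul (ch X (_ + _) c), ← h3, ← ch_add]
  congr 1
  simp only [sub_mulVec, one_mulVec, vecMulVec_mulVec, op_smul_eq_smul]
  abel

theorem stab (h : Kc X (Jt τ) c) (h1 : Fx X.D (tL X τ) c) (hc : c ^ 3 ≠ 1) : Wc X.D c = UJ X (Jt τ) := by
  refine le_antisymm (fun v hv => ?_) (U_le h)
  obtain ⟨L, h2, rfl⟩ := exists_el X v
  refine mem_UJ.2 ((chk_stab L h2 τ).resolve_right fun ⟨z, hz, z', hz', h3, h4⟩ => hc ?_)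
  have h5 : ∀ i, ∃ y, ch X y c = 1 ∧ zs (Jt τ) (mW L 1) i = (xa (Jt τ) ⬝ᵥ y, xb (Jt τ) ⬝ᵥ y) := fun i =>
    ⟨mW L 1 *ᵥ Pi.single i 1 + (-1 : ℤ) • Pi.single i 1, by
      rw [ch_add, ← wm_el X, ch_rel hv, ch_zsmul, _root_.zpow_neg_one, mul_inv_cancel], by
      simp only [zs, dv_eq, dotProduct_add, dotProduct_smul, dotProduct_single, mulVec_single_one, mul_one, smul_eq_mul,
        neg_one_mul, ← sub_eq_add_neg]
      rfl⟩
  have h6 : ∀ i, ∃ y, ch X y c = 1 ∧ bz (b0 τ) (zs (Jt τ) (mW L 1) i) = (xa (Jt τ) ⬝ᵥ y, xb (Jt τ) ⬝ᵥ y) := fun i => by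
    obtain ⟨y, e1, e2⟩ := h5 i
    refine ⟨_, ch_fx h1 e1, ?_⟩
    rw [e2, tL, el_G4, dotProduct_mulVec, dotProduct_mulVec, (chk_b0 τ).1, (chk_b0 τ).2]
    simp only [bz, add_dotProduct, smul_dotProduct, smul_eq_mul]
  have h7 : ∀ z ∈ zL (b0 τ) (zs (Jt τ) (mW L 1)), ch X (ya (Jt τ)) c ^ z.1 * ch X (yb (Jt τ)) c ^ z.2 = 1 := fun z hz => by
    obtain ⟨y, e1, rfl⟩ : ∃ y, ch X y c = 1 ∧ z = (xa (Jt τ) ⬝ᵥ y, xb (Jt τ) ⬝ᵥ y) := by
      simp only [zL, List.mem_cons, List.not_mem_nil, or_false] at hz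
      rcases hz with rfl | rfl | rfl | rfl | rfl | rfl | rfl | rfl <;> first | exact h5 _ | exact h6 _
    rw [← h y, e1]
  simp only [List.forall_mem_cons, ← Int.dvd_iff_emod_eq_zero] at h4
  have ha := kil_det (h7 z hz) (h7 z' hz') h3 h4.2.1 h4.2.2.2.1
  have hb := kil_det ((mul_comm _ _).trans (h7 z' hz')) ((mul_comm _ _).trans (h7 z hz))
    (by rwa [mul_comm z'.2, mul_comm z'.1]) (by rw [mul_comm z'.2, mul_comm z'.1]; exact h4.2.2.1)
    (by rw [mul_comm z'.2, mul_comm z'.1]; exact h4.1)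
  have ha' := ch_odd h1 (n := 3) 7 (by exact_mod_cast ha)
  have hb' := ch_odd h1 (n := 3) 7 (by exact_mod_cast hb)
  refine cube_of_ch fun y => ?_
  rw [h y, mul_pow, ← zpow_natCast, ← zpow_natCast, zpow_comm, zpow_comm (ch X (yb _) c), zpow_natCast, zpow_natCast, ha', hb',
    _root_.one_zpow, _root_.one_zpow, one_mul]

theorem levi (h : Kc X (Jt τ) c) (h1 : Fx X.D (tL X τ) c) : LeviOK X.D (lam (Jt τ)) (tL X τ) c where
  stab a ha h2 := by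
    have h3 : X.D.wt a ⬝ᵥ ys τ = 0 := (dot_of_fix ha).1 (fix_U ((dot_of_fix ha).2 h2)).1
    have h5 : (X.D.Wm (tL X τ) * X.D.Mx) *ᵥ ys τ = ((2 : ℤ) ^ m * 2) • lam (Jt τ) :=
      (congrArg (fun A : Matrix (Fin 4) (Fin 4) ℤ => A *ᵥ ys τ) (wm_mx X _)).trans (by
        rw [smul_mulVec, tL, el_G4, chk_ys, smul_smul])
    exact stab_of ha h3 h5 (by positivity)
  fx := h1
  cen := by
    obtain ⟨n, h2, h3⟩ := pow_fx h1
    obtain ⟨ξ, i, j, hi, hj⟩ := exists_gen h2 (h3 (ya (Jt τ))) (h3 (yb (Jt τ)))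
    refine ⟨ξ, i • xa (Jt τ) + j • xb (Jt τ), fun a ha h4 => dot_cor ha ?_, funext fun l : Fin 4 => ?_⟩
    · have h5 := (fix_U ((dot_of_fix ha).2 h4)).2
      show (i • xa (Jt τ) + j • xb (Jt τ)) ᵥ* wm X (X.D.rf a) = _
      rw [add_vecMul, smul_vecMul, smul_vecMul, h5.1, h5.2]
    · have h5 := h (Pi.single l 1)
      rw [dotProduct_single, dotProduct_single, mul_one, mul_one, show ch X (ya _) c = _ from hi, show ch X (yb _) c = _ from hj,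
        ← _root_.zpow_mul, ← _root_.zpow_mul, ← _root_.zpow_add] at h5
      exact (chr_single l c).symm.trans h5

theorem normal {i : Fin 11} (h : Fx X.D (wT X i) c) (hc : c ^ 3 ≠ 1) (hv : v ≠ 1) (h1 : v ∈ CW X.D (wT X i))
    (h2 : v ∈ Wc X.D c) : ∃ τ g c', Rel X.D g c c' ∧ Kc X (Jt τ) c' ∧ Fx X.D (tL X τ) c' := by
  obtain ⟨n, q, hq, h3, h4, h5⟩ := exists_prime hv
  obtain ⟨L, h6, e⟩ := (mem_cw X).1 (pow_mem h1 n)
  have h7 : Rel X.D (el X L) c c := e ▸ pow_mem h2 n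
  rw [e] at h4 h5
  obtain ⟨h8, h9⟩ := (chk_cw i L h6).resolve_left fun e' => h4 (((el_eq_iff X).2 e').trans (el_nil X))
  rw [card_XW, show 1152 = 2 ^ 7 * 3 ^ 2 from rfl, hq.dvd_mul] at h3
  rcases h3 with h3 | h3
  · obtain rfl := (Nat.prime_dvd_prime_iff_eq hq Nat.prime_two).1 (hq.dvd_of_dvd_pow h3)
    rcases h8 ((el_eq_iff X).1 (by rw [el_append, el_nil, ← sq, h5])) with h3 | ⟨x, hx, h3⟩
    · refine absurd (cube_of_ch fun y => ch_odd h 1 ?_) hc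
      have h10 := ch_rel h7 y
      rw [wm_el, h3, neg_mulVec, one_mulVec, ← neg_one_smul ℤ, ch_zsmul, _root_.zpow_neg_one, inv_eq_iff_mul_eq_one] at h10
      rw [pow_mul, pow_one, sq, h10, one_pow]
    · obtain ⟨c', h10⟩ := exists_rel (el X x.2.1) c
      have h11 := fx_tc h ((tc_B X).2 (chk_cert i x hx).1) h10
      have h12 : Kc X (Jt x.1) c' := kc_of_rel h11 (by
        have h13 := (el_eq_iff X).2 h3
        rw [el_append, el_append] at h13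
        rw [← mul_inv_eq_iff_eq_mul.2 h13]
        simpa only [mul_assoc] using (h10.symm.trans h7).trans h10)
      refine ⟨x.1, _, c', h10, h12, ?_⟩
      have h13 := h11.mul (inv_mem (U_le h12 (mem_UJ.2 (chk_cert i x hx).2)))
      rwa [el_append, inv_mul_cancel_left] at h13
  · obtain rfl := (Nat.prime_dvd_prime_iff_eq hq Nat.prime_three).1 (hq.dvd_of_dvd_pow h3)
    refine absurd (cube_of_ch fun y => ?_) hc
    have h10 := congrArg (fun A => ch X (A *ᵥ y) c)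
      (h9 ((el_eq_iff X).1 (by rw [el_append, el_append, el_nil, ← sq, ← pow_succ, h5])))
    simp only [add_mulVec, one_mulVec, zero_mulVec, ← wm_el X, el_append, wm_mul, ← mulVec_mulVec, ch_add, ch_rel h7,
      ch_zero] at h10
    rw [pow_succ, sq, h10]

variable {f : Fr X.D} [Fintype ↥(GF X.F ⊤)]

theorem avg_U (h : Kc X (Jt τ) c) {φ : X.D.W → ℂ} (hφ : ∀ v u u', Tc X.D v (u * tL X τ) (u' * tL X τ) → φ u = φ u') :
    avg f (UJ X (Jt τ)) φ (tL X τ) c = (4⁻¹ : ℂ) • ((2 * φ (rU X τ 0)) • RW f (rU X τ 0 * tL X τ) c +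
      φ (rU X τ 1) • RW f (rU X τ 1 * tL X τ) c + φ (rU X τ 2) • RW f (rU X τ 2 * tL X τ) c) := by
  funext g
  refine (sum_U (g := fun u => φ u * RW f (u * tL X τ) c g) fun v hv u u' e => ?_).trans ?_
  · rw [hφ v u u' e, RW_conj f e (U_le h hv)]
  · simp only [Pi.smul_apply, Pi.add_apply, smul_eq_mul, mul_assoc]

theorem exists_rU (h : Kc X (Jt τ) c) (hu : u ∈ UJ X (Jt τ)) :
    ∃ t, RW f (u * tL X τ) c = RW f (rU X τ t * tL X τ) c ∧ cl X (u * tL X τ) = ix τ t := by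
  obtain ⟨x, h1, rfl⟩ := exists_uL hu
  exact ⟨_, RW_conj f (tc_uL h1) (U_le h (mem_UJ.2 (chk_uL τ x h1).2.1)), (cl_tc (tc_uL h1)).trans (cl_rU τ _)⟩

end Cfsg.Agent.KZ.TF.Mix
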