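import Cfsg.Agent.KZ.TF.MixC

/-!
# KZ, `²F₄` : the multiplicity vector of an irreducible character (helper12)

`rowF` : the field `row` of `Rw`.
-/

set_option autoImplicit false
set_option linter.unusedSectionVars false

namespace Cfsg.Agent.KZ.TF.Mix

open Cfsg Cfsg.Agent.DL Cfsg.Agent.DL.PP Cfsg.Agent.KZ.Lie Cfsg.Agent.Characters.Core Matrix Cfsg.Agent.KZ.ClD
  Cfsg.Agent.KZ.Cl Cfsg.Agent.KZ.DatX Cfsg.Agent.KZ.McX ComplexConjugate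

variable {m : ℕ} {k : Type} [Field k] [CharP k 2] [IsAlgClosed k] {X : XF hpF4 2 k ((2 : ℤ) ^ m • GamF)}
  {τ : Fin 5} {c : Lbl X.D} {u v w : X.D.W}

variable (X) in
/-- the difference of the two classes of reflections -/
noncomputable def ph (τ : Fin 5) (u : X.D.W) : ℂ :=
  (if cl X (u * tL X τ) = ix τ 1 then 1 else 0) - if cl X (u * tL X τ) = ix τ 2 then 1 else 0

theorem ph_tc (v u u' : X.D.W) (h : Tc X.D v (u * tL X τ) (u' * tL X τ)) : ph X τ u = ph X τ u' := by rw [ph, ph, cl_tc h]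

theorem ph_eq {a t : Fin 3} (h : cl X (u * tL X (tt a)) = ix (tt a) t) : ph X (tt a) u = (![0, 1, -1] t : ℤ) := by
  have h1 : ∀ a t : Fin 3, ((if ix (tt a) t = ix (tt a) 1 then 1 else 0) - if ix (tt a) t = ix (tt a) 2 then 1 else 0 : ℤ) =
      ![0, 1, -1] t := by decide
  rw [ph, h, ← h1]
  push_cast
  rfl

variable {f : Fr X.D} [Fintype ↥(GF X.F ⊤)] {χ : IrrCharacter ↥(GF X.F ⊤)}

theorem RW_cl (u : X.D.W) : RW f u 1 = RW f (wT X (cl X u)) 1 :=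
  let ⟨v, h⟩ := cl_spec u
  RW_conj f h (G2.rel_oo v)

theorem ip_U (h : Kc X (Jt τ) c) {φ : X.D.W → ℂ} (hφ : ∀ v u u', Tc X.D v (u * tL X τ) (u' * tL X τ) → φ u = φ u')
    {e : Fin 3 → ℤ} (he : ∀ t, φ (rU X τ t) = e t) (z : ↥(GF X.F ⊤) → ℂ) :
    4 * classInner z (avg f (UJ X (Jt τ)) φ (tL X τ) c) = 2 * e 0 * classInner z (RW f (rU X τ 0 * tL X τ) c) +
      e 1 * classInner z (RW f (rU X τ 1 * tL X τ) c) + e 2 * classInner z (RW f (rU X τ 2 * tL X τ) c) := by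
  simp only [avg_U h hφ, classInner_smul_right, classInner_add_right, he, map_mul, map_inv₀, map_ofNat, map_intCast]
  ring

variable (hA : Api f)
include hA

theorem deg_cl (h : Fx X.D u c) : RW f u c 1 = dG (2 ^ m) (cl X u) := by
  obtain ⟨v, h1⟩ := cl_spec u
  obtain ⟨c', h2⟩ := exists_rel v c
  rw [RW_conj f h1 h2, deg_wT hA _ _ (fx_tc h h1 h2)]

theorem four_dvd (χ : IrrCharacter ↥(GF X.F ⊤)) {n : Fin 11 → ℤ} (hn : ∀ i, classInner χ.1 (RW f (wT X i) 1) = n i)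
    (τ : Fin 5) : 4 ∣ 2 * n (ix τ 0) + n (ix τ 1) + n (ix τ 2) := by
  have h1 := ip_U (f := f) (kc_one (Jt τ)) (φ := fun _ => 1) (fun _ _ _ _ => rfl) (e := fun _ => 1)
    (fun _ => Int.cast_one.symm) χ.1
  rw [show classInner χ.1 (avg f (UJ X _) _ _ _) = _ from G2.mu_spec (hA.levi _ _ _ (levi (kc_one _) (G2.fx_one _))) χ,
    RW_cl (_ * _), RW_cl (rU X τ 1 * _), RW_cl (rU X τ 2 * _), cl_rU, cl_rU, cl_rU, hn, hn, hn] at h1
  simp only [Int.cast_one, mul_one, one_mul] at h1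
  exact ⟨_, by exact_mod_cast h1.symm⟩

theorem mult (hχ : classInner χ.1 (RW f w 1) ≠ 0) (h : Kc X (Jt τ) c) (h1 : Fx X.D (tL X τ) c) (hc : c ^ 3 ≠ 1) :
    classInner χ.1 (RW f (rU X τ 0 * tL X τ) c) = 0 ∧
      classInner χ.1 (RW f (rU X τ 2 * tL X τ) c) = -classInner χ.1 (RW f (rU X τ 1 * tL X τ) c) := by
  have h0 : c ≠ 1 := fun e => hc (by rw [e, one_pow])
  have hs : ∀ v u u', Tc X.D v (u * tL X τ) (u' * tL X τ) → sg X.D u = sg X.D u' := fun _ _ _ e => (se_tc' true e).symm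
  have h2 := ser_zero hχ h1 h0 (φ := fun _ => 1) (fun _ _ _ _ => rfl) (fun _ => by simp)
    (stab h h1 hc ▸ hA.levi _ _ _ (levi h h1))
  have h3 := ser_zero hχ h1 h0 hs (fun u => by rw [Lie.conj_sg, sg_mul_self]) (stab h h1 hc ▸ hA.leviSt _ _ _ (levi h h1))
  have h4 := ip_U (f := f) h (φ := fun _ => 1) (fun _ _ _ _ => rfl) (e := fun _ => 1) (fun _ => Int.cast_one.symm) χ.1
  have h5 := ip_U (f := f) h hs (sg_rU τ) χ.1
  rw [stab h h1 hc] at h2 h3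
  rw [h2] at h4
  rw [h3] at h5
  simp only [cons_val, Int.cast_one, Int.cast_neg] at h4 h5
  exact ⟨by linear_combination (-4⁻¹ : ℂ) * (h4 + h5), by linear_combination (-2⁻¹ : ℂ) * (h4 - h5)⟩

theorem ser (hχ : classInner χ.1 (RW f w 1) ≠ 0) (hc : c ^ 3 ≠ 1) (h : classInner χ.1 (RW f u c) ≠ 0) :
    ∃ (c₀ : Lbl X.D) (a : Fin 3) (j : ℤ) (y : ↥(GF X.F ⊤) → ℂ), j ≠ 0 ∧ (∃ v, Rel X.D v c₀ c) ∧ c₀ ^ 3 ≠ 1 ∧
      Pt f χ.1 (fun c' => ∃ v, Rel X.D v c₀ c') y ∧ classInner χ.1 y = j ^ 2 / 2 ∧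
      4 * y 1 = j * (dG (2 ^ m) (ix (tt a) 1) - dG (2 ^ m) (ix (tt a) 2)) := by
  obtain ⟨i, v, h1⟩ := cls X u
  obtain ⟨c₁, h2⟩ := exists_rel v c
  have hc₁ : c₁ ^ 3 ≠ 1 := fun e => hc (cube_of_rel h2.symm e)
  rw [RW_conj f h1 h2] at h
  obtain ⟨h3, v', h4, h5, h6⟩ := exists_stab hχ (fun e => hc₁ (by rw [e, one_pow])) h
  obtain ⟨τ, g, c₀, h7, h8, h9⟩ := normal h3 hc₁ h4 h5 h6
  have hc₀ : c₀ ^ 3 ≠ 1 := fun e => hc₁ (cube_of_rel h7.symm e)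
  obtain ⟨m0, m2⟩ := mult hA hχ h8 h9 hc₀
  obtain ⟨j, hj⟩ : ∃ j : ℤ, classInner χ.1 (RW f (rU X τ 1 * tL X τ) c₀) = j := ⟨_, G2.mu_spec (RW_gen f _ _) χ⟩
  have hm : ∀ t, classInner χ.1 (RW f (rU X τ t * tL X τ) c₀) = j * (![0, 1, -1] t : ℤ) := fun t => by
    fin_cases t
    · exact m0.trans (by simp)
    · exact hj.trans (by simp)
    · exact m2.trans (by simp [hj])
  have hj0 : j ≠ 0 := fun e => by
    obtain ⟨x, e1, e2⟩ := exists_ser (f := f) h9 h7.symm h3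
    obtain ⟨t, e3, -⟩ := exists_rU (f := f) h8 (stab h8 h9 hc₀ ▸ e1)
    exact h (by rw [e2, e3, hm, e, Int.cast_zero, zero_mul])
  obtain ⟨a, rfl⟩ := (chk_tt τ).resolve_left fun e => hj0 (by
    rw [rU, ← e, ← rU, hj] at m2
    exact_mod_cast (by linear_combination (2⁻¹ : ℂ) * m2 : (j : ℂ) = 0))
  have he : ∀ t, ph X (tt a) (rU X (tt a) t) = (![0, 1, -1] t : ℤ) := fun t => ph_eq (cl_rU _ t)
  refine ⟨c₀, a, j, _, hj0, ⟨_, h7.symm.trans h2.symm⟩, hc₀, pt_ser (j := j) h9 ph_tc fun x hx => ?_, ?_, ?_⟩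
  · obtain ⟨t, e1, e2⟩ := exists_rU (f := f) h8 (stab h8 h9 hc₀ ▸ hx)
    rw [e1, hm, ph_eq e2]
  · have h10 := ip_U (f := f) h8 ph_tc he χ.1
    simp only [hm, cons_val, Int.cast_one, Int.cast_neg, Int.cast_zero] at h10
    rw [classInner_smul_right, stab h8 h9 hc₀, map_intCast]
    linear_combination (j / 4 : ℂ) * h10
  · have h10 : ∀ t, RW f (rU X (tt a) t * tL X (tt a)) c₀ 1 = dG (2 ^ m) (ix (tt a) t) := fun t => by
      rw [deg_cl hA (h9.mul (U_le h8 (rU_mem _ t))), cl_rU]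
    simp only [stab h8 h9 hc₀, avg_U h8 ph_tc, he, Pi.smul_apply, Pi.add_apply, smul_eq_mul, h10, cons_val, Int.cast_one,
      Int.cast_neg, Int.cast_zero]
    ring

theorem exists_pt (hχ : classInner χ.1 (RW f w 1) ≠ 0) {y₀ : ↥(GF X.F ⊤) → ℂ} (h₀ : Pt f χ.1 (· = 1) y₀) {x : ℝ}
    (hx : classInner χ.1 y₀ = x) (hx0 : 0 < x) :
    ∃ (j : Fin 3 → ℤ) (y : ↥(GF X.F ⊤) → ℂ), Pt f χ.1 (· ^ 3 ≠ 1) y ∧
      classInner χ.1 y = (j 0 ^ 2 + j 1 ^ 2 + j 2 ^ 2) / 2 ∧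
      4 * y 1 = j 0 * (dG (2 ^ m) 2 - dG (2 ^ m) 3) + j 1 * (dG (2 ^ m) 5 - dG (2 ^ m) 7) + j 2 * (dG (2 ^ m) 7 - dG (2 ^ m) 6) ∧
      (j = 0 → ∀ u c, c ^ 3 ≠ 1 → classInner χ.1 (RW f u c) = 0) := by
  by_cases h : ∀ u c, c ^ 3 ≠ 1 → classInner χ.1 (RW f u c) = 0
  · exact ⟨0, 0, pt_zero h, by simp [classInner_zero_right], by simp, fun _ => h⟩
  simp only [not_forall] at h
  obtain ⟨u, c, hc, h⟩ := h
  obtain ⟨c₀, a, j, y, h1, -, h2, h3, h4, h5⟩ := ser hA hχ hc h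
  have hne : ∀ {c₀ c : Lbl X.D}, c₀ ^ 3 ≠ 1 → (∃ v, Rel X.D v c₀ c) → c ^ 3 ≠ 1 := fun h2 ⟨_, e⟩ e' => h2 (cube_of_rel e.symm e')
  refine ⟨Pi.single a j, y, h3.mono (fun _ => hne h2) fun u' c' e1 e2 => by_contra fun e3 => ?_, ?_, ?_, fun e => ?_⟩
  · obtain ⟨c₁, -, j', y', h1', ⟨v, e4⟩, h2', h3', h4', -⟩ := ser hA hχ e1 e3
    have h6 := (h₀.add (h3.add h3' fun c ⟨_, a⟩ ⟨_, b⟩ => e2 ⟨_, (a.trans b.symm).trans e4⟩) fun c e e' =>
      e'.elim (hne h2) (hne h2') (by rw [e, one_pow])).bes (x := x + (j ^ 2 / 2 + j' ^ 2 / 2)) (by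
        rw [classInner_add_right, classInner_add_right, hx, h4, h4']
        push_cast
        rfl)
    have h7 : (1 : ℝ) ≤ j ^ 2 := by exact_mod_cast (one_le_sq_iff_one_le_abs j).2 (Int.one_le_abs h1)
    have h8 : (1 : ℝ) ≤ j' ^ 2 := by exact_mod_cast (one_le_sq_iff_one_le_abs j').2 (Int.one_le_abs h1')
    linarith
  · rw [h4]
    fin_cases a <;> simp
  · rw [h5]
    fin_cases a <;> simp [ix, tt]
  · exact absurd (by simpa using congrFun e a) h1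

end Cfsg.Agent.KZ.TF.Mix

namespace Cfsg.Agent.KZ.TF

open Cfsg Cfsg.Agent.DL Cfsg.Agent.DL.PP Cfsg.Agent.KZ.Lie Cfsg.Agent.Characters.Core Matrix Cfsg.Agent.KZ.ClD
  Cfsg.Agent.KZ.Cl Cfsg.Agent.KZ.DatX Cfsg.Agent.KZ.TF.Mix

variable {m : ℕ} {k : Type} [Field k] [CharP k 2] [IsAlgClosed k] {X : XF hpF4 2 k ((2 : ℤ) ^ m • GamF)}
  {f : Fr X.D} [Fintype ↥(GF X.F ⊤)]

/-- **the field `row`** -/
theorem rowF (hA : Api f) (R : Rw0 f) : RowF f R.s := by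
  intro χ h1 hs h4
  obtain ⟨n, hn⟩ : ∃ n : Fin 11 → ℤ, ∀ i, classInner χ.1 (RW f (wT X i) 1) = n i := ⟨_, fun _ => G2.mu_spec (RW_gen f _ _) χ⟩
  obtain ⟨t, ht⟩ : ∃ t : Fin 3 → ℤ, ∀ a, classInner χ.1 (RW f (wT X (iS a)) (R.s a)) = t a :=
    ⟨_, fun _ => G2.mu_spec (RW_gen f _ _) χ⟩
  have hw : ∀ i, (wC i : ℂ) = 96 / nC i := fun i => by fin_cases i <;> simp [wC, nC] <;> norm_num
  obtain ⟨p0, q0⟩ := pt_fam (s := fun _ => 1) (P := (· = 1)) (fun v c c' e e' => eq_one_of_rel (e' ▸ e)) (fun _ => rfl)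
    (by decide) R.ip1 (fun u c e _ => ⟨cl X u, by rw [e, RW_cl u]⟩) hn
  obtain ⟨p1, q1⟩ := pt_fam (P := fun c => c ^ 3 = 1 ∧ c ≠ 1)
    (fun v c c' e e' => ⟨cube_of_rel e e'.1, fun e'' => not_rel_one e'.2 v (e'' ▸ e)⟩) (fun a => ⟨R.s_pow a, R.s_ne a⟩)
    (by decide) R.ips (fun u c e => R.three u c e.1 e.2) ht
  have q0' : ∑ i, (n i : ℂ) ^ 2 / nC i = (((∑ i, wC i * n i ^ 2 : ℤ) / 96 : ℝ) : ℂ) := by
    push_cast
    rw [Finset.sum_div]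
    exact Finset.sum_congr rfl fun i _ => by rw [hw]; ring
  have hpos : 0 < ∑ i, wC i * n i ^ 2 := Finset.sum_pos' (fun i _ => mul_nonneg (by revert i; decide) (sq_nonneg _))
    ⟨4, Finset.mem_univ _, mul_pos (by decide) (sq_pos_of_ne_zero fun e => h4 (by rw [hn, e, Int.cast_zero]))⟩
  obtain ⟨j, y, p2, q2, d2, z2⟩ := exists_pt hA h4 p0 (q0.trans q0') (by positivity)
  have pp := (p0.add p1 fun c e e' => e'.2 e).add p2 fun c e e' => e' (e.elim (fun e => by rw [e, one_pow]) (·.1))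
  have key : ∀ (φ : X.D.W → ℂ) (e : Fin 11 → ℤ), classInner χ.1 (avg f ⊤ φ 1 1) = 0 →
      (∀ i, classInner (avg f ⊤ φ 1 1) (RW f (wT X i) 1) = e i) → ∑ i, wC i * e i * n i = 0 := fun φ e e1 e2 => by
    have e3 : classInner (∑ i, ((n i : ℂ) / nC i) • RW f (wT X i) 1) (avg f ⊤ φ 1 1) = 0 := by
      rw [← e1, ClD.ip_avg', ClD.ip_avg']
      simp only [p0.ins _ _ rfl]
    have e4 := ip_symm e3
    simp only [classInner_sum_right, classInner_smul_right, e2, map_div₀, map_intCast, map_natCast] at e4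
    have e5 : ∑ i, (wC i : ℂ) * e i * n i = 96 * ∑ i, (n i : ℂ) / nC i * e i := by
      rw [Finset.mul_sum]
      exact Finset.sum_congr rfl fun i _ => by rw [hw]; ring
    rw [e4, mul_zero] at e5
    exact_mod_cast e5
  have fd := four_dvd hA χ hn
  refine ⟨n, t, j, ⟨?_, key _ sG (classInner_irr_ne χ.2 hA.st.1 hs) R.st, ?_, ?_, fd 2, fd 3, fd 4, ?_, ?_⟩, hn, ht, ?_,
    fun e e' u c hc => ?_⟩
  · simpa using key _ (fun _ => 1) (by rw [hA.one]; exact classInner_irr_ne χ.2 isIrr_one h1) fun i => by rw [hA.one, R.one, Int.cast_one]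
  · have : 4 ∣ 2 * n 0 + n 1 + n 1 := fd 0
    omega
  · have : 4 ∣ 2 * n 1 + n 4 + n 4 := fd 1
    omega
  · have e1 := G2.mu_spec R.half χ
    rw [show (fun g => 2⁻¹ * (RW f (wT X 1) (R.s 0) g + RW f (wT X 4) (R.s 1) g)) =
      (2⁻¹ : ℂ) • (RW f (wT X (iS 0)) (R.s 0) + RW f (wT X (iS 1)) (R.s 1)) from rfl, classInner_smul_right,
      classInner_add_right, ht, ht, map_inv₀, map_ofNat, inv_mul_eq_iff_eq_mul₀ two_ne_zero] at e1
    exact ⟨_, by exact_mod_cast e1⟩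
  · have e1 := pp.bes (x := (∑ i, wC i * n i ^ 2 + (48 * t 0 ^ 2 + 16 * t 1 ^ 2 + 32 * t 2 ^ 2) +
        48 * (j 0 ^ 2 + j 1 ^ 2 + j 2 ^ 2) : ℤ) / 96) (by
      rw [classInner_add_right, classInner_add_right, q0, q0', q1, q2, Fin.sum_univ_three]
      simp only [nS, cons_val]
      push_cast
      ring)
    rw [div_le_one (by norm_num)] at e1
    exact_mod_cast e1
  · rw [pp.deg hA fun c => by
      by_cases e : c ^ 3 = 1
      · exact .inl ((em (c = 1)).imp_right fun e' => ⟨e, e'⟩)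
      · exact .inr e]
    have e1 : 96 * ∑ i, (n i : ℂ) / nC i * dG (2 ^ m) i = ∑ i, (wC i : ℂ) * n i * dG (2 ^ m) i := by
      rw [Finset.mul_sum]
      exact Finset.sum_congr rfl fun i _ => by rw [hw]; ring
    simp only [Pi.add_apply, Finset.sum_apply, Pi.smul_apply, smul_eq_mul, R.deg _ _ (G2.fx_one _), R.deg _ _ (R.s_fx _)]
    simp only [Fin.sum_univ_three, deg96, nS, iS, cons_val]
    push_cast
    linear_combination e1 + 24 * d2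
  · by_cases e1 : c ^ 3 = 1
    · rw [← p1.ins u c ⟨e1, hc⟩, e]
      simp [classInner_zero_left]
    · exact z2 e' u c e1

end Cfsg.Agent.KZ.TF
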