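import Cfsg.Agent.KZ.TF.Iface
import Cfsg.Agent.KZ.McX.WF4

/-!
# KZ, `²F₄` : the interface between the two halves of `BoxRw` (helper12)

`wd` : the words of the eleven types; `Rw0` : the output of the first half; `RowF` : the field `row`; `Rw0.toRw`.
-/

set_option autoImplicit false
set_option linter.unusedSectionVars false

namespace Cfsg.Agent.KZ.TF

open Cfsg Cfsg.Agent.DL Cfsg.Agent.DL.PP Cfsg.Agent.KZ.Lie Cfsg.Agent.KZ.DatX Matrix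

/-- the words of the eleven types -/
def wd : Fin 11 → List (Fin 4) :=
  ![[], [0], [1, 2, 1], [1], [0, 1, 0, 2, 1, 0, 2, 1, 3, 2, 1, 0], [0, 1, 0, 2, 1, 0, 2, 1, 3, 2, 1, 0, 2, 1, 3, 2, 1, 0],
    [0, 1, 0, 2, 1, 0], [0, 1, 0, 2, 1, 0, 2, 1], [0, 1, 2, 1], [0, 1, 0, 2, 1, 0, 3, 2, 1, 0], [0, 1]]

variable {m : ℕ} {k : Type} [Field k] [CharP k 2] [IsAlgClosed k] (X : XF hpF4 2 k ((2 : ℤ) ^ m • GamF))

/-- the element of a word -/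
noncomputable def el (L : List (Fin 4)) : X.D.W := CoxeterMatrix.F₄.toCoxeterSystem.wordProd L

/-- the eleven types -/
noncomputable def wT (i : Fin 11) : X.D.W := el X (wd i)

variable {X} (f : Fr X.D) [Fintype ↥(GF X.F ⊤)]

/-- The output of the first half of `BoxRw`. -/
structure Rw0 where
  s : Fin 3 → Lbl X.D
  cls : ∀ u, ∃ i v, Tc X.D v u (wT X i)
  ord : ∀ i, (ordT X.D (wT X i) : ℤ) = oT (2 ^ m) i
  cw : ∀ i, Nat.card (CW X.D (wT X i)) = nC i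
  card : ∃ n : ℕ, (Nat.card ↥(GF X.F ⊤) : ℤ) = 2 ^ n * oG (2 ^ m)
  s_fx : ∀ a, Fx X.D (wT X (iS a)) (s a)
  s_pow : ∀ a, s a ^ 3 = 1
  s_ne : ∀ a, s a ≠ 1
  ip1 : ∀ i i', classInner (RW f (wT X i) 1) (RW f (wT X i') 1) = if i = i' then (nC i : ℂ) else 0
  ips : ∀ a a', classInner (RW f (wT X (iS a)) (s a)) (RW f (wT X (iS a')) (s a')) = if a = a' then (nS a : ℂ) else 0
  ip1s : ∀ i a, classInner (RW f (wT X i) 1) (RW f (wT X (iS a)) (s a)) = 0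
  one : ∀ i, classInner (fun _ => 1) (RW f (wT X i) 1) = 1
  st : ∀ i, classInner (stF f) (RW f (wT X i) 1) = sG i
  half : IsGeneralizedCharacter ↥(GF X.F ⊤) fun g => 2⁻¹ * (RW f (wT X 1) (s 0) g + RW f (wT X 4) (s 1) g)
  mem : ∀ M, IsPModular 3 M → ∀ (χ : IrrCharacter ↥(GF X.F ⊤)) (a b : ℤ),
    classInner (χ : ↥(GF X.F ⊤) → ℂ) (RW f (wT X 4) 1) = a → classInner (χ : ↥(GF X.F ⊤) → ℂ) (RW f (wT X 4) (s 1)) = b →
    (Mem M χ ↔ ¬ 3 ∣ a - b)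
  /-- all labels of order three -/
  three : ∀ u c, c ^ 3 = 1 → c ≠ 1 → Fx X.D u c → ∃ a, RW f u c = RW f (wT X (iS a)) (s a)
  /-- the degrees -/
  deg : ∀ i c, Fx X.D (wT X i) c → RW f (wT X i) c 1 = dG (2 ^ m) i

/-- the field `row` -/
def RowF (s : Fin 3 → Lbl X.D) : Prop :=
  ∀ χ : IrrCharacter ↥(GF X.F ⊤), (χ : ↥(GF X.F ⊤) → ℂ) ≠ (fun _ => 1) → (χ : ↥(GF X.F ⊤) → ℂ) ≠ stF f →
    classInner (χ : ↥(GF X.F ⊤) → ℂ) (RW f (wT X 4) 1) ≠ 0 →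
    ∃ (n : Fin 11 → ℤ) (t j : Fin 3 → ℤ), Cand n t j ∧
      (∀ i, classInner (χ : ↥(GF X.F ⊤) → ℂ) (RW f (wT X i) 1) = n i) ∧
      (∀ a, classInner (χ : ↥(GF X.F ⊤) → ℂ) (RW f (wT X (iS a)) (s a)) = t a) ∧
      96 * (χ : ↥(GF X.F ⊤) → ℂ) 1 = deg96 (2 ^ m) n t j ∧
      (t = 0 → j = 0 → ∀ u c, c ≠ 1 → classInner (χ : ↥(GF X.F ⊤) → ℂ) (RW f u c) = 0)

variable {f}

/-- the two halves -/
noncomputable def Rw0.toRw (R : Rw0 f) (h : RowF f R.s) : Rw f (2 ^ m) :=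
  { R with w := wT X, row := h }

end Cfsg.Agent.KZ.TF
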