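import Cfsg.Agent.KZ.G2.Grp
import Cfsg.Agent.KZ.Spor.Gen

/-!
# KZ, `²F₄(q)`: the normaliser of the Sylow torus, abstractly (helper22)

`LG2 N T` : as `G2.LG`, but the Sylow `3`-subgroup of `N / T` (of order `3`) need not be normal; `LG2.facts`.
-/

set_option autoImplicit false
set_option linter.unusedSectionVars false

namespace Cfsg.Agent.KZ.TF

open Cfsg Subgroup Cfsg.Agent.KZ.G2

variable {K : Type} [Group K] {N T : Subgroup K} [hT : T.Normal]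

variable (N T) in
/-- the local structure -/
structure LG2 where
  normal : N.Normal
  le : T ≤ N
  comm : ∀ a ∈ T, ∀ b ∈ T, a * b = b * a
  act : ∀ x : K, ∃ n ∈ N, n⁻¹ * x ∈ HH T
  faith : ∀ x ∈ N, x ∈ HH T → x ∈ T
  g : K
  r : K
  g_mem : g ∈ N
  r_mem : r ∈ N
  g_not : g ∉ T
  g_cube : g ^ 3 ∈ T
  rg : r * g * r⁻¹ * g ∈ T
  nine : ¬ 3 ^ 2 ∣ T.relIndex N
  θ : ↥T →* ℂˣ
  θ_cube : θ ^ 3 = 1
  θ_ne : θ ≠ 1
  θ_g : g ∈ stb θ
  θ_r : r ∈ stb θ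
  fixed : ∀ μ : ↥T →* ℂˣ, g ∈ stb μ → μ = 1 ∨ μ = θ ∨ μ = θ⁻¹

theorem stb_comp {B : Subgroup K} (h : T ≤ B) (μ : ↥T →* ℂˣ) (x : ↥B) :
    x ∈ stb (T := T.subgroupOf B) (μ.comp (subgroupOfEquivOfLe h).toMonoidHom) ↔ (x : K) ∈ stb μ :=
  ⟨fun e t => e ((subgroupOfEquivOfLe h).symm t), fun e t => e (subgroupOfEquivOfLe h t)⟩

theorem mem_HH_sub {B : Subgroup K} (h : T ≤ B) (x : ↥B) : x ∈ HH (T.subgroupOf B) ↔ (x : K) ∈ HH T := by
  rw [mem_HH, mem_HH]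
  exact ⟨fun e μ hμ => (stb_comp h μ x).1 (e _ (MonoidHom.ext fun t => DFunLike.congr_fun hμ _)), fun e μ hμ =>
    (stb_comp h (μ.comp (subgroupOfEquivOfLe h).symm.toMonoidHom) x).2
      (e _ (MonoidHom.ext fun t => DFunLike.congr_fun hμ _))⟩

omit hT in
theorem exists_sup [Finite K] {B : Subgroup K} (h1 : ¬ 3 ∣ B.index) (h2 : N ⊔ B = ⊤) (Q : Sylow 3 ↥B)
    (h : N.subgroupOf B ⊔ centralizer ((Q : Subgroup ↥B) : Set ↥B) = ⊤) :
    ∃ R : Sylow 3 K, N ⊔ centralizer ((R : Subgroup K) : Set K) = ⊤ := by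
  obtain ⟨R, h4, -⟩ := Spor.exists_nab B.subtype B.subtype_injective (by rwa [range_subtype]) Q
  have h3 := congrArg (map B.subtype) h
  rw [Subgroup.map_sup, ← MonoidHom.range_eq_map, range_subtype] at h3
  refine ⟨R, ?_⟩
  rw [eq_top_iff, ← h2, h4]
  refine sup_le le_sup_left (h3.ge.trans (sup_le_sup ?_ ?_))
  · rintro _ ⟨x, hx, rfl⟩
    exact hx
  · rintro _ ⟨x, hx, rfl⟩ _ ⟨y, hy, rfl⟩
    exact congrArg Subtype.val (hx y hy)

namespace LG2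

variable [Finite K] (L : LG2 N T)

/-- the normaliser of `T ⟨g⟩` -/
def B : Subgroup K := (normalizer (zpowers (L.g : K ⧸ T) : Set (K ⧸ T))).comap (QuotientGroup.mk' T)

theorem mem_B {x : K} (h : ((x * L.g * x⁻¹ : K) : K ⧸ T) ∈ zpowers (L.g : K ⧸ T)) : x ∈ L.B :=
  mem_normalizer_fintype (S := (zpowers (L.g : K ⧸ T) : Set (K ⧸ T))) (by
    rintro _ ⟨i, rfl⟩
    beta_reduce
    rw [← conj_zpow]
    exact zpow_mem h i)

theorem HH_le : HH T ≤ L.B := fun x hx => L.mem_B (by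
  have h1 : x * L.g * x⁻¹ * L.g⁻¹ ∈ T := L.faith _ (mul_mem (L.normal.conj_mem _ L.g_mem x) (inv_mem L.g_mem)) (by
    simpa only [mul_assoc, inv_inv] using mul_mem hx (HH_normal.conj_mem _ (inv_mem hx) L.g))
  rw [(QuotientGroup.eq_iff_div_mem (x := x * L.g * x⁻¹) (y := L.g)).2 (by rwa [div_eq_mul_inv])]
  exact mem_zpowers _)

theorem T_le : T ≤ L.B := fun x hx => L.HH_le (mem_HH.2 fun μ _ t => congrArg μ (Subtype.ext (by
  rw [MulAut.conjNormal_apply, L.comm x hx t t.2, mul_inv_cancel_right])))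

theorem g_B : L.g ∈ L.B := L.mem_B (by rw [mul_inv_cancel_right]; exact mem_zpowers _)

theorem r_B : L.r ∈ L.B := L.mem_B (by
  rw [(QuotientGroup.eq_iff_div_mem (x := L.r * L.g * L.r⁻¹) (y := L.g⁻¹)).2 (by rw [div_inv_eq_mul]; exact L.rg)]
  exact inv_mem (mem_zpowers _))

theorem sup_B : N ⊔ L.B = ⊤ := eq_top_iff.2 fun x _ => by
  obtain ⟨n, h1, h2⟩ := L.act x
  simpa using mul_mem (mem_sup_left h1 : n ∈ N ⊔ L.B) (mem_sup_right (L.HH_le h2))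

theorem ord_g : orderOf (L.g : K ⧸ T) = 3 :=
  have : Fact (Nat.Prime 3) := ⟨Nat.prime_three⟩
  orderOf_eq_prime ((QuotientGroup.eq_one_iff _).2 L.g_cube) fun e => L.g_not ((QuotientGroup.eq_one_iff _).1 e)

theorem card_map (A : Subgroup K) : Nat.card (A.map (QuotientGroup.mk' T)) = T.relIndex A := by
  rw [← relIndex_ker, QuotientGroup.ker_mk']

theorem index_eq : (N.subgroupOf L.B).index = N.index := by
  have := L.normal
  rw [← N.relIndex_top_right, ← L.sup_B, relIndex_sup_left]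
  rfl

theorem index_B : ¬ 3 ∣ L.B.index := fun h => by
  have h1 := (relIndex_mul_index (inf_le_right : N ⊓ L.B ≤ L.B)).trans
    (relIndex_mul_index (inf_le_left : N ⊓ L.B ≤ N)).symm
  rw [inf_relIndex_right, show N.relIndex L.B = N.index from L.index_eq, mul_comm,
    mul_left_inj' index_ne_zero_of_finite] at h1
  have h2 : 3 ∣ T.relIndex (N ⊓ L.B) := by
    rw [← card_map, ← L.ord_g, ← Nat.card_zpowers]
    exact card_dvd_of_le (zpowers_le.2 ⟨L.g, ⟨L.g_mem, L.g_B⟩, rfl⟩)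
  refine L.nine ?_
  rw [← relIndex_mul_relIndex T (N ⊓ L.B) N (le_inf L.le L.T_le) inf_le_left, ← h1]
  exact Nat.mul_dvd_mul h2 h

theorem three {x : K} (h1 : x ∈ N) (h2 : x ∈ L.B) {j : ℕ} (h3 : x ^ 3 ^ j ∈ T) : x ∈ T ∨ x * L.g⁻¹ ∈ T ∨ x * L.g ∈ T := by
  classical
  have : Fact (Nat.Prime 3) := ⟨Nat.prime_three⟩
  have h4 : IsPGroup 3 ↥(zpowers (L.g : K ⧸ T) ⊔ zpowers (x : K ⧸ T)) :=
    IsPGroup.to_sup_of_normal_left' (IsPGroup.of_card (n := 1) (by rw [Nat.card_zpowers, L.ord_g, pow_one]))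
      (IsPGroup.of_card_dvd_pow (n := j) (by
        rw [Nat.card_zpowers]
        exact orderOf_dvd_of_pow_eq_one ((QuotientGroup.eq_one_iff _).2 h3))) (zpowers_le.2 h2)
  obtain ⟨n, hn⟩ := IsPGroup.iff_card.1 h4
  have h5 := card_dvd_of_le (sup_le (zpowers_le.2 ⟨_, L.g_mem, rfl⟩) (zpowers_le.2 ⟨_, h1, rfl⟩) :
    zpowers (L.g : K ⧸ T) ⊔ zpowers (x : K ⧸ T) ≤ N.map (QuotientGroup.mk' T))
  rw [card_map, hn] at h5
  have h6 : n ≤ 1 := by_contra fun e => L.nine ((pow_dvd_pow 3 (by omega)).trans h5)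
  have h7 := eq_of_le_of_card_ge (le_sup_left : zpowers (L.g : K ⧸ T) ≤ zpowers (L.g : K ⧸ T) ⊔ zpowers (x : K ⧸ T)) (by
    rw [hn, Nat.card_zpowers, L.ord_g]
    exact (Nat.pow_le_pow_right (by decide) h6).trans_eq (pow_one 3))
  have h8 : (x : K ⧸ T) ∈ zpowers (L.g : K ⧸ T) := h7.ge (mem_sup_right (mem_zpowers _))
  rw [mem_zpowers_iff_mem_range_orderOf, L.ord_g, Finset.mem_image] at h8
  obtain ⟨i, hi, e⟩ := h8
  rw [Finset.mem_range] at hi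
  simp only [← QuotientGroup.eq_one_iff, QuotientGroup.mk_mul, QuotientGroup.mk_inv, ← e]
  interval_cases i
  · exact .inl (pow_zero _)
  · exact .inr (.inl (by rw [pow_one, mul_inv_cancel]))
  · exact .inr (.inr ((pow_succ _ 2).symm.trans ((QuotientGroup.eq_one_iff _).2 L.g_cube)))

/-- the structure for the normaliser -/
def lg : LG (N.subgroupOf L.B) (T.subgroupOf L.B) where
  normal := L.normal.subgroupOf _
  le _ h := L.le h
  comm a ha b hb := Subtype.ext (L.comm a ha b hb)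
  act x := by
    obtain ⟨n, h1, h2⟩ := L.act x
    refine ⟨⟨n, ?_⟩, h1, (mem_HH_sub L.T_le _).2 h2⟩
    simpa using mul_mem x.2 (inv_mem (L.HH_le h2))
  faith x h1 h2 := L.faith x h1 ((mem_HH_sub L.T_le _).1 h2)
  g := ⟨L.g, L.g_B⟩
  r := ⟨L.r, L.r_B⟩
  g_mem := L.g_mem
  r_mem := L.r_mem
  g_not := L.g_not
  g_cube := L.g_cube
  rg := L.rg
  three x hx _ h := L.three hx x.2 h
  θ := L.θ.comp (subgroupOfEquivOfLe L.T_le).toMonoidHom
  θ_cube := MonoidHom.ext fun _ => DFunLike.congr_fun L.θ_cube _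
  θ_ne h := L.θ_ne (MonoidHom.ext fun t => DFunLike.congr_fun h ((subgroupOfEquivOfLe L.T_le).symm t))
  θ_g := (stb_comp _ _ _).2 L.θ_g
  θ_r := (stb_comp _ _ _).2 L.θ_r
  fixed μ _ _ h := (L.fixed (μ.comp (subgroupOfEquivOfLe L.T_le).symm.toMonoidHom) ((stb_comp L.T_le _ ⟨L.g, L.g_B⟩).1 h)).imp
    (fun e => MonoidHom.ext fun t => DFunLike.congr_fun e (subgroupOfEquivOfLe L.T_le t)) (Or.imp
      (fun e => MonoidHom.ext fun t => DFunLike.congr_fun e (subgroupOfEquivOfLe L.T_le t))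
      fun e => MonoidHom.ext fun t => DFunLike.congr_fun e (subgroupOfEquivOfLe L.T_le t))

include L in
theorem facts (P : Sylow 3 K) : (¬ 3 ∣ N.index → nab P ≤ 9 ∧
    ∃ Q : Sylow 3 K, N ⊔ centralizer ((Q : Subgroup K) : Set K) = ⊤) ∧ (3 ∣ N.index → 27 ≤ nab P) := by
  obtain ⟨Q⟩ : Nonempty (Sylow 3 ↥L.B) := inferInstance
  rw [Spor.nab_of_inj L.B.subtype L.B.subtype_injective (by rw [range_subtype]; exact L.index_B) Q P, ← L.index_eq]
  exact ⟨fun h => ⟨L.lg.nab_le _ h, exists_sup L.index_B L.sup_B Q (L.lg.sup_cent Q h)⟩, L.lg.le_nab _⟩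

end LG2

end Cfsg.Agent.KZ.TF
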