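import Cfsg.Agent.KZ.TF.Iface
import Cfsg.Agent.DL.PP.Kap

/-!
# KZ, `²F₄`: a quasi-split datum of relative rank one (helper90)

The simple roots form one cycle under `σ`: the Bruhat decomposition and the order of `G ^ F`.
-/

set_option autoImplicit false
set_option linter.unusedSectionVars false
set_option maxHeartbeats 400000

namespace Cfsg.Agent.KZ.TF.Ta

open CoxeterSystem Cfsg.Agent.ChevalleyStructure.CoxeterGeom Cfsg.Agent.Tits.Roots Cfsg.Agent.Nodes.Reps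
  Cfsg.Agent.Nodes.BNOf Cfsg.Agent.DL Cfsg.Agent.DL.PP

variable {p : ℕ} [Fact p.Prime] {k : Type} [Field k] [CharP k p] {Y : Type} [Group Y] {N : Type} [Fintype N]
  [DecidableEq N] {ρ : Y →* GL N k} {F : MulAut Y} {G : Subgroup Y} [IsAlgClosed k] {D : Datum p ρ F G}

variable (D) in
/-- the longest element -/
def Op (w : D.W) : Prop := ∀ a, D.Rt a → 0 ≤ a → D.act w a ≤ 0

theorem op_of_sr {w : D.W} (h : ∀ i, D.act w (sr i) ≤ 0) : Op D w := fun a _ h0 => by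
  rw [D.eq_sum_sr a, Datum.act, map_sum]
  refine Finset.sum_nonpos fun i _ => ?_
  rw [map_zsmul]
  exact smul_nonpos_of_nonneg_of_nonpos (h0 i) (h i)

theorem Op.eq {w w' : D.W} (h : Op D w) (h' : Op D w') : w = w' := by
  refine (inv_mul_eq_one.1 (eq_one_of_nonneg D.cs D.h _ fun i => ?_))
  have hr := (isRoot_sr D.cs D.h i).act (w⁻¹ * w')
  by_contra h0
  have h1 := h _ hr.neg (hr.not_nonneg_iff_neg.1 h0)
  rw [Datum.act, map_neg, map_mul, Module.End.mul_apply, rep_apply_inv, neg_nonpos] at h1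
  exact ((isRoot_sr D.cs D.h i).act w').not_pos_neg h1 (h' _ (isRoot_sr _ _ i) (sr_nonneg i))

theorem Op.fw (hq : D.QS) {w : D.W} (h : Op D w) : D.Fw w = w := by
  refine Op.eq (op_of_sr fun i => ?_) h
  obtain ⟨j, rfl⟩ := D.σ.surjective i
  have hr := (isRoot_sr D.cs D.h j).act w
  rw [← hq.g_sr, ← D.g_act _ (isRoot_sr _ _ j), ← (D.g_root _ hr).not_nonneg_iff, hq.nonneg_iff hr, hr.not_nonneg_iff]
  exact h _ (isRoot_sr _ _ j) (sr_nonneg j)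

variable (D) in
theorem exists_op : ∃ w, Op D w := by
  obtain ⟨w, hw⟩ := D.exists_chamber (-Nodes.Slope.htHom) fun a ha => neg_ne_zero.2 (Nodes.Slope.ht_ne_zero ha)
  refine ⟨w, fun a ha h0 => ?_⟩
  rw [← (ha.act w).not_nonneg_iff]
  exact fun h1 => lt_asymm (RGD.ht_pos (ha.act w) h1) (neg_pos.1 ((hw a ha).2 h0))

theorem Op.NW {w : D.W} (h : Op D w) : Nodes.NormalForm.NW D.cs D.h w = RGD.Pos D.cs D.h :=
  Set.ext fun a => ⟨fun ha => ⟨ha.1, ha.2.1⟩, fun ha => ⟨ha.1, ha.2, h a ha.1 ha.2⟩⟩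

theorem Op.eq_one {w : D.W} (h : Op D w) {m u : Y} (hm : D.Rp w m) (hu : u ∈ D.U) (hu' : m * u * m⁻¹ ∈ D.U) :
    u = 1 := by
  have := D.eq_one_of_mem_U_of_mem_UN hu'
    (D.conj_mem_S hm (fun _ ha => ha.1) (fun a ha => And.intro (ha.1.act w) (h a ha.1 ha.2)) hu)
  simpa using this

section One

variable (hq : D.QS) (ht : ∀ i j, ∃ n : ℕ, D.σ^[n] i = j)
include hq ht

theorem one_or_op {w : D.W} (hw : D.Fw w = w) : w = 1 ∨ Op D w := by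
  refine or_iff_not_imp_left.2 fun h1 => op_of_sr fun j => ?_
  obtain ⟨i, hi⟩ : ∃ i, ¬ 0 ≤ D.act w (sr i) := not_forall.1 fun h => h1 (eq_one_of_nonneg D.cs D.h _ h)
  obtain ⟨n, rfl⟩ := ht i j
  rw [← ((isRoot_sr D.cs D.h _).act w).not_nonneg_iff]
  induction n with
  | zero => exact hi
  | succ n ih =>
    rw [Function.iterate_succ_apply', ← hq.g_sr, ← hw, ← Datum.act, ← D.g_act _ (isRoot_sr _ _ _),
      hq.nonneg_iff ((isRoot_sr D.cs D.h _).act w)]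
    exact ih

/-- the two cells -/
theorem cells {g : Y} (hg : g ∈ GF F G) : (∃ u ∈ D.U ⊓ GF F G, ∃ t ∈ D.T ⊓ GF F G, g = u * t) ∨
    ∃ w, Op D w ∧ ∃ u ∈ D.U ⊓ GF F G, ∃ m, D.Rp w m ∧ F m = m ∧ ∃ v ∈ D.U ⊓ GF F G, g = u * m * v := by
  obtain ⟨w, u, hu, m, hm, v, hv, e⟩ := D.exists_normal_form hg.1
  have hv' := D.NW_le_U w hv
  have e' : F u * F m * F v = u * m * v := by rw [← map_mul, ← map_mul, ← e]; exact hg.2
  obtain ⟨h1, h2⟩ := D.eq_of_mem_UNU ((hq.F_mem_U u).2 hu) hu hm.mapF hm ((hq.F_mem_U v).2 hv') hv' e'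
  rcases one_or_op hq ht h1 with rfl | h
  · have hT : m ∈ D.T := (D.pr_eq_one_iff ⟨_, hm⟩).1 hm.pr_eq
    have hm' : m ∈ GF F G := ⟨D.T_le_G hT, h2⟩
    refine Or.inl ⟨g * m⁻¹, ⟨?_, (GF F G).mul_mem hg ((GF F G).inv_mem hm')⟩, m, ⟨hT, hm'⟩, by group⟩
    rw [e, mul_assoc, mul_assoc, ← mul_assoc m]
    exact D.U.mul_mem hu (D.conj_mem_U_of_T hT hv')
  · have hF : F v ∈ D.S (Nodes.NormalForm.NW D.cs D.h w) := by rw [h.NW]; exact (hq.F_mem_U v).2 hv'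
    obtain ⟨-, h3, -, h4⟩ := D.normal_form_unique ((hq.F_mem_U u).2 hu) hu (h2.symm ▸ hm) hm hF hv e'
    exact Or.inr ⟨w, h, u, ⟨hu, D.U_le_G hu, h3⟩, m, hm, h2, v, ⟨hv', D.U_le_G hv', h4⟩, e⟩

theorem bruhat {g : Y} (hg : g ∈ GF F G) : (∃ u ∈ D.U ⊓ GF F G, ∃ t ∈ D.T ⊓ GF F G, g = u * t) ∨
    (D.U ⊓ GF F G) ⊓ cj g (D.U ⊓ GF F G) = ⊥ := by
  refine (cells hq ht hg).imp_right fun ⟨w, h, u, hu, m, hm, _, v, hv, e⟩ => eq_bot_iff.2 fun x hx => ?_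
  have h1 : v * (g⁻¹ * x * g) * v⁻¹ ∈ D.U := D.U.mul_mem (D.U.mul_mem hv.1 (mem_cj.1 hx.2).1) (D.U.inv_mem hv.1)
  have h2 := h.eq_one hm h1 (by
    have := D.U.mul_mem (D.U.mul_mem (D.U.inv_mem hu.1) hx.1.1) hu.1
    convert this using 1
    rw [e]
    group)
  rw [Subgroup.mem_bot]
  calc x = g * v⁻¹ * (v * (g⁻¹ * x * g) * v⁻¹) * v * g⁻¹ := by group
    _ = 1 := by rw [h2]; group

theorem card_GF [Nonempty D.I] : Nat.card ↥(GF F G) =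
    Nat.card ↥(D.U ⊓ GF F G) * Nat.card ↥(D.T ⊓ GF F G) * (1 + Nat.card ↥(D.U ⊓ GF F G)) := by
  obtain ⟨w, hw⟩ := exists_op D
  obtain ⟨n, hn, hF⟩ := D.exists_rp_fix (hw.fw hq)
  have hn' : n ∈ GF F G := ⟨hn.mem_G, hF⟩
  have hne : (1 : D.W) ≠ w := fun e => by
    obtain ⟨i⟩ := ‹Nonempty D.I›
    have := hw _ (isRoot_sr _ _ i) (sr_nonneg i)
    rw [← e, Datum.act, map_one, Module.End.one_apply] at this
    exact (isRoot_sr D.cs D.h i).not_pos_neg (sr_nonneg i) this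
  have hfin : Finite ↥(GF F G) := D.amb.finite_GF G
  have f1 : Finite ↥(D.U ⊓ GF F G) := Finite.of_injective _ (Subgroup.inclusion_injective inf_le_right)
  have f2 : Finite ↥(D.T ⊓ GF F G) := Finite.of_injective _ (Subgroup.inclusion_injective inf_le_right)
  let φ : (↥(D.U ⊓ GF F G) × ↥(D.T ⊓ GF F G)) × Option ↥(D.U ⊓ GF F G) → ↥(GF F G) := fun x =>
    x.2.elim ⟨x.1.1 * x.1.2, mul_mem x.1.1.2.2 x.1.2.2.2⟩ fun v =>
      ⟨x.1.1 * (x.1.2 * n) * v, mul_mem (mul_mem x.1.1.2.2 (mul_mem x.1.2.2.2 hn')) v.2.2⟩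
  have r1 : ∀ t : ↥(D.T ⊓ GF F G), D.Rp 1 t := fun t => rp_of_mem t.2.1
  have r2 : ∀ t : ↥(D.T ⊓ GF F G), D.Rp w (t * n) := fun t => by simpa using (r1 t).mul hn
  have hφ : Function.Bijective φ := by
    constructor
    · rintro ⟨⟨u, t⟩, _ | v⟩ ⟨⟨u', t'⟩, _ | v'⟩ e <;> have e' := congrArg Subtype.val e
      · obtain ⟨-, h1, h2, -⟩ := D.normal_form_unique u.2.1 u'.2.1 (r1 t) (r1 t') (one_mem _) (one_mem _)
          (by rw [mul_one, mul_one]; exact e')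
        rw [Subtype.ext h1, Subtype.ext h2]
      · exact absurd (D.eq_of_mem_UNU u.2.1 u'.2.1 (r1 t) (r2 t') (one_mem _) v'.2.1 (by rw [mul_one]; exact e')).1 hne
      · exact absurd (D.eq_of_mem_UNU u'.2.1 u.2.1 (r1 t') (r2 t) (one_mem _) v.2.1 (by rw [mul_one]; exact e'.symm)).1 hne
      · obtain ⟨-, h1, h2, h3⟩ := D.normal_form_unique u.2.1 u'.2.1 (r2 t) (r2 t') (by rw [hw.NW]; exact v.2.1)
          (by rw [hw.NW]; exact v'.2.1) e'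
        rw [Subtype.ext h1, Subtype.ext (mul_right_cancel h2), Subtype.ext h3]
    · intro g
      rcases cells hq ht g.2 with ⟨u, hu, t, ht, e⟩ | ⟨w', h, u, hu, m, hm, h2, v, hv, e⟩
      · exact ⟨⟨⟨⟨u, hu⟩, ⟨t, ht⟩⟩, none⟩, Subtype.ext e.symm⟩
      · obtain rfl := h.eq hw
        have h3 : m * n⁻¹ ∈ D.T := (D.pr_eq_one_iff ⟨_, hm.mul hn.inv⟩).1 
          ((Datum.Rp.pr_eq (hm.mul hn.inv)).trans (mul_inv_cancel _))
        refine ⟨⟨⟨⟨u, hu⟩, ⟨m * n⁻¹, h3, (GF F G).mul_mem ⟨hm.mem_G, h2⟩ ((GF F G).inv_mem hn')⟩⟩, some ⟨v, hv⟩⟩,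
          Subtype.ext ?_⟩
        show u * (m * n⁻¹ * n) * v = g
        rw [e, inv_mul_cancel_right]
  rw [← Nat.card_eq_of_bijective φ hφ, Nat.card_prod, Nat.card_prod, Finite.card_option, add_comm]

end One

end Cfsg.Agent.KZ.TF.Ta
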