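import Cfsg.Agent.KZ.TF.TaA

/-!
# KZ, `²F₄`: the unipotent radical of a datum like `SU₃` (helper90)
-/

set_option autoImplicit false
set_option linter.unusedSectionVars false
set_option maxHeartbeats 400000

namespace Cfsg.Agent.KZ.TF.Ta

open CoxeterSystem Cfsg.Agent.ChevalleyStructure.CoxeterGeom Cfsg.Agent.Tits.Roots Cfsg.Agent.Nodes.Reps
  Cfsg.Agent.Nodes.BNOf Cfsg.Agent.DL Cfsg.Agent.DL.PP
open scoped commutatorElement

variable {p : ℕ} [Fact p.Prime] {k : Type} [Field k] [CharP k p] {Y : Type} [Group Y] {N : Type} [Fintype N]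
  [DecidableEq N] {ρ : Y →* GL N k} {F : MulAut Y} {G : Subgroup Y} [IsAlgClosed k] {D : Datum p ρ F G} {e : ℕ}

theorem card_twist (he : 0 < e) {l : k} (hl : l ≠ 0) : Nat.card {s : k // l * s ^ p ^ e = s} = p ^ e := by
  have h1 : 1 < p ^ e := Nat.one_lt_pow he.ne' (Fact.out : p.Prime).one_lt
  obtain ⟨μ, hμ⟩ := IsAlgClosed.exists_pow_nat_eq l⁻¹ (Nat.sub_pos_of_lt h1)
  have h0 : μ ≠ 0 := fun h => by
    rw [h, zero_pow (Nat.sub_pos_of_lt h1).ne'] at hμ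
    exact inv_ne_zero hl hμ.symm
  have h2 : l * μ ^ p ^ e = μ := by
    rw [← Nat.sub_add_cancel h1.le, pow_succ, hμ, ← mul_assoc, mul_inv_cancel₀ hl, one_mul]
  refine Eq.trans ?_ (card_pow_eq (k := k) he)
  refine Nat.card_congr (Equiv.subtypeEquiv (Equiv.mulLeft₀ μ h0) fun s => ?_).symm
  show _ ↔ l * (μ * s) ^ p ^ e = μ * s
  rw [mul_pow, ← mul_assoc, h2, mul_right_inj' h0]

variable (p k) in
/-- the field with `p ^ n` elements -/
noncomputable def Kf (n : ℕ) : Subfield k := (iterateFrobenius k p n).eqLocusField (RingHom.id k)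

theorem mem_Kf {n : ℕ} {x : k} : x ∈ Kf p k n ↔ x ^ p ^ n = x := Iff.rfl

theorem card_Kf {n : ℕ} (hn : 0 < n) : Nat.card (Kf p k n) = p ^ n := card_pow_eq (k := k) hn

variable (D e) in
/-- four simple roots in one cycle, two further positive roots -/
structure Cy where
  qs : D.QS
  pos : 0 < e
  i : Fin 4 ≃ D.I
  σi : ∀ a, D.σ (i a) = i (a + 1)
  e0 : D.ex (sr (i 0)) + D.ex (sr (i 1)) = e
  e2 : D.ex (sr (i 2)) + D.ex (sr (i 3)) = e
  c : D.I → ℤ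
  d : D.I → ℤ
  ns : NS D = {c, d}
  gc : D.g c = d
  gd : D.g d = c
  ne : c ≠ d
  ec : D.ex c + D.ex d = e
  btw : ∀ a, ¬ Btwn D.cs D.h c d a

variable (D) in
/-- twisted tuples -/
def Tp (b : D.I → k) : Prop := ∀ j, b (D.σ j) = b j ^ p ^ D.ex (sr j)

namespace Cy

variable (C : Cy D e)

include C in
theorem trans (a b : D.I) : ∃ n : ℕ, D.σ^[n] a = b := by
  obtain ⟨a, rfl⟩ := C.i.surjective a
  obtain ⟨b, rfl⟩ := C.i.surjective b
  have h : ∀ n : ℕ, D.σ^[n] (C.i a) = C.i (a + Fin.ofNat 4 n) := fun n => by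
    induction n with
    | zero => simp
    | succ n ih =>
      rw [Function.iterate_succ_apply', ih, C.σi, add_assoc]
      congr 2
      ext
      simp [Fin.val_add]
  exact ⟨(b - a).1, by rw [h]; simp⟩

variable {b : D.I → k}

theorem two (h : Tp D b) : b (C.i 2) = b (C.i 0) ^ p ^ e := by
  have h0 : b (C.i 1) = _ := (congrArg b (C.σi 0)).symm.trans (h (C.i 0))
  have h1 : b (C.i 2) = _ := (congrArg b (C.σi 1)).symm.trans (h (C.i 1))
  rw [h1, h0, ← pow_mul, ← pow_add, C.e0]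

theorem zero (h : Tp D b) : b (C.i 0) = b (C.i 2) ^ p ^ e := by
  have h0 : b (C.i 3) = _ := (congrArg b (C.σi 2)).symm.trans (h (C.i 2))
  have h1 : b (C.i 0) = _ := (congrArg b (C.σi 3)).symm.trans (h (C.i 3))
  rw [h1, h0, ← pow_mul, ← pow_add, C.e2]

theorem mem (h : Tp D b) : b (C.i 0) ∈ Kf p k (2 * e) := by
  rw [mem_Kf, two_mul, pow_add, pow_mul, ← C.two h, ← C.zero h]

theorem const (h : Tp D b) {x : k} (hx : ∀ n, x ^ p ^ n = x) (h0 : b (C.i 0) = x) (j : D.I) : b j = x := by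
  obtain ⟨n, rfl⟩ := C.trans (C.i 0) j
  induction n with
  | zero => exact h0
  | succ n ih => rw [Function.iterate_succ_apply', h, ih, hx]

theorem exists_tp {x : k} (hx : x ∈ Kf p k (2 * e)) : ∃ b, Tp D b ∧ b (C.i 0) = x := by
  refine ⟨fun j => ![x, x ^ p ^ D.ex (sr (C.i 0)), x ^ p ^ e, (x ^ p ^ e) ^ p ^ D.ex (sr (C.i 2))] (C.i.symm j),
    fun j => ?_, by simp⟩
  obtain ⟨a, rfl⟩ := C.i.surjective j
  rw [C.σi]
  simp only [Equiv.symm_apply_apply]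
  fin_cases a
  · rfl
  · show x ^ p ^ e = (x ^ _) ^ p ^ D.ex (sr (C.i 1))
    rw [← pow_mul, ← pow_add, C.e0]
  · rfl
  · show x = ((x ^ _) ^ _) ^ p ^ D.ex (sr (C.i 3))
    rw [← pow_mul (x ^ _), ← pow_add, C.e2, ← pow_mul, ← pow_add, ← two_mul, mem_Kf.1 hx]

/-- the normalising constants -/
noncomputable def nu : D.I → kˣ := (exists_fix_unit C.qs).choose

theorem nu_spec (j : D.I) : (C.nu (D.σ j) : k) = gam D j * C.nu j ^ p ^ D.ex (sr j) := by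
  rw [nu, (exists_fix_unit C.qs).choose_spec j, Units.val_mul, Units.val_pow_eq_pow_val]

theorem tp_kap {u : Y} (hu : u ∈ D.U ⊓ GF F G) : Tp D fun j => kap D j u / C.nu j := fun j => by
  have := kap_F C.qs j hu.1
  rw [show F u = u from hu.2.2] at this
  simp only
  rw [this, C.nu_spec, div_pow, mul_div_mul_left _ _ (gam D j).ne_zero]

/-- the simple coordinate -/
noncomputable def π : ↥(D.U ⊓ GF F G) →* Multiplicative (Kf p k (2 * e)) :=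
  MonoidHom.mk' (fun u => Multiplicative.ofAdd ⟨_, C.mem (C.tp_kap u.2)⟩) fun u v => by
    rw [← ofAdd_add]
    refine congrArg _ (Subtype.ext ?_)
    show kap D _ (u * v) / _ = kap D _ u / _ + kap D _ v / _
    rw [kap_mul _ u.2.1 v.2.1, add_div]

theorem π_val (u : ↥(D.U ⊓ GF F G)) : ((C.π u).toAdd : k) = kap D (C.i 0) u / C.nu (C.i 0) := rfl

theorem π_surj : Function.Surjective C.π := fun x => by
  obtain ⟨b, hb, h0⟩ := C.exists_tp x.toAdd.2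
  obtain ⟨u, hu, h⟩ := exists_kap_fix C.qs (a := fun j => C.nu j * b j) fun j => by
    rw [hb, C.nu_spec, mul_pow, mul_assoc]
  refine ⟨⟨u, hu⟩, Multiplicative.toAdd.injective (Subtype.ext ?_)⟩
  rw [π_val, h, h0, mul_div_cancel_left₀ _ (C.nu _).ne_zero]

theorem mem_ker {u : ↥(D.U ⊓ GF F G)} : u ∈ C.π.ker ↔ (u : Y) ∈ D.S (NS D) := by
  have h1 : u ∈ C.π.ker ↔ kap D (C.i 0) u / C.nu (C.i 0) = 0 :=
    ⟨fun h => congrArg (fun x : Multiplicative (Kf p k (2 * e)) => (x.toAdd : k)) h,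
      fun h => Multiplicative.toAdd.injective (Subtype.ext h)⟩
  rw [h1, mem_NS_iff]
  refine ⟨fun h => ⟨u.2.1, fun j => ?_⟩, fun h => by rw [h.2, zero_div]⟩
  have := C.const (C.tp_kap u.2) (fun n => zero_pow (pow_ne_zero _ (Fact.out : p.Prime).ne_zero)) h j
  exact (div_eq_zero_iff.1 this).resolve_right (C.nu j).ne_zero

theorem c_mem : C.c ∈ NS D := by rw [C.ns]; exact Or.inl rfl

theorem d_mem : C.d ∈ NS D := by rw [C.ns]; exact Or.inr rfl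

theorem comm (s t : k) : D.x C.c s * D.x C.d t = D.x C.d t * D.x C.c s := by
  have := D.comm C.c_mem.1 C.d_mem.1 C.ne (Base.ne_neg_of_nonneg C.c_mem.1 C.c_mem.2.1 C.d_mem.2.1)
    (D.x_mem C.c_mem.1 s) (D.x_mem C.d_mem.1 t)
  exact commutatorElement_eq_one_iff_mul_comm.1
    (Subgroup.mem_bot.1 (RGD.Sup_le (K := ⊥) (fun a ha => (C.btw a ha).elim) this))

/-- the centre -/
noncomputable def zen : Multiplicative (k × k) →* Y :=
  MonoidHom.mk' (fun x => D.x C.c x.toAdd.1 * D.x C.d x.toAdd.2) fun x y => by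
    rw [toAdd_mul, Prod.fst_add, Prod.snd_add, D.x_add _ C.c_mem.1, D.x_add _ C.d_mem.1, mul_assoc, mul_assoc,
      ← mul_assoc (D.x C.c y.toAdd.1), C.comm, mul_assoc]

theorem zen_inj : Function.Injective C.zen := (injective_iff_map_eq_one _).2 fun x h => by
  have h1 : D.x C.c x.toAdd.1 = (D.x C.d x.toAdd.2)⁻¹ := eq_inv_of_mul_eq_one_left h
  have h2 := D.eq_one_of_mem_X_X C.c_mem.1 C.d_mem.1 C.ne (D.x_mem C.c_mem.1 x.toAdd.1)
    (h1 ▸ (D.X _).inv_mem (D.x_mem C.d_mem.1 _))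
  rw [h2, eq_comm, inv_eq_one, D.x_eq_one_iff C.d_mem.1] at h1
  rw [D.x_eq_one_iff C.c_mem.1] at h2
  exact Multiplicative.toAdd.injective (Prod.ext h2 h1)

theorem range_zen : C.zen.range = D.S (NS D) := by
  refine le_antisymm ?_ (RGD.Sup_le fun a ha y hy => ?_)
  · rintro _ ⟨x, rfl⟩
    exact mul_mem (RGD.le_Sup C.c_mem (D.x_mem C.c_mem.1 _)) (RGD.le_Sup C.d_mem (D.x_mem C.d_mem.1 _))
  · obtain ⟨s, rfl⟩ := (D.mem_X a ha.1 y).1 hy
    rw [C.ns] at ha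
    rcases ha with rfl | rfl
    · exact ⟨Multiplicative.ofAdd (s, 0), (congrArg _ (D.x_zero C.d_mem.1)).trans (mul_one _)⟩
    · exact ⟨Multiplicative.ofAdd (0, s), (congrArg (· * _) (D.x_zero C.c_mem.1)).trans (one_mul _)⟩

theorem card_ker : Nat.card C.π.ker = p ^ e := by
  obtain ⟨γ, hγ, h1⟩ := D.F_x _ C.c_mem.1
  obtain ⟨δ, hδ, h2⟩ := D.F_x _ C.d_mem.1
  rw [C.gc] at h1
  rw [C.gd] at h2
  have hF : ∀ s t, F (C.zen (Multiplicative.ofAdd (s, t))) =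
      C.zen (Multiplicative.ofAdd (δ * t ^ p ^ D.ex C.d, γ * s ^ p ^ D.ex C.c)) := fun s t => by
    show F (D.x C.c s * D.x C.d t) = D.x C.c _ * D.x C.d _
    rw [map_mul, h1, h2, C.comm]
    rfl
  have hS : ∀ x, C.zen x ∈ D.S (NS D) := fun x => C.range_zen.le ⟨x, rfl⟩
  have he : ∀ s : k, δ * (γ * s ^ p ^ D.ex C.c) ^ p ^ D.ex C.d = δ * γ ^ p ^ D.ex C.d * s ^ p ^ e := fun s => by
    rw [mul_pow, ← pow_mul, ← pow_add, C.ec, mul_assoc]
  rw [← card_twist (p := p) C.pos (mul_ne_zero hδ (pow_ne_zero (p ^ D.ex C.d) hγ))]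
  let φ : {s : k // δ * γ ^ p ^ D.ex C.d * s ^ p ^ e = s} → C.π.ker := fun s =>
    ⟨⟨C.zen (Multiplicative.ofAdd (s.1, γ * s.1 ^ p ^ D.ex C.c)), (mem_NS_iff.1 (hS _)).1,
      D.U_le_G (mem_NS_iff.1 (hS _)).1, (hF _ _).trans (by rw [he, s.2]; rfl)⟩, C.mem_ker.2 (hS _)⟩
  refine (Nat.card_eq_of_bijective φ ⟨fun s s' h => ?_, fun u => ?_⟩).symm
  · exact Subtype.ext (congrArg (fun x => x.toAdd.1) (C.zen_inj (congrArg (fun x => x.1.1) h)))
  · obtain ⟨x, hx⟩ := C.range_zen.ge (C.mem_ker.1 u.2)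
    have h3 : C.zen _ = C.zen x := (hF x.toAdd.1 x.toAdd.2).symm.trans (by
      show F (C.zen x) = _
      rw [hx]
      exact u.1.2.2.2)
    have h4 : δ * x.toAdd.2 ^ p ^ D.ex C.d = x.toAdd.1 := congrArg (fun x => x.toAdd.1) (C.zen_inj h3)
    have h5 : γ * x.toAdd.1 ^ p ^ D.ex C.c = x.toAdd.2 := congrArg (fun x => x.toAdd.2) (C.zen_inj h3)
    refine ⟨⟨x.toAdd.1, by rw [← he, h5, h4]⟩, Subtype.ext (Subtype.ext ?_)⟩
    show C.zen (Multiplicative.ofAdd (x.toAdd.1, γ * x.toAdd.1 ^ p ^ D.ex C.c)) = _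
    rw [h5]
    exact hx

include C in
theorem card_U : Nat.card ↥(D.U ⊓ GF F G) = (p ^ e) ^ 3 := by
  rw [← C.π.ker.card_mul_index, C.card_ker, Subgroup.index_ker, MonoidHom.range_eq_top.2 C.π_surj, Subgroup.card_top,
    Nat.card_congr Multiplicative.toAdd, card_Kf (Nat.mul_pos two_pos C.pos)]
  ring

include C in
theorem tp_χ {t : Y} (ht : t ∈ D.T) (hF : F t = t) : Tp D fun j => D.χ (sr j) t := fun j => by
  have := D.χ_F (isRoot_sr _ _ j) ht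
  rwa [C.qs.g_sr, hF] at this

/-- the first simple root -/
noncomputable def a {H : Subgroup Y} (hH : ∀ h ∈ H, F h = h) : ↥(D.T ⊓ H) →* (Kf p k (2 * e))ˣ :=
  MonoidHom.mk' (fun t => Units.mk0 ⟨_, C.mem (C.tp_χ t.2.1 (hH _ t.2.2))⟩
    fun h => D.χ_ne_zero _ _ (congrArg Subtype.val h)) fun s t =>
      Units.ext (Subtype.ext (D.χ_mul _ s.2.1 t.2.1))

theorem a_val {H : Subgroup Y} (hH : ∀ h ∈ H, F h = h) (t : ↥(D.T ⊓ H)) :
    ((C.a hH t : Kf p k (2 * e)) : k) = D.χ (sr (C.i 0)) t := rfl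

theorem mem_ker_a {H : Subgroup Y} (hH : ∀ h ∈ H, F h = h) {t : ↥(D.T ⊓ H)} :
    t ∈ (C.a hH).ker ↔ ∀ j, D.χ (sr j) t = 1 :=
  ⟨fun h => C.const (C.tp_χ t.2.1 (hH _ t.2.2)) (fun _ => one_pow _)
    (congrArg (fun x : (Kf p k (2 * e))ˣ => ((x : Kf p k (2 * e)) : k)) h), fun h => Units.ext (Subtype.ext (h _))⟩

theorem a_conj {H : Subgroup Y} (hH : ∀ h ∈ H, F h = h) (t : ↥(D.T ⊓ H)) (u : ↥(D.U ⊓ GF F G)) :
    ∃ u' : ↥(D.U ⊓ GF F G), (u' : Y) = t * u * (t : Y)⁻¹ ∧ (C.π u').toAdd = C.a hH t * (C.π u).toAdd := by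
  have ht : (t : Y) ∈ GF F G := ⟨D.T_le_G t.2.1, hH _ t.2.2⟩
  refine ⟨⟨_, D.conj_mem_U_of_T t.2.1 u.2.1, (GF F G).mul_mem ((GF F G).mul_mem ht u.2.2) ((GF F G).inv_mem ht)⟩, rfl,
    Subtype.ext ?_⟩
  show kap D _ (t * u * (t : Y)⁻¹) / _ = D.χ (sr (C.i 0)) t * (kap D _ u / _)
  rw [kap_conj _ t.2.1 u.2.1, mul_div_assoc]

/-- an automorphism which moves the third simple root to the first -/
theorem τ_conj {τ : Y} (hF : F τ = τ)
    (h1 : ∀ a, D.Rt a → 0 ≤ a → ∃ b, D.Rt b ∧ 0 ≤ b ∧ (b = sr (C.i 0) → a = sr (C.i 2)) ∧ ∀ y ∈ D.X a, τ * y * τ⁻¹ ∈ D.X b)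
    {γ : k} (hγ : γ ≠ 0) (h2 : ∀ s, τ * D.x (sr (C.i 2)) s * τ⁻¹ = D.x (sr (C.i 0)) (γ * s)) :
    ∃ κ : (Kf p k (2 * e))ˣ, ∀ u : ↥(D.U ⊓ GF F G), ∃ u' : ↥(D.U ⊓ GF F G), (u' : Y) = τ * u * τ⁻¹ ∧
      (C.π u').toAdd = κ * (C.π u).toAdd ^ p ^ e := by
  have hU : D.U ≤ D.U.comap (MulAut.conj τ).toMonoidHom := RGD.Sup_le fun a ha y hy => by
    obtain ⟨b, hb, h0, -, h⟩ := h1 a ha.1 ha.2
    exact RGD.le_Sup (S := RGD.Pos D.cs D.h) ⟨hb, h0⟩ (h y hy)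
  have hP : Pi' D (C.i 2) ≤ (Pi' D (C.i 0)).comap (MulAut.conj τ).toMonoidHom := RGD.Sup_le fun a ha y hy => by
    obtain ⟨ha1, ha2, ha3⟩ := (St.mem_PW D).1 ha
    obtain ⟨b, hb, h0, h3, h⟩ := h1 a ha1 ha2
    exact RGD.le_Sup ((St.mem_PW D).2 ⟨hb, h0, fun e => ha3 (h3 e)⟩) (h y hy)
  have hk : ∀ u ∈ D.U, kap D (C.i 0) (τ * u * τ⁻¹) = γ * kap D (C.i 2) u := fun u hu => kap_eq (by
    have := hP (kap_spec (C.i 2) hu)
    rw [Subgroup.mem_comap, map_mul, map_inv] at this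
    rw [← h2]
    exact this)
  have hm : ∀ u : ↥(D.U ⊓ GF F G), τ * u * τ⁻¹ ∈ D.U ⊓ GF F G := fun u => ⟨hU u.2.1, D.U_le_G (hU u.2.1), by
    show F _ = _
    rw [map_mul, map_mul, map_inv, hF, show F u = u from u.2.2.2]
    rfl⟩
  have hv : ∀ u : ↥(D.U ⊓ GF F G), ((C.π ⟨_, hm u⟩).toAdd : k) =
      γ * C.nu (C.i 2) / C.nu (C.i 0) * ((C.π u).toAdd : k) ^ p ^ e := fun u => by
    rw [π_val, π_val, hk _ u.2.1, ← C.two (C.tp_kap u.2)]
    field_simp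
  obtain ⟨u, hu⟩ := C.π_surj (Multiplicative.ofAdd 1)
  have h3 := hv u
  rw [hu, toAdd_ofAdd, OneMemClass.coe_one, one_pow, mul_one] at h3
  refine ⟨Units.mk0 (C.π ⟨_, hm u⟩).toAdd fun h => ?_, fun v => ⟨⟨_, hm v⟩, rfl, Subtype.ext ?_⟩⟩
  · exact div_ne_zero (mul_ne_zero hγ (C.nu _).ne_zero) (C.nu _).ne_zero (h3.symm.trans (congrArg Subtype.val h))
  · exact (hv v).trans (congrArg (· * _) h3.symm)

end Cy

end Cfsg.Agent.KZ.TF.Ta
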