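import Cfsg.Agent.KZ.TF.TaB
import Cfsg.Agent.KZ.Lie.McLev

/-!
# KZ, `²F₄`: the centraliser of an element of order three, from root data (helper90)
-/

set_option autoImplicit false
set_option linter.unusedSectionVars false
set_option maxHeartbeats 400000

namespace Cfsg.Agent.KZ.TF.Ta

open CoxeterSystem Cfsg.Agent.ChevalleyStructure.CoxeterGeom Cfsg.Agent.Tits.Roots Cfsg.Agent.Nodes.Reps
  Cfsg.Agent.Nodes.BNOf Cfsg.Agent.DL Cfsg.Agent.DL.PP Cfsg.Agent.DL.Base Cfsg.Agent.KZ.Lie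
  Cfsg.Agent.Nodes.SubComb

attribute [local instance] fintypeSmp decSmp

variable {p : ℕ} [Fact p.Prime] {k : Type} [Field k] [CharP k p] {Y : Type} [Group Y] {N : Type} [Fintype N]
  [DecidableEq N] {ρ : Y →* GL N k} {F : MulAut Y} {G : Subgroup Y} [IsAlgClosed k] {D : Datum p ρ F G} {e : ℕ}

variable (D) in
/-- the stabiliser of `z` in the Weyl group -/
def Sb (z : Y) (v : D.W) : Prop := ∀ m, D.Rp v m → m * z * m⁻¹ = z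

/-- the six positive roots -/
def L6 {A : Type} [Add A] (s : Fin 4 → A) : List A := [s 0, s 1, s 2, s 3, s 0 + s 2, s 1 + s 3]

variable (D e) in
/-- the root data of the centraliser -/
structure Zd where
  z : Y
  zT : z ∈ D.T
  zF : F z = z
  ord : orderOf z = 3
  pos : 0 < e
  s : Fin 4 → D.I → ℤ
  inj : Function.Injective s
  six : ∀ a, PosL D.cs D.h (D.Lam {z}) a ↔ a ∈ L6 s
  ind : ∀ j, ∀ b ∈ L6 s, ∀ c ∈ L6 s, s j ≠ b + c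
  ne : s 0 + s 2 ≠ s 1 + s 3
  gs : ∀ j, D.g (s j) = s (j + 1)
  gc : D.g (s 0 + s 2) = s 1 + s 3
  gd : D.g (s 1 + s 3) = s 0 + s 2
  e0 : D.ex (s 0) + D.ex (s 1) = e
  e2 : D.ex (s 2) + D.ex (s 3) = e
  ec : D.ex (s 0 + s 2) + D.ex (s 1 + s 3) = e
  btw : ∀ a ∈ D.Sz {z}, ¬ Btwn D.cs D.h (s 0 + s 2) (s 1 + s 3) a
  zen : ∀ t ∈ D.T, (∀ j, D.χ (s j) t = 1) → t ∈ Subgroup.zpowers z
  stab : ∀ v, Sb D z v → v ∈ Subgroup.closure (D.rf '' D.Sz {z})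
  tw : D.W
  tw_F : D.Fw tw = tw
  tw_z : ∀ m, D.Rp tw m → m * z * m⁻¹ = z⁻¹
  tw_s : ∀ j, D.act tw (s j) = s (j + 2)
  v : Fin 3 → D.W
  v_one : v 1 = 1
  v_sb : ∀ i, Sb D z (v i)
  v_ord : ∀ i, ordT D (v i) = ![(p ^ e + 1) ^ 2, (p ^ e) ^ 2 - 1, (p ^ e) ^ 2 - p ^ e + 1] i
  v_cw : ∀ i, Nat.card {u // Sb D z u ∧ Tc D u (v i) (v i)} = ![6, 2, 3] i
  v_all : ∀ w, Sb D z w → ∃ i u, Sb D z u ∧ Tc D u (v i) w
  μ : Fin 8 → Y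
  μ_inj : Function.Injective μ
  μ_cj : ∀ j, ∃ n ∈ D.NN, n * z * n⁻¹ = μ j
  μ_F : ∀ j m, D.Rp (v 0) m → m * F (μ j) * m⁻¹ = μ j
  μ_all : ∀ t ∈ D.T, t ^ 3 = 1 → t ≠ 1 → ∀ m, D.Rp (v 0) m → m * F t * m⁻¹ = t → ∃ j, t = μ j

theorem mem_L6 {A : Type} [Add A] {s : Fin 4 → A} {a : A} :
    a ∈ L6 s ↔ (∃ j, a = s j) ∨ a = s 0 + s 2 ∨ a = s 1 + s 3 := by
  simp only [L6, List.mem_cons, List.not_mem_nil, or_false, Fin.exists_fin_succ, IsEmpty.exists_iff, or_assoc]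
  rfl

namespace Zd

variable (Z : Zd D e)

theorem hZ : ({Z.z} : Set Y) ⊆ D.T := Set.singleton_subset_iff.2 Z.zT

theorem hF : ∀ a ∈ D.Sz {Z.z}, D.g a ∈ D.Sz {Z.z} := fun _ => D.g_mem_Sz Z.hZ fun z hz => by rw [hz, Z.zF]; rfl

/-- the centraliser -/
abbrev C : Subgroup Y := CF.cco G Z.z

theorem hC : D.cen {Z.z} = Z.C := (D.cco_eq_cen Z.zT).symm

/-- its datum -/
noncomputable abbrev E : Datum p ρ F Z.C := D.sub Z.hZ Z.hF Z.hC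

theorem isSub : CF.IsSub D Z.z Z.E := D.isSub Z.zT Z.zF

theorem s_mem (j : Fin 4) : Z.s j ∈ L6 Z.s := mem_L6.2 (Or.inl ⟨j, rfl⟩)

theorem io_mem {a : Z.E.I → ℤ} : D.io {Z.z} a ∈ L6 Z.s ↔ Z.E.Rt a ∧ 0 ≤ a := by
  rw [← Z.six]
  exact ⟨fun h => ⟨(isRoot_iff a).2 h.1, (iota_nonneg_iff ((isRoot_iff a).2 h.1)).1 h.2.1⟩,
    fun h => ⟨(isRoot_iff a).1 h.1, iota_nonneg h.2, iota_mem a⟩⟩

/-- the simple roots -/
noncomputable def i : Fin 4 ≃ Z.E.I :=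
  Equiv.ofBijective (fun j => ⟨Z.s j, (Z.six _).2 (Z.s_mem j), fun b c hb hc => Z.ind j b ((Z.six b).1 hb) c ((Z.six c).1 hc)⟩)
    ⟨fun _ _ h => Z.inj (congrArg Subtype.val h), fun a => by
      rcases mem_L6.1 ((Z.six _).1 a.2.1) with ⟨j, h⟩ | h | h
      · exact ⟨j, Subtype.ext h.symm⟩
      · exact (a.2.2 _ _ ((Z.six _).2 (Z.s_mem 0)) ((Z.six _).2 (Z.s_mem 2)) h).elim
      · exact (a.2.2 _ _ ((Z.six _).2 (Z.s_mem 1)) ((Z.six _).2 (Z.s_mem 3)) h).elim⟩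

theorem io_sr (j : Fin 4) : D.io {Z.z} (sr (Z.i j)) = Z.s j := iota_sr _ _

theorem io_add (a b : Fin 4) : D.io {Z.z} (sr (Z.i a) + sr (Z.i b)) = Z.s a + Z.s b := by
  rw [map_add, io_sr, io_sr]

theorem g_mem {a : D.I → ℤ} (h : a ∈ L6 Z.s) : D.g a ∈ L6 Z.s := by
  rcases mem_L6.1 h with ⟨j, rfl⟩ | rfl | rfl
  · rw [Z.gs]; exact Z.s_mem _
  · rw [Z.gc]; exact mem_L6.2 (Or.inr (Or.inr rfl))
  · rw [Z.gd]; exact mem_L6.2 (Or.inr (Or.inl rfl))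

theorem qs : Z.E.QS := fun a ha h0 =>
  (Z.io_mem.1 (by rw [D.sub_g Z.hZ Z.hF Z.hC ha]; exact Z.g_mem (Z.io_mem.2 ⟨ha, h0⟩))).2

theorem rt_c : Z.E.Rt (sr (Z.i 0) + sr (Z.i 2)) :=
  (Z.io_mem.1 (by rw [io_add]; exact mem_L6.2 (Or.inr (Or.inl rfl)))).1

theorem rt_d : Z.E.Rt (sr (Z.i 1) + sr (Z.i 3)) :=
  (Z.io_mem.1 (by rw [io_add]; exact mem_L6.2 (Or.inr (Or.inr rfl)))).1

/-- the cycle -/
noncomputable def cy : Cy Z.E e where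
  qs := Z.qs
  pos := Z.pos
  i := Z.i
  σi a := St.sr_injective Z.E (D.io_injective _ (by
    rw [← Z.qs.g_sr, D.sub_g Z.hZ Z.hF Z.hC (isRoot_sr _ _ _), io_sr, io_sr, Z.gs]))
  e0 := by
    show D.ex (D.io _ _) + D.ex (D.io _ _) = e
    rw [io_sr, io_sr, Z.e0]
  e2 := by
    show D.ex (D.io _ _) + D.ex (D.io _ _) = e
    rw [io_sr, io_sr, Z.e2]
  c := sr (Z.i 0) + sr (Z.i 2)
  d := sr (Z.i 1) + sr (Z.i 3)
  ns := Set.ext fun a => by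
    have h0 : ∀ x y j, sr (Z.i x) + sr (Z.i y) ≠ (sr j : Z.E.I → ℤ) := fun x y j h => by
      obtain ⟨j, rfl⟩ := Z.i.surjective j
      exact Z.ind j _ (Z.s_mem x) _ (Z.s_mem y) (by rw [← io_add, h, io_sr])
    constructor
    · rintro ⟨h1, h2, h3⟩
      rcases mem_L6.1 (Z.io_mem.2 ⟨h1, h2⟩) with ⟨j, h⟩ | h | h
      · exact (h3 _ (D.io_injective _ (h.trans (Z.io_sr j).symm))).elim
      · exact Or.inl (D.io_injective _ (h.trans (Z.io_add _ _).symm))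
      · exact Or.inr (D.io_injective _ (h.trans (Z.io_add _ _).symm))
    · rintro (rfl | rfl)
      · exact ⟨Z.rt_c, add_nonneg (sr_nonneg _) (sr_nonneg _), h0 _ _⟩
      · exact ⟨Z.rt_d, add_nonneg (sr_nonneg _) (sr_nonneg _), h0 _ _⟩
  gc := D.io_injective _ (by rw [D.sub_g Z.hZ Z.hF Z.hC Z.rt_c, io_add, io_add, Z.gc])
  gd := D.io_injective _ (by rw [D.sub_g Z.hZ Z.hF Z.hC Z.rt_d, io_add, io_add, Z.gd])
  ne h := Z.ne (by rw [← io_add, h, io_add])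
  ec := by
    show D.ex (D.io _ _) + D.ex (D.io _ _) = e
    rw [io_add, io_add, Z.ec]
  btw a h := Z.btw _ ((D.io_mem_Sz _).2 h.1) (by rw [← io_add, ← io_add]; exact btwn_iff.1 h)

theorem C_le : Z.C ≤ G := CF.cco_le G Z.z

theorem T_le : D.T ≤ Z.C := Z.E.T_le_G

theorem comm {c : Y} (hc : c ∈ Z.C) : c * Z.z * c⁻¹ = Z.z := by
  have := D.cen_le_centralizer Z.hZ (Z.hC.ge hc) Z.z rfl
  rw [← this, mul_inv_cancel_right]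

theorem sb_sub (u : Z.E.W) : Sb D Z.z (D.subW {Z.z} u) := fun m hm => by
  obtain ⟨n, hn, -⟩ := Z.E.exists_rp u
  have h1 := D.rp_of_sub Z.hZ Z.hF Z.hC hn
  have h2 : n⁻¹ * m ∈ D.T := (D.pr_eq_one_iff ⟨_, h1.inv.mul hm⟩).1
    ((Datum.Rp.pr_eq (h1.inv.mul hm)).trans (inv_mul_cancel _))
  exact Z.comm (by simpa using mul_mem hn.mem_G (Z.T_le h2))

theorem exists_sub {v : D.W} (h : Sb D Z.z v) : ∃ u : Z.E.W, D.subW {Z.z} u = v :=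
  D.range_subW.ge (Z.stab v h)

theorem rp_sub {u : Z.E.W} {m : Y} (hm : D.Rp (D.subW {Z.z} u) m) : Z.E.Rp u m := by
  have h1 : m ∈ Z.C := by
    obtain ⟨n, hn, -⟩ := Z.E.exists_rp u
    have h1 := D.rp_of_sub Z.hZ Z.hF Z.hC hn
    have h2 : n⁻¹ * m ∈ D.T := (D.pr_eq_one_iff ⟨_, h1.inv.mul hm⟩).1
      ((Datum.Rp.pr_eq (h1.inv.mul hm)).trans (inv_mul_cancel _))
    simpa using mul_mem hn.mem_G (Z.T_le h2)
  obtain ⟨u', hu'⟩ : m ∈ Z.E.NN := (D.sub_NN Z.hZ Z.hF Z.hC).ge ⟨⟨_, hm⟩, h1⟩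
  rwa [D.subW_injective _ (D.rp_unique hm (D.rp_of_sub Z.hZ Z.hF Z.hC hu'))]

/-- the centraliser is connected -/
theorem full {g : Y} (hg : g ∈ G) (h : g * Z.z = Z.z * g) : g ∈ Z.C := by
  obtain ⟨c, hc, m, ⟨v, hm⟩, h1, rfl⟩ := D.exists_cen_form Z.hZ hg (fun x hx => by rw [hx, h])
  have h2 : m * Z.z * m⁻¹ = Z.z := by rw [← h1 Z.z rfl, mul_inv_cancel_right]
  obtain ⟨u, rfl⟩ := Z.exists_sub (v := v) fun n hn => by
    have h3 : m⁻¹ * n ∈ D.T := (D.pr_eq_one_iff ⟨_, hm.inv.mul hn⟩).1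
      ((Datum.Rp.pr_eq (hm.inv.mul hn)).trans (inv_mul_cancel _))
    calc n * Z.z * n⁻¹ = m * (m⁻¹ * n * Z.z * (m⁻¹ * n)⁻¹) * m⁻¹ := by group
      _ = Z.z := by rw [Z.comm (Z.T_le h3), h2]
  exact mul_mem (Z.hC.le (D.S_le_cen _ hc)) (Z.rp_sub hm).mem_G

/-- rational conjugates of `z` are rationally conjugate -/
theorem exists_conj {g : Y} (hg : g ∈ G) (h : F (g * Z.z * g⁻¹) = g * Z.z * g⁻¹) :
    ∃ x ∈ GF F G, x * Z.z * x⁻¹ = g * Z.z * g⁻¹ := by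
  rw [map_mul, map_mul, map_inv, Z.zF] at h
  obtain ⟨a, ha, e⟩ := Z.E.lang_G (Z.full (mul_mem (inv_mem hg) (D.F_mem_G hg)) (by
    calc g⁻¹ * F g * Z.z = g⁻¹ * (F g * Z.z * (F g)⁻¹) * F g := by group
      _ = _ := by rw [h]; group))
  refine ⟨g * a⁻¹, ⟨G.mul_mem hg (G.inv_mem (Z.C_le ha)), ?_⟩, ?_⟩
  · show F _ = g * a⁻¹
    rw [map_mul, map_inv, ← mul_inv_cancel_left g (F g), e]
    group
  · calc _ = g * (a⁻¹ * Z.z * a⁻¹⁻¹) * g⁻¹ := by group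
      _ = _ := by rw [Z.comm (inv_mem ha)]

theorem sub_Fw (u : Z.E.W) : D.subW {Z.z} (Z.E.Fw u) = D.Fw (D.subW {Z.z} u) := by
  obtain ⟨n, hn, -⟩ := Z.E.exists_rp u
  exact D.rp_unique (D.rp_of_sub Z.hZ Z.hF Z.hC hn.mapF) (D.rp_of_sub Z.hZ Z.hF Z.hC hn).mapF

theorem tc_sub {u w w' : Z.E.W} : Tc Z.E u w w' ↔ Tc D (D.subW {Z.z} u) (D.subW {Z.z} w) (D.subW {Z.z} w') := by
  rw [Tc, Tc, ← sub_Fw, ← map_mul, ← map_mul, (D.subW_injective _).eq_iff]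

end Zd

end Cfsg.Agent.KZ.TF.Ta
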