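import Cfsg.Agent.KZ.TF.TaC

/-!
# KZ, `²F₄`: the structure `L3` from root data (helper90)
-/

set_option autoImplicit false
set_option linter.unusedSectionVars false
set_option maxHeartbeats 400000

namespace Cfsg.Agent.KZ.TF.Ta

open CoxeterSystem Cfsg.Agent.ChevalleyStructure.CoxeterGeom Cfsg.Agent.Tits.Roots Cfsg.Agent.Nodes.Reps
  Cfsg.Agent.Nodes.BNOf Cfsg.Agent.DL Cfsg.Agent.DL.PP Cfsg.Agent.DL.Base Cfsg.Agent.KZ.Lie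
  Cfsg.Agent.Nodes.SubComb Cfsg.Agent.DL.Asm Cfsg.Agent.DL.Uni

attribute [local instance] fintypeSmp decSmp

variable {p : ℕ} [Fact p.Prime] {k : Type} [Field k] [CharP k p] {Y : Type} [Group Y] {N : Type} [Fintype N]
  [DecidableEq N] {ρ : Y →* GL N k} {F : MulAut Y} {G : Subgroup Y} [IsAlgClosed k] {D : Datum p ρ F G} {e : ℕ}

namespace Zd

variable (Z : Zd D e)

theorem ordT_sub (u : Z.E.W) : ordT Z.E u = ordT D (D.subW {Z.z} u) := by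
  obtain ⟨n, hn, -⟩ := Z.E.exists_rp u
  have h : Z.E.Wm u = D.Wm (D.subW {Z.z} u) := mon_inj (k := k) fun c =>
    D.τ_inj ((Z.E.conj_τ hn c).symm.trans (D.conj_τ (D.rp_of_sub Z.hZ Z.hF Z.hC hn) c))
  rw [ordT, h]
  rfl

/-- the types -/
noncomputable def u (i : Fin 3) : Z.E.W := (Z.exists_sub (Z.v_sb i)).choose

theorem sub_u (i : Fin 3) : D.subW {Z.z} (Z.u i) = Z.v i := (Z.exists_sub (Z.v_sb i)).choose_spec

/-- the twisting elements -/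
noncomputable def y : Fin 3 → Y := ![yw Z.E (Z.u 0), 1, yw Z.E (Z.u 2)]

theorem y_mem (i : Fin 3) : Z.y i ∈ Z.C := by
  fin_cases i
  exacts [yw_mem _ _, one_mem _, yw_mem _ _]

theorem y_rp (i : Fin 3) : Z.E.Rp (Z.u i) ((Z.y i)⁻¹ * F (Z.y i)) := by
  fin_cases i
  · exact yw_rp _ _
  · show Z.E.Rp (Z.u 1) (1⁻¹ * F 1)
    rw [show Z.u 1 = 1 from D.subW_injective _ (by rw [sub_u, Z.v_one, map_one]), map_one, inv_mul_cancel]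
    exact rp_one
  · exact yw_rp _ _

theorem y_rp' (i : Fin 3) : D.Rp (Z.v i) ((Z.y i)⁻¹ * F (Z.y i)) := Z.sub_u i ▸ D.rp_of_sub Z.hZ Z.hF Z.hC (Z.y_rp i)

/-- the three tori -/
noncomputable def T : Fin 3 → Subgroup Y := ![cj (Z.y 0) D.T, D.T, cj (Z.y 2) D.T]

theorem T_eq (i : Fin 3) : Z.T i = cj (Z.y i) D.T := by
  fin_cases i
  exacts [rfl, (cj_one _).symm, rfl]

theorem T_mem (i : Fin 3) : Z.T i ∈ tori D ∧ Z.z ∈ Z.T i := by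
  rw [T_eq]
  refine ⟨Lie.mem_tori (Z.C_le (Z.y_mem i)) (Z.y_rp' i), ?_⟩
  rw [← Z.comm (Z.y_mem i)]
  exact conj_mem_cj.2 Z.zT

theorem T_card (i : Fin 3) : Nat.card ↥(Z.T i ⊓ GF F G) = ordT D (Z.v i) := by
  rw [T_eq]
  exact D.card_cj_TF (Z.C_le (Z.y_mem i)) (Z.y_rp' i)

theorem T_norm (i : Fin 3) : Nat.card {c : GF F Z.C // cj (c : Y) (Z.T i) = Z.T i} =
    ![6, 2, 3] i * Nat.card ↥(Z.T i ⊓ GF F G) := by
  have h := card_Nz (D := Z.E) (Z.y_mem i) (Z.y_rp i)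
  rw [T_card, ← Z.v_cw, ← Z.sub_u, ← ordT_sub, mul_comm, T_eq]
  refine Eq.trans (Nat.card_congr (Equiv.subtypeEquivRight fun c => mem_Nz.symm)) (h.trans (congrArg _ ?_))
  refine Nat.card_eq_of_bijective (fun x => ⟨D.subW {Z.z} x.1, Z.sb_sub _, Z.tc_sub.1 x.2⟩)
    ⟨fun a b h => Subtype.ext (D.subW_injective _ (congrArg Subtype.val h)), fun x => ?_⟩
  obtain ⟨a, ha⟩ := Z.exists_sub x.2.1
  exact ⟨⟨a, Z.tc_sub.2 (ha ▸ x.2.2)⟩, Subtype.ext ha⟩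

theorem T_all {S : Subgroup Y} (hS : S ∈ tori D) (hz : Z.z ∈ S) : ∃ i, ∃ c ∈ GF F Z.C, S = cj c (Z.T i) := by
  obtain ⟨y, hy, rfl, h⟩ : S ∈ tori Z.E := Z.isSub.tori_eq.ge ⟨hS, hz⟩
  obtain ⟨w, hw⟩ := (Z.E.stable_iff hy).1 h
  obtain ⟨i, u, h1, h2⟩ := Z.v_all _ (Z.sb_sub w)
  obtain ⟨u, rfl⟩ := Z.exists_sub h1
  rw [← Z.sub_u] at h2
  obtain ⟨c, hc, e⟩ := conj_of_tc (Z.y_mem i) (Z.y_rp i) hy hw (Z.tc_sub.2 h2)
  exact ⟨i, c, hc, by rw [T_eq]; exact e⟩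

theorem T_eight : Nat.card {t : ↥(Z.T 0 ⊓ GF F G) // ∃ h ∈ GF F G, h * Z.z * h⁻¹ = t} = 8 := by
  have hy := Z.C_le (Z.y_mem 0)
  have hT : ∀ j, Z.μ j ∈ D.T := fun j => by
    obtain ⟨n, hn, h⟩ := Z.μ_cj j
    exact h ▸ D.conj_mem_T hn Z.zT
  have hF : ∀ t, F (Z.y 0 * t * (Z.y 0)⁻¹) =
      Z.y 0 * ((Z.y 0)⁻¹ * F (Z.y 0) * F t * ((Z.y 0)⁻¹ * F (Z.y 0))⁻¹) * (Z.y 0)⁻¹ := fun t => by
    rw [map_mul, map_mul, map_inv]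
    group
  have h1 : ∀ j, F (Z.y 0 * Z.μ j * (Z.y 0)⁻¹) = Z.y 0 * Z.μ j * (Z.y 0)⁻¹ := fun j => by
    rw [hF, Z.μ_F j _ (Z.y_rp' 0)]
  let φ : Fin 8 → {t : ↥(Z.T 0 ⊓ GF F G) // ∃ h ∈ GF F G, h * Z.z * h⁻¹ = t} := fun j =>
    ⟨⟨Z.y 0 * Z.μ j * (Z.y 0)⁻¹, conj_mem_cj.2 (hT j), G.mul_mem (G.mul_mem hy (D.T_le_G (hT j))) (G.inv_mem hy), h1 j⟩, by
      obtain ⟨n, hn, h⟩ := Z.μ_cj j
      have h2 : Z.y 0 * n * Z.z * (Z.y 0 * n)⁻¹ = Z.y 0 * Z.μ j * (Z.y 0)⁻¹ := by rw [← h]; group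
      obtain ⟨x, hx, h3⟩ := Z.exists_conj (G.mul_mem hy (D.NN_le_G hn)) (by rw [h2, h1])
      exact ⟨x, hx, h3.trans h2⟩⟩
  refine (Nat.card_eq_of_bijective φ ⟨fun a b h => Z.μ_inj ?_, fun ⟨⟨t, ht, _, ht'⟩, x, _, hx⟩ => ?_⟩).symm.trans (by simp)
  · exact mul_left_cancel (mul_right_cancel (congrArg (fun x => x.1.1) h))
  · have h2 : orderOf ((Z.y 0)⁻¹ * t * Z.y 0) = 3 := by
      rw [← show x * Z.z * x⁻¹ = t from hx]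
      exact (SemiconjBy.orderOf_eq ((Z.y 0)⁻¹ * x) (by rw [SemiconjBy]; group)).symm.trans Z.ord
    obtain ⟨j, hj⟩ := Z.μ_all _ (mem_cj.1 ht) ((orderOf_eq_iff three_pos).1 h2).1 (fun h => by simp [h] at h2) _ (Z.y_rp' 0) (by
      have := hF ((Z.y 0)⁻¹ * t * Z.y 0)
      rw [show Z.y 0 * ((Z.y 0)⁻¹ * t * Z.y 0) * (Z.y 0)⁻¹ = t by group, show F t = t from ht'] at this
      conv_rhs => rw [this]
      group)
    refine ⟨j, Subtype.ext (Subtype.ext ?_)⟩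
    show Z.y 0 * Z.μ j * (Z.y 0)⁻¹ = t
    rw [← hj]
    group

theorem a_ker : Nat.card (Z.cy.a (H := GF F G) fun _ h => h.2).ker = 3 := by
  have h1 : ∀ j t, Z.E.χ (sr (Z.i j)) t = D.χ (Z.s j) t := fun j t => by rw [← Z.io_sr]; rfl
  have hz : Z.z ∈ D.T ⊓ GF F G := ⟨Z.zT, D.T_le_G Z.zT, Z.zF⟩
  have h2 : (Z.cy.a (H := GF F G) fun _ h => h.2).ker = Subgroup.zpowers ⟨Z.z, hz⟩ := by
    refine le_antisymm (fun t ht => ?_) (Subgroup.zpowers_le_of_mem ((Z.cy.mem_ker_a _).2 fun j => ?_))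
    · obtain ⟨n, hn⟩ := Z.zen t t.2.1 fun j => (h1 j t).symm.trans ((Z.cy.mem_ker_a _).1 ht _)
      exact ⟨n, Subtype.ext hn⟩
    · obtain ⟨j, rfl⟩ := Z.i.surjective j
      exact (h1 j _).trans (((Z.six _).2 (Z.s_mem j)).2.2 _ rfl)
  rw [h2, Nat.card_zpowers, Subgroup.orderOf_mk, Z.ord]

theorem card_C : Nat.card ↥(GF F Z.C) = (p ^ e) ^ 3 * (((p ^ e) ^ 3 + 1) * ((p ^ e) ^ 2 - 1)) := by
  have : Nonempty Z.E.I := ⟨Z.i 0⟩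
  have h : (Z.E.Mx - 1).det.natAbs = (p ^ e) ^ 2 - 1 := by
    have := Z.v_ord 1
    rwa [Z.v_one, ordT, D.Wm_one, one_mul] at this
  rw [card_GF Z.qs Z.cy.trans, Z.cy.card_U, Z.E.card_TF, h]
  ring

theorem tw_mem {a : D.I → ℤ} (h : a ∈ L6 Z.s) : D.act Z.tw a ∈ L6 Z.s := by
  rcases mem_L6.1 h with ⟨j, rfl⟩ | rfl | rfl
  · rw [Z.tw_s]; exact Z.s_mem _
  · rw [Datum.act, map_add, ← Datum.act, ← Datum.act, Z.tw_s, Z.tw_s, add_comm]; exact mem_L6.2 (Or.inr (Or.inl rfl))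
  · rw [Datum.act, map_add, ← Datum.act, ← Datum.act, Z.tw_s, Z.tw_s, add_comm]; exact mem_L6.2 (Or.inr (Or.inr rfl))

theorem exists_τ : ∃ τ ∈ GF F G, τ * Z.z * τ⁻¹ = Z.z⁻¹ ∧ ∃ κ : (Kf p k (2 * e))ˣ, ∀ u : ↥(Z.E.U ⊓ GF F Z.C),
    ∃ u' : ↥(Z.E.U ⊓ GF F Z.C), (u' : Y) = τ * u * τ⁻¹ ∧ (Z.cy.π u').toAdd = κ * (Z.cy.π u).toAdd ^ p ^ e := by
  obtain ⟨τ, hτ, hF⟩ := D.exists_rp_fix Z.tw_F
  obtain ⟨γ, hγ, h⟩ := D.nact hτ ((Z.six _).2 (Z.s_mem 2)).1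
  refine ⟨τ, ⟨hτ.mem_G, hF⟩, Z.tw_z τ hτ, Z.cy.τ_conj hF (fun a ha h0 => ?_) hγ fun s => ?_⟩
  · have h1 := Z.io_mem.2 ⟨ha, h0⟩
    have h2 := Z.tw_mem h1
    obtain ⟨b, -, hb⟩ := exists_root ((Z.six _).2 h2).1 ((Z.six _).2 h2).2.2
    have hb' : D.io {Z.z} b = _ := hb
    obtain ⟨h3, h4⟩ := Z.io_mem.1 (hb'.symm ▸ h2)
    refine ⟨b, h3, h4, fun e => D.io_injective _ ?_, fun y hy => ?_⟩
    · have h5 : D.act Z.tw (D.io {Z.z} a) = D.act Z.tw (Z.s 2) := by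
        rw [← hb', e, Z.tw_s]
        exact Z.io_sr 0
      have h6 := congrArg (rep D.cs D.h Z.tw⁻¹) h5
      rw [rep_inv_apply, rep_inv_apply] at h6
      exact h6.trans (Z.io_sr 2).symm
    · show _ ∈ D.X (D.io _ b)
      rw [hb']
      exact D.conj_mem hτ ((Z.six _).2 h1).1 hy
  · show τ * D.x (D.io _ (sr (Z.i 2))) s * τ⁻¹ = D.x (D.io _ (sr (Z.i 0))) _
    rw [io_sr, io_sr, h, Z.tw_s]
    rfl

end Zd

theorem Zd.l3 [CharP k 2] {D : Datum 2 ρ F G} (Z : Zd D e) {T₀ : Subgroup Y}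
    (h0 : ∀ S ∈ tori D, Nat.card ↥(S ⊓ GF F G) = (2 ^ e + 1) ^ 2 → ∃ h ∈ GF F G, S = cj h T₀) :
    Nonempty (L3 (GF F G) (tori D) (R D) (2 ^ e) T₀) := by
  have hz : Z.z ∈ D.T ⊓ GF F G := ⟨Z.zT, D.T_le_G Z.zT, Z.zF⟩
  obtain ⟨h1, h2⟩ := cent_of_eq hz Z.E rfl Z.isSub.pair Z.isSub.tori
  obtain ⟨St, hSt⟩ := St.stD Z.E
  obtain ⟨τ, hτ, h3, κ, h4⟩ := Z.exists_τ
  have hK := card_Kf (p := 2) (k := k) (Nat.mul_pos two_pos Z.pos)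
  have : Finite (Kf 2 k (2 * e)) := Nat.finite_of_card_ne_zero (by rw [hK]; positivity)
  let := Fintype.ofFinite (Kf 2 k (2 * e))
  exact ⟨{
    z := Z.z, z_mem := hz.2, z_ord := Z.ord, C := GF F Z.C, RC := R Z.E, St := St, cent := h1, st := h2 ▸ hSt
    full := fun g hg h => ⟨Z.full hg.1 h, hg.2⟩
    card := Z.card_C, T := Z.T, T_mem := Z.T_mem
    T_zero := h0 _ (Z.T_mem 0).1 ((Z.T_card 0).trans (Z.v_ord 0))
    T_card := fun i => (Z.T_card i).trans (Z.v_ord i)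
    T_norm := Z.T_norm, T_all := fun _ => Z.T_all, T_eight := Z.T_eight
    U := Z.E.U ⊓ GF F Z.C, U_le := inf_le_right, U_card := Z.cy.card_U
    K := Kf 2 k (2 * e)
    K_card := by rw [← Nat.card_eq_fintype_card, hK, ← pow_mul, mul_comm]
    π := Z.cy.π, π_surj := Z.cy.π_surj
    a := Z.cy.a (H := GF F G) fun _ h => h.2
    a_ker := Z.a_ker, a_conj := Z.cy.a_conj _
    bruhat := fun g hg => (bruhat Z.qs Z.cy.trans hg).imp_left fun ⟨u, hu, t, ht, e⟩ =>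
      ⟨u, hu, t, ⟨ht.1, D.T_le_G ht.1, ht.2.2⟩, e⟩
    τ := τ, τ_mem := hτ, τ_z := h3, κ := κ, τ_conj := h4 }⟩

theorem tori_R_eq {D' : Datum p ρ F G} (h : ∀ T V, Pair D T V ↔ Pair D' T V) : tori D = tori D' ∧ R D = R D' := by
  have h1 : Pair D = Pair D' := funext fun T => funext fun V => propext (h T V)
  refine ⟨Set.ext fun T => by rw [Asm.mem_tori, Asm.mem_tori, h1], funext fun T => ?_⟩
  unfold R Vof
  rw [h1]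

end Cfsg.Agent.KZ.TF.Ta
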