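import Cfsg.Agent.KZ.TF.W0

/-!
# KZ, `²F₄`: the centraliser of an element of order three, finite checks (helper90)

`b` is the parity of `m`.
-/

set_option autoImplicit false
set_option maxRecDepth 100000
set_option synthInstance.maxSize 4000

namespace Cfsg.Agent.KZ.TF.Ta

open Cfsg Cfsg.Lie Cfsg.Agent.KZ.DatX Cfsg.Agent.KZ.McX Matrix Cfsg.Agent.Nodes

/-- the cocharacter -/
def lam : Fin 4 → ℤ := ![0, 0, 1, 0]

/-- the sign -/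
def ep (b : Bool) : ℤ := if b then -1 else 1

/-- the type of the torus -/
def Lb (b : Bool) : List (Fin 4) := if b then [2, 1, 0, 3, 2, 1, 0, 2, 1] else [2, 1, 2, 3, 2, 1, 0, 2, 1]

/-- its matrix -/
def Bm (b : Bool) : Matrix (Fin 4) (Fin 4) ℤ :=
  if b then !![0, 0, 0, 1; 2, 4, 3, 1; -2, -6, -4, -2; 0, 2, 0, 0] else !![2, 4, 3, 1; 0, 0, 0, 1; -2, -2, -2, -2; 2, 0, 0, 0]

/-- the simple roots -/
def sv (b : Bool) : Fin 4 → Fin 4 → ℤ :=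
  if b then ![![1, 0, 0, 0], ![2, 4, 3, 1], ![0, 1, 0, 0], ![0, 0, 0, 1]]
  else ![![0, 1, 0, 0], ![2, 4, 3, 1], ![1, 0, 0, 0], ![0, 0, 0, 1]]

/-- the positive roots -/
def l6 (b : Bool) : List (Fin 4 → ℤ) := [sv b 0, sv b 1, sv b 2, sv b 3, sv b 0 + sv b 2, sv b 1 + sv b 3]

/-- the inverting element -/
def tL : List (Fin 4) := [2, 1, 0, 2, 1, 2]

/-- the generators of the stabiliser -/
def gen : Fin 4 → List (Fin 4) := ![[0], [1], tL ++ [3] ++ tL, [3]]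

/-- the stabiliser -/
def G36 : List (List (Fin 4)) := cat [[], [3], [2], [3, 2], [2, 3], [3, 2, 3]] [[], [0], [1], [0, 1], [1, 0], [0, 1, 0]]

/-- the three classes -/
def Vc : Fin 3 → List (Fin 4) := ![[0, 1, 0], [], [0]]

/-- the matrix of the first class -/
def A0 (b : Bool) : Matrix (Fin 4) (Fin 4) ℤ :=
  if b then !![-2, -4, -3, -1; 0, 0, 0, -1; 2, 2, 2, 2; 0, 2, 0, 0] else !![0, 0, 0, -1; -2, -4, -3, -1; 2, 6, 4, 2; 2, 0, 0, 0]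

/-- the elements of order three -/
def mu (b : Bool) : Fin 8 → Fin 4 → ℤ :=
  if b then ![![0, 0, 1, 0], ![0, 0, 2, 0], ![1, 1, 0, 1], ![1, 1, 1, 1], ![1, 1, 2, 1], ![2, 2, 0, 2], ![2, 2, 1, 2], ![2, 2, 2, 2]]
  else ![![0, 0, 1, 0], ![0, 0, 2, 0], ![1, 1, 0, 2], ![1, 1, 1, 2], ![1, 1, 2, 2], ![2, 2, 0, 1], ![2, 2, 1, 1], ![2, 2, 2, 1]]

/-- conjugating words -/
def mw (b : Bool) : Fin 8 → List (Fin 4) :=
  if b then ![[], [2, 1, 0, 2, 1, 2], [0, 1, 2, 1, 3, 2], [2, 1, 3, 2], [1, 0, 2, 1, 3, 2], [0, 1, 0, 2, 3, 2, 1, 2],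
    [1, 2, 3, 2, 1, 2], [0, 2, 3, 2, 1, 2]]
  else ![[], [2, 1, 0, 2, 1, 2], [1, 0, 2, 3, 2, 1, 2], [0, 1, 2, 3, 2, 1, 2], [2, 3, 2, 1, 2], [1, 2, 1, 3, 2], [0, 2, 1, 3, 2],
    [0, 1, 0, 2, 1, 3, 2]]

/-- congruence modulo three -/
def Cg (x y : Fin 4 → ℤ) : Prop := ∀ i, 3 ∣ x i - y i

instance decCg (x y : Fin 4 → ℤ) : Decidable (Cg x y) := by unfold Cg; infer_instance

/-- the word fixes `lam` modulo three -/
def sbB (L : List (Fin 4)) : Bool := (app rowsF4 L [0, 0, 1, 0]).map (· % 3) == [0, 0, 1, 0]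

theorem Bm_eq : ∀ b, mW (Lb b) G4 = Bm b := by decide +kernel

theorem A0_eq : ∀ b, mW (Vc 0 ++ Lb b) G4 = A0 b := by decide +kernel

theorem lam_fix : ∀ b, Cg (ep b • Bm b *ᵥ lam) lam := by decide +kernel

theorem six_of : ∀ b, ∀ r < chevF4.nroots, (∀ i, 0 ≤ RGDChev.vec chevF4 4 r i) → 3 ∣ RGDChev.vec chevF4 4 r 2 →
    RGDChev.vec chevF4 4 r ∈ l6 b := by decide +kernel

theorem of_six : ∀ b, ∀ a ∈ l6 b, (∃ r < chevF4.nroots, RGDChev.vec chevF4 4 r = a) ∧ (∀ i, 0 ≤ a i) ∧ 3 ∣ a 2 := by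
  decide +kernel

theorem sv_inj : ∀ b i j, sv b i = sv b j → i = j := by decide +kernel

theorem sv_ind : ∀ b j, ∀ x ∈ l6 b, ∀ y ∈ l6 b, sv b j ≠ x + y := by decide +kernel

theorem sv_c : ∀ b, sv b 0 + sv b 2 = ![1, 1, 0, 0] ∧ sv b 1 + sv b 3 = ![2, 4, 3, 2] := by decide +kernel

theorem sv_mem : ∀ b, ![1, 0, 0, 0] ∈ l6 b ∧ ![0, 1, 0, 0] ∈ l6 b ∧ ![0, 0, 0, 1] ∈ l6 b ∧ ![2, 4, 3, 1] ∈ l6 b := by
  decide +kernel

theorem sv_g : ∀ b j, sv b (j + 1) ᵥ* Bm b = (2 : ℤ) ^ (![1, 0, 1, 0] j : ℕ) • sv b j := by decide +kernel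

theorem sv_gc : ∀ b, (sv b 1 + sv b 3) ᵥ* Bm b = (2 : ℤ) ^ 1 • (sv b 0 + sv b 2) ∧
    (sv b 0 + sv b 2) ᵥ* Bm b = (2 : ℤ) ^ 0 • (sv b 1 + sv b 3) := by decide +kernel

theorem no_btw : ∀ r < chevF4.nroots, 3 ∣ RGDChev.vec chevF4 4 r 2 → 0 < RGDChev.vec chevF4 4 r 2 →
    3 * RGDChev.vec chevF4 4 r 0 ≤ 2 * RGDChev.vec chevF4 4 r 2 := by decide +kernel

theorem tL_sv : ∀ b j, sv b (j + 2) ᵥ* mW tL 1 = sv b j := by decide +kernel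

theorem tL_three : ![2, 4, 3, 1] ᵥ* mW tL 1 = Pi.single 3 1 := by decide +kernel

theorem tL_lam : Cg (mW tL 1 *ᵥ lam) (-lam) := by decide +kernel

theorem tL_tc : ∀ b, tcB tL ([] ++ Lb b) ([] ++ Lb b) = true := by decide +kernel

theorem tL_sq : app rowsF4 (tL ++ tL) [1, 1, 1, 1] = app rowsF4 ([] : List (Fin 4)) [1, 1, 1, 1] := by decide +kernel

theorem stab_G36 : ∀ L ∈ wordsF4, sbB L = true →
    ∃ U ∈ G36, app rowsF4 L [1, 1, 1, 1] = app rowsF4 (U.flatMap gen) [1, 1, 1, 1] := by decide +kernel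

theorem Vc_sb : ∀ i, sbB (Vc i) = true := by decide +kernel

theorem G36_all : ∀ b, ∀ L ∈ G36, ∃ U ∈ G36, ∃ i, sbB (U.flatMap gen) = true ∧
    tcB (U.flatMap gen) (Vc i ++ Lb b) (L.flatMap gen ++ Lb b) = true := by decide +kernel

theorem Vc_cw : ∀ b i, wordsF4.countP (fun L => sbB L && tcB L (Vc i ++ Lb b) (Vc i ++ Lb b)) = ![6, 2, 3] i := by
  decide +kernel

theorem Vc_cp : ∀ b i, cp4 (mW (Vc i ++ Lb b) G4) = ![(0, 4, 0, 4), (0, 0, 0, -4), (0, -2, 0, 4)] i := by decide +kernel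

theorem mu_cj : ∀ b j, Cg (mW (mw b j) 1 *ᵥ lam) (mu b j) := by decide +kernel

theorem mu_inj : ∀ b i j, Cg (mu b i) (mu b j) → i = j := by decide +kernel

theorem mu_fix : ∀ b j, Cg (ep b • A0 b *ᵥ mu b j) (mu b j) := by decide +kernel

theorem mu_all : ∀ b, ∀ x y z t : Fin 3, Cg (ep b • A0 b *ᵥ ![(x : ℕ), (y : ℕ), (z : ℕ), (t : ℕ)]) ![(x : ℕ), (y : ℕ), (z : ℕ), (t : ℕ)] →
    Cg ![(x : ℕ), (y : ℕ), (z : ℕ), (t : ℕ)] 0 ∨ ∃ j, Cg ![(x : ℕ), (y : ℕ), (z : ℕ), (t : ℕ)] (mu b j) := by decide +kernel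

theorem not_cpL {t : ℤ} (h2 : 2 ∣ t) (h0 : t ≠ 0) {c : ℤ × ℤ × ℤ × ℤ} (hc : c ∈ cpL) :
    (1 - c.1 * t + c.2.1 * t ^ 2 - c.2.2.1 * t ^ 3 + c.2.2.2 * t ^ 4).natAbs ≠ ((2 * t ^ 2 + 1) ^ 2).natAbs := fun h => by
  obtain ⟨s, rfl⟩ := h2
  have hs : s ≠ 0 := fun e => h0 (by rw [e, mul_zero])
  have h1 := sq_pos_of_ne_zero hs
  rcases Int.natAbs_eq_natAbs_iff.1 h with h | h
  · have key : -c.1 + (c.2.1 - 4) * (2 * s) - c.2.2.1 * (4 * s ^ 2) + (c.2.2.2 - 4) * (8 * s ^ 3) = 0 :=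
      mul_left_cancel₀ h0 (by linear_combination h)
    simp only [cpL, List.mem_cons, List.not_mem_nil, or_false] at hc
    rcases hc with rfl | hc
    · exact absurd (mul_left_cancel₀ hs (show s * (1 + 8 * s ^ 2) = s * 0 by
        simp only at key
        linarith)) (by positivity)
    · rcases hc with rfl | rfl | rfl | rfl | rfl | rfl | rfl | rfl | rfl <;> simp only at key <;> omega
  · have key : 2 - c.1 * (2 * s) + (c.2.1 + 4) * (4 * s ^ 2) - c.2.2.1 * (8 * s ^ 3) + (c.2.2.2 + 4) * (16 * s ^ 4) = 0 := by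
      linear_combination h
    simp only [cpL, List.mem_cons, List.not_mem_nil, or_false] at hc
    rcases hc with rfl | rfl | rfl | rfl | rfl | rfl | rfl | rfl | rfl | rfl <;> simp only at key <;> omega

end Cfsg.Agent.KZ.TF.Ta
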