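import Cfsg.Agent.KZ.TF.TaD
import Cfsg.Agent.KZ.TF.TaE

/-!
# KZ, `²F₄`: twisted frames in coordinates (helper90)
-/

set_option autoImplicit false
set_option linter.unusedSectionVars false
set_option maxHeartbeats 400000

namespace Cfsg.Agent.KZ.TF.Ta

open Cfsg Cfsg.Lie Cfsg.Agent.DL Cfsg.Agent.DL.PP Cfsg.Agent.Nodes.Reps Cfsg.Agent.KZ.Lie Cfsg.Agent.KZ.DatX
  Cfsg.Agent.KZ.McX Matrix Cfsg.Agent.Tits.Roots
open Cfsg.Agent.ChevalleyStructure Cfsg.Agent.ChevalleyStructure.CoxeterGeomTypes Cfsg.Agent.Nodes Cfsg.Agent.Nodes.RGDChev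

section Conj

variable {p : ℕ} [Fact p.Prime] {k : Type} [Field k] [CharP k p] {Y : Type} [Group Y] {N : Type} [Fintype N]
  [DecidableEq N] {ρ : Y →* GL N k} {F : MulAut Y} {G : Subgroup Y} [IsAlgClosed k] {D : Datum p ρ F G}
  {y : Y} {w₁ : D.W} (hy : y ∈ G) (hw : D.Rp w₁ (y⁻¹ * F y))

theorem cj_Mx : (D.conj hy ⟨w₁, hw⟩).Mx = D.Wm w₁ * D.Mx := by rw [D.conj_Mx, hw.pr_eq]

theorem cj_Fw (v : D.W) : (D.conj hy ⟨w₁, hw⟩).Fw v = w₁ * D.Fw v * w₁⁻¹ := by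
  obtain ⟨m, hm, -⟩ := D.exists_rp v
  refine (D.conj hy ⟨w₁, hw⟩).rp_unique ((D.conj_rp_iff hy ⟨w₁, hw⟩).2 hm).mapF ?_
  have := (D.conj_rp_iff hy ⟨w₁, hw⟩).2 ((hw.mul hm.mapF).mul hw.inv)
  convert this using 1
  rw [map_mul, map_mul, map_inv]
  group

theorem cj_tc {u v w : D.W} : Tc (D.conj hy ⟨w₁, hw⟩) u v w ↔ Tc D u (v * w₁) (w * w₁) := by
  show w * (D.conj hy ⟨w₁, hw⟩).Fw u = u * v ↔ w * w₁ * D.Fw u = u * (v * w₁)
  rw [cj_Fw hy hw, ← mul_assoc, mul_inv_eq_iff_eq_mul, mul_assoc, mul_assoc]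

theorem cj_ord (v : D.W) : ordT (D.conj hy ⟨w₁, hw⟩) v = ordT D (v * w₁) := by
  rw [ordT, ordT, conj_Wm, cj_Mx hy hw, D.Wm_mul, mul_assoc]

theorem g_eq {a b : D.I → ℤ} (ha : D.Rt a) (hb : D.Rt b) {n : ℕ} (h : D.wt b ᵥ* D.Mx = (p : ℤ) ^ n • D.wt a) :
    D.g a = b ∧ D.ex a = n := by
  have h1 : D.ψ b = (p : ℤ) ^ n • a := D.wt_injective (by rw [D.wt_ψ, h, map_zsmul])
  have hp : (1 : ℤ) < p := by exact_mod_cast (Fact.out : p.Prime).one_lt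
  have h2 := D.eq_g_of_ψ ha hb (pow_pos (zero_lt_one.trans hp) n) h1
  rw [h2, D.ψ_g ha] at h1
  exact ⟨h2.symm, pow_right_injective₀ (zero_lt_one.trans hp) hp.ne' (smul_left_injective ℤ ha.ne_zero h1)⟩

end Conj

section Three

variable {k : Type} [Field k] {ω : kˣ} (hω : IsPrimitiveRoot ω 3)
include hω

theorem coch_iff {x y : Fin 4 → ℤ} : coch x ω = coch y ω ↔ Cg x y := by
  refine funext_iff.trans (forall_congr' fun i => ?_)
  rw [coch_apply, coch_apply, ← mul_inv_eq_one, ← _root_.zpow_sub, hω.zpow_eq_one_iff_dvd]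
  rfl

theorem exists_pow {a : kˣ} (h : a ^ 3 = 1) : ∃ n : Fin 3, a = ω ^ (n : ℕ) := by
  obtain ⟨n, hn, e⟩ := (IsPrimitiveRoot.coe_units_iff.2 hω).eq_pow_of_pow_eq_one (ξ := (a : k))
    (by rw [← Units.val_pow_eq_pow_val, h, Units.val_one])
  exact ⟨⟨n, hn⟩, Units.ext (by rw [← e, Units.val_pow_eq_pow_val])⟩

theorem exists_coch {c : Fin 4 → kˣ} (h : c ^ 3 = 1) :
    ∃ x y z t : Fin 3, c = coch ![(x : ℕ), (y : ℕ), (z : ℕ), (t : ℕ)] ω := by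
  choose n hn using fun i => exists_pow hω (congrFun h i)
  refine ⟨n 0, n 1, n 2, n 3, funext fun i => ?_⟩
  rw [hn, coch_apply, ← zpow_natCast]
  fin_cases i <;> rfl

end Three

theorem Cg.symm {x y : Fin 4 → ℤ} (h : Cg x y) : Cg y x := fun i => dvd_sub_comm.1 (h i)

theorem Cg.trans {x y z : Fin 4 → ℤ} (h : Cg x y) (h' : Cg y z) : Cg x z := fun i => by
  have := h i
  have := h' i
  omega

theorem cg_smul {a b : ℤ} (h : 3 ∣ a - b) {x y : Fin 4 → ℤ} : Cg (a • x) y ↔ Cg (b • x) y := by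
  have h1 : ∀ {a b : ℤ}, 3 ∣ a - b → Cg (a • x) (b • x) := fun h i => by
    rw [Pi.smul_apply, Pi.smul_apply, smul_eq_mul, smul_eq_mul, ← sub_mul]
    exact h.mul_right _
  exact ⟨fun h2 => (h1 h).symm.trans h2, fun h2 => (h1 h).trans h2⟩

theorem sbB_iff {L : List (Fin 4)} : sbB L = true ↔ Cg (mW L 1 *ᵥ lam) lam := by
  have h : app rowsF4 L [0, 0, 1, 0] = _ := app_mW L lam
  rw [sbB, beq_iff_eq, h]
  generalize mW L 1 *ᵥ lam = x
  simp only [Cg, lam, List.ofFn_succ, List.ofFn_zero, List.map_cons, List.map_nil, List.cons.injEq, and_true,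
    Fin.forall_fin_succ, cons_val_zero, cons_val_succ, IsEmpty.forall_iff]
  omega

variable {k : Type} [Field k] [CharP k 2] [IsAlgClosed k] {m : ℕ} (X : XF hpF4 2 k ((2 : ℤ) ^ m • GamF)) (w : X.D.W)

/-- the frame of type `w` -/
noncomputable def DD : Datum 2 (chevF4.group k).subtype X.F ⊤ := X.D.conj (yw_mem X.D w) ⟨w, yw_rp X.D w⟩

/-- its torus -/
noncomputable def tD : (Fin 4 → kˣ) →* ↥(chevF4.group k) := (DD X w).τ

theorem tD_inj : Function.Injective (tD X w) := (DD X w).τ_inj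

theorem tD_mem (c : Fin 4 → kˣ) : tD X w c ∈ (DD X w).T := (DD X w).τ_mem c

theorem exists_tD {t : ↥(chevF4.group k)} (h : t ∈ (DD X w).T) : ∃ c, tD X w c = t := ((DD X w).mem_T t).1 h

theorem rt_iff (a : Fin 4 → ℤ) : (DD X w).Rt a ↔ ∃ r < chevF4.nroots, RGDChev.vec chevF4 4 r = a := X.rt_iff a

theorem χ_tD (a : Fin 4 → ℤ) (c : Fin 4 → kˣ) : (DD X w).χ a (tD X w c) = (chr a c : kˣ) := (DD X w).χ_τ a c

theorem DD_Mx : (DD X w).Mx = wm X w * (2 : ℤ) ^ m • GamF := cj_Mx (yw_mem X.D w) (yw_rp X.D w)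

theorem conj_tD {v : X.D.W} {n : ↥(chevF4.group k)} (h : (DD X w).Rp v n) (x : Fin 4 → ℤ) (a : kˣ) :
    n * tD X w (coch x a) * n⁻¹ = tD X w (coch (wm X v *ᵥ x) a) :=
  ((DD X w).conj_τ h _).trans (congrArg (tD X w) ((congrArg (fun A : Matrix (Fin 4) (Fin 4) ℤ => mon A (coch x a))
    (conj_Wm (D := X.D) (yw_mem X.D w) ⟨w, yw_rp X.D w⟩ v)).trans (mon_coch _ _ _)))

theorem F_tD (x : Fin 4 → ℤ) (a : kˣ) : X.F (tD X w (coch x a)) = tD X w (coch ((wm X w * (2 : ℤ) ^ m • GamF) *ᵥ x) a) :=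
  ((DD X w).F_τ _).trans (congrArg (tD X w) ((congrArg (fun A : Matrix (Fin 4) (Fin 4) ℤ => mon A (coch x a))
    (DD_Mx X w)).trans (mon_coch _ _ _)))

theorem act_eq {v : X.D.W} {a b : Fin 4 → ℤ} (h : b ᵥ* wm X v = a) : (DD X w).act v a = b := by
  have h0 : ∀ x : Fin 4 → ℤ, x ᵥ* wm X v = a → x = b := fun x h1 => by
    have h2 := congrArg (· ᵥ* wm X v⁻¹) (h1.trans h.symm)
    simpa only [vecMul_vecMul, ← wm_mul, mul_inv_cancel, wm_one, vecMul_one] using h2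
  exact h0 _ (X.act_vecMul v a)

theorem DD_g {a b : Fin 4 → ℤ} (ha : (DD X w).Rt a) (hb : (DD X w).Rt b) {n : ℕ} (h : b ᵥ* (wm X w * (2 : ℤ) ^ m • GamF) = (2 : ℤ) ^ n • a) :
    (DD X w).g a = b ∧ (DD X w).ex a = n :=
  g_eq ha hb ((congrArg (fun A : Matrix (Fin 4) (Fin 4) ℤ => b ᵥ* A) (DD_Mx X w)).trans h)

theorem DD_tc {u v v' : X.D.W} : Tc (DD X w) u v v' ↔ Tc X.D u (v * w) (v' * w) :=
  cj_tc (yw_mem X.D w) (yw_rp X.D w)

theorem DD_ord (v : X.D.W) : ordT (DD X w) v = ordT X.D (v * w) := cj_ord (yw_mem X.D w) (yw_rp X.D w) v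

theorem DD_pair (T V : Subgroup ↥(chevF4.group k)) : Asm.Pair (DD X w) T V ↔ Asm.Pair X.D T V :=
  X.D.pair_conj (yw_mem X.D w) ⟨w, yw_rp X.D w⟩

theorem rf_sr (i : Fin 4) : (DD X w).rf (sr i) = el X [i] :=
  ((DD X w).rf_sr i).trans (CoxeterMatrix.F₄.toCoxeterSystem.wordProd_singleton i).symm

theorem rf_act (v : X.D.W) (i : Fin 4) : (DD X w).rf ((DD X w).act v (sr i)) = v * el X [i] * v⁻¹ :=
  ((DD X w).rf_act v i).trans (congrArg (v * · * v⁻¹) (CoxeterMatrix.F₄.toCoxeterSystem.wordProd_singleton i).symm)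

variable {ω : kˣ} (hω : IsPrimitiveRoot ω 3)
include hω

theorem tD_iff {x y : Fin 4 → ℤ} : tD X w (coch x ω) = tD X w (coch y ω) ↔ Cg x y :=
  (tD_inj X w).eq_iff.trans (coch_iff hω)

theorem χ_lam (a : Fin 4 → ℤ) : (DD X w).χ a (tD X w (coch lam ω)) = 1 ↔ 3 ∣ a 2 := by
  rw [χ_tD, chr_coch, Units.val_eq_one, hω.zpow_eq_one_iff_dvd]
  simp [lam, Fin.sum_univ_four]

theorem sb_iff {L : List (Fin 4)} : Sb (DD X w) (tD X w (coch lam ω)) (el X L) ↔ sbB L = true := by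
  obtain ⟨n, hn, -⟩ := (DD X w).exists_rp (el X L)
  rw [sbB_iff, ← wm_el X, ← tD_iff X w hω]
  exact ⟨fun h => (conj_tD X w hn _ _).symm.trans (h n hn), fun h m hm => (conj_tD X w hm _ _).trans h⟩

end Cfsg.Agent.KZ.TF.Ta
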