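import Cfsg.Agent.DL.Uni.Cent
import Cfsg.Agent.Characters.Linear

/-!
# KZ, `²F₄`, box `Tb`: class functions induced from a coset `z U` (helper4)

* `xi H U z ξ` : the class function with `⟨f, xi ξ⟩ = |U|⁻¹ ∑ f (z u) conj (ξ u)` (`ip_xi`);
* `sum_tori` : weighted sums over the tori by representatives of the classes;
* `ip_R_xi`, `ip_pr_xi` : scalar products with the Deligne-Lusztig characters, the norm of the uniform projection;
* `Zw`, `zw_ip` : the values `⟨χ, xi ξ⟩` lie in `ℤ[ω]` for `z` of order three.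
-/

set_option autoImplicit false

namespace Cfsg.Agent.KZ.TF.TbA

open Cfsg Cfsg.Agent.DL.Uni Cfsg.Agent.Nodes.Reps Cfsg.Agent.Characters.Core
open scoped ComplexConjugate

universe u

variable {Γ : Type u} [Group Γ] {p : ℕ} {H U C : Subgroup Γ} {A : Set (Subgroup Γ)}
  {R RC : Subgroup Γ → (Γ → ℂ) →ₗ[ℂ] (Γ → ℂ)} {z : Γ} {ξ ξ' f : Γ → ℂ}

theorem sum_sub [Fintype H] [Fintype U] (hU : U ≤ H) (F : Γ → ℂ) (hF : ∀ g ∈ H, g ∉ U → F g = 0) :
    ∑ u : U, F u = ∑ y : H, F y :=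
  Fintype.sum_of_injective (Subgroup.inclusion hU) (Subgroup.inclusion_injective hU) _ _
    (fun y hy => hF y y.2 fun h => hy ⟨⟨y, h⟩, rfl⟩) fun _ => rfl

theorem finite_of_le [Finite H] (hU : U ≤ H) : Finite U :=
  Finite.of_injective (Subgroup.inclusion hU) (Subgroup.inclusion_injective hU)

/-- the class function which is induced from the coset `z U` -/
noncomputable def xi (H U : Subgroup Γ) (z : Γ) (ξ : Γ → ℂ) : Γ → ℂ := fun g =>
  (Nat.card U : ℂ)⁻¹ * ∑ᶠ x : H, (U : Set Γ).indicator ξ (z⁻¹ * ((x : Γ)⁻¹ * g * x))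

theorem xi_apply [Fintype H] (g : Γ) :
    xi H U z ξ g = (Nat.card U : ℂ)⁻¹ * ∑ x : H, (U : Set Γ).indicator ξ (z⁻¹ * ((x : Γ)⁻¹ * g * x)) := by
  rw [xi, finsum_eq_sum_of_fintype]

theorem xi_cls [Finite H] : IsCls H (xi H U z ξ) := by
  have := Fintype.ofFinite H
  intro g _ h hh
  rw [xi_apply, xi_apply, ← Equiv.sum_comp (Equiv.mulLeft (⟨h, hh⟩ : H))]
  congr 1
  refine Finset.sum_congr rfl fun x _ => ?_
  congr 2
  show (h * x)⁻¹ * (h * g * h⁻¹) * (h * x) = _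
  group

theorem xi_add [Finite H] : xi H U z (ξ + ξ') = xi H U z ξ + xi H U z ξ' := by
  have := Fintype.ofFinite H
  funext g
  rw [Pi.add_apply, xi_apply, xi_apply, xi_apply, ← mul_add, ← Finset.sum_add_distrib, Set.indicator_add']
  rfl

theorem xi_smul [Finite H] (c : ℂ) : xi H U z (c • ξ) = c • xi H U z ξ := by
  have := Fintype.ofFinite H
  funext g
  rw [Pi.smul_apply, xi_apply, xi_apply, smul_eq_mul, mul_left_comm, Finset.mul_sum _ _ c]
  congr 1
  exact Finset.sum_congr rfl fun x _ => Set.indicator_const_smul_apply _ c ξ _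

/-- **Frobenius reciprocity** -/
theorem ip_xi [Finite H] (hz : z ∈ H) (hU : U ≤ H) (hf : IsCls H f) :
    ip H f (xi H U z ξ) = ip U (fun u => f (z * u)) ξ := by
  have := Fintype.ofFinite H
  have := finite_of_le hU
  have := Fintype.ofFinite U
  have key : ∀ x : H, ∑ g : H, f g * conj ((U : Set Γ).indicator ξ (z⁻¹ * ((x : Γ)⁻¹ * g * x))) =
      ∑ u : U, f (z * u) * conj (ξ u) := by
    intro x
    rw [← Equiv.sum_comp ((Equiv.mulLeft (x * ⟨z, hz⟩)).trans (Equiv.mulRight x⁻¹)),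
      ← Finset.sum_congr rfl fun (u : U) _ => congrArg (fun t => f (z * u) * conj t)
        (Set.indicator_of_mem (s := (U : Set Γ)) u.2 ξ),
      sum_sub hU (fun g => f (z * g) * conj ((U : Set Γ).indicator ξ g)) fun g _ hg => by
        rw [Set.indicator_of_notMem hg, map_zero, mul_zero]]
    refine Finset.sum_congr rfl fun y _ => ?_
    show f (x * z * y * (x : Γ)⁻¹) * conj ((U : Set Γ).indicator ξ (z⁻¹ * ((x : Γ)⁻¹ * (x * z * y * (x : Γ)⁻¹) * x))) = _
    rw [mul_assoc (x : Γ) z, hf _ (H.mul_mem hz y.2) x x.2,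
      show z⁻¹ * ((x : Γ)⁻¹ * (x * (z * y) * (x : Γ)⁻¹) * x) = y by group]
  rw [ip_eq_sum, ip_eq_sum]
  simp only [xi_apply, map_mul, map_sum, map_inv₀, map_natCast, mul_left_comm _ (Nat.card U : ℂ)⁻¹]
  rw [← Finset.mul_sum]
  rw [Finset.sum_congr rfl fun (g : H) _ => Finset.mul_sum _ _ (f g), Finset.sum_comm, Finset.sum_congr rfl fun x _ => key x, Finset.sum_const, Finset.card_univ,
    nsmul_eq_mul, ← Nat.card_eq_fintype_card, mul_left_comm, inv_mul_cancel_left₀ (card_ne_zero H)]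

/-! ### sums over the tori -/

theorem ip_usum_const (S : Sys p C A R) {K : Subgroup Γ} [Finite K] (c : Subgroup Γ → ℂ) (ξ : Γ → ℂ) :
    ip K (usum C A R fun T _ => c T) ξ = ∑ T ∈ S.tori, (wt C T : ℂ) * (c T * ip K (R T 1) ξ) := by
  rw [S.usum_eq, ip_sum_left]
  refine Finset.sum_congr rfl fun T _ => ?_
  rw [ip_smul_left, show (fun _ : Γ => c T) = c T • (1 : Γ → ℂ) from funext fun _ => (mul_one _).symm, map_smul,
    ip_smul_left]

theorem sum_tori (S : Sys p C A R) {ι : Type} [Fintype ι] (T : ι → Subgroup Γ) (hT : ∀ i, T i ∈ A)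
    (hall : ∀ T' ∈ A, ∃ i, ∃ c ∈ C, T' = cj c (T i)) (hne : ∀ i j, ∀ c ∈ C, cj c (T i) = T j → i = j) (n : ι → ℕ)
    (hn : ∀ i, Nat.card {c : C // cj (c : Γ) (T i) = T i} = n i * Nat.card ↥(T i ⊓ C)) (g : Subgroup Γ → ℂ)
    (hg : ∀ i, ∀ c ∈ C, g (cj c (T i)) = g (T i)) : ∑ T' ∈ S.tori, (wt C T' : ℂ) * g T' = ∑ i, g (T i) / n i := by
  classical
  have := S.finH
  have := Fintype.ofFinite C
  have hN : ∀ i, (Nat.card {c : C // cj (c : Γ) (T i) = T i} : ℂ) ≠ 0 := fun i => by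
    have : Nonempty {c : C // cj (c : Γ) (T i) = T i} := ⟨⟨1, cj_one _⟩⟩
    exact_mod_cast Nat.card_pos.ne'
  have key : ∀ T' ∈ S.tori, ∑ i, (Nat.card {c : C // cj (c : Γ) (T i) = T i} : ℂ)⁻¹ *
      ∑ c : C, (if cj (c : Γ) (T i) = T' then 1 else 0) = 1 := by
    intro T' hT'
    obtain ⟨i, c0, hc0, rfl⟩ := hall T' (S.mem_tori.1 hT')
    rw [Finset.sum_eq_single i]
    · rw [← Equiv.sum_comp (Equiv.mulLeft (⟨c0, hc0⟩ : C)), inv_mul_eq_one₀ (hN i), Nat.card_eq_fintype_card,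
        Fintype.card_subtype, Finset.card_filter, Nat.cast_sum]
      refine Finset.sum_congr rfl fun c _ => ?_
      show _ = if cj (c0 * c) (T i) = cj c0 (T i) then (1 : ℂ) else 0
      by_cases h : cj (c : Γ) (T i) = T i
      · rw [if_pos h, if_pos (by rw [cj_mul, h]), Nat.cast_one]
      · rw [if_neg h, if_neg fun e => h (by rw [← cj_inv_cj c0 (cj (c : Γ) (T i)), ← cj_mul c0, e, cj_inv_cj]),
          Nat.cast_zero]
    · intro j _ hj
      rw [Finset.sum_eq_zero fun (c : C) _ => if_neg fun (e : cj (c : Γ) (T j) = cj c0 (T i)) => hj (hne j i (c0⁻¹ * c) (C.mul_mem (C.inv_mem hc0) c.2) (by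
        rw [cj_mul, e, cj_inv_cj])), mul_zero]
    · intro h
      exact absurd (Finset.mem_univ _) h
  rw [Finset.sum_congr rfl fun T' hT' => by rw [← mul_one (_ * g T'), ← key T' hT', Finset.mul_sum], Finset.sum_comm]
  refine Finset.sum_congr rfl fun i _ => ?_
  rw [Finset.sum_congr rfl fun T' _ => by
    rw [mul_left_comm, Finset.mul_sum, Finset.sum_congr rfl fun c _ => by rw [mul_ite, mul_one, mul_zero]]]
  rw [← Finset.mul_sum, Finset.sum_comm, Finset.sum_congr rfl fun (c : C) _ => by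
    rw [Finset.sum_ite_eq, if_pos (S.mem_tori.2 (S.conjA c c.2 _ (hT i))), wt_cj c.2, hg i c c.2],
    Finset.sum_const, Finset.card_univ, nsmul_eq_mul, ← Nat.card_eq_fintype_card, wt_coe]
  have h1 := hN i
  rw [hn i, Nat.cast_mul] at h1 ⊢
  have h2 := left_ne_zero_of_mul h1
  have h3 := S.cardT_ne (T i)
  have h4 := S.cardH_ne
  field_simp

/-! ### the character formula -/

section
variable (S : Sys p H A R) (Z : Cent p H A R z C RC) (hz : z ∈ H) (hU : U ≤ C) (hu : ∀ u ∈ U, IsUni p u)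
include S Z hz hU hu

open Classical in
theorem ip_R_xi [Fintype H] {T : Subgroup Γ} (hT : T ∈ A) : ip H (R T 1) (xi H U z ξ) =
    (Nat.card C : ℂ)⁻¹ * ∑ x : H, if z ∈ cj (x : Γ) T then ip U (RC (cj (x : Γ) T) 1) ξ else 0 := by
  have := finite_of_le (hU.trans Z.le)
  rw [ip_xi hz (hU.trans Z.le) (S.isCls_R hT 1), ip_congr (f' := (Nat.card C : ℂ)⁻¹ •
    ∑ x : H, if z ∈ cj (x : Γ) T then RC (cj (x : Γ) T) 1 else 0) (g' := ξ) (fun u h => ?_) (fun _ _ => rfl), ip_smul_left,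
    ip_sum_left]
  · congr 1
    refine Finset.sum_congr rfl fun x _ => ?_
    split_ifs
    · rfl
    · exact ip_zero_left _
  · rw [Z.formula_sum hT 1 (hU h) (hu u h), Pi.smul_apply, Finset.sum_apply, smul_eq_mul]
    congr 1
    refine Finset.sum_congr rfl fun x _ => ?_
    split_ifs
    · exact one_mul _
    · rfl

variable (hfull : ∀ g ∈ H, g * z = z * g → g ∈ C)
include hfull

omit hz hU hu in
theorem R_dl {T : Subgroup Γ} (hT : T ∈ A) (hzT : z ∈ T) {u : Γ} (h1 : u ∈ C) (h2 : IsUni p u) :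
    R T (dl z) (z * u) = RC T 1 u := by
  classical
  have := S.finH
  have := Z.sys.finH
  have := Fintype.ofFinite H
  have := Fintype.ofFinite C
  rw [Z.formula_sum hT _ h1 h2, ← sum_sub Z.le (fun x => if z ∈ cj x T then dl z (x⁻¹ * z * x) * RC (cj x T) 1 u else 0)
    fun x hx hxC => ?_, Finset.sum_congr rfl (g := fun _ => RC T 1 u) fun x _ => ?_, Finset.sum_const, Finset.card_univ,
    nsmul_eq_mul, ← Nat.card_eq_fintype_card, inv_mul_cancel_left₀ Z.sys.cardH_ne]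
  · have h3 : (x : Γ)⁻¹ * z * x = z := by rw [mul_assoc, ← Z.cent x x.2, inv_mul_cancel_left]
    rw [if_pos (mem_cj.2 (by rwa [h3])), h3, dl_self, one_mul]
    exact Z.sys.R_conj ⟨hT, hzT⟩ x.2 1 u h1
  · rw [dl_ne fun e => hxC (hfull x hx (by
      conv_lhs => rw [← e]
      group)), zero_mul, ite_self]

/-- the norm of the uniform projection -/
theorem ip_pr_xi : ip H (pr H A R (xi H U z ξ)) (pr H A R (xi H U z ξ)) = ∑ T ∈ Z.sys.tori, (wt C T : ℂ) *
    (Nat.card ↥(T ⊓ H) * conj (ip U (RC T 1) ξ) * ip U (RC T 1) ξ) := by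
  have := S.finH
  have := finite_of_le (hU.trans Z.le)
  rw [S.ip_unif_pr (isUnif_pr _), ip_xi hz (hU.trans Z.le) (S.unif_cls (isUnif_pr _)),
    ip_congr (fun u h => Z.pr_mul S hz _ (hU h) (hu u h)) (fun _ _ => rfl), ip_usum_const Z.sys]
  refine Finset.sum_congr rfl fun T hT => ?_
  have hT' := Z.sys.mem_tori.1 hT
  rw [rst, ← ip_conj, ip_xi hz (hU.trans Z.le) (S.isCls_R hT'.1 _),
    ip_congr (fun u h => R_dl S Z hfull hT'.1 hT'.2 (hU h) (hu u h)) fun _ _ => rfl]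

omit S hz in
/-- the values on the coset -/
theorem xi_mul [Fact p.Prime] [Finite H] [Fintype C] (hs : IsSs p z) {u : Γ} (h : u ∈ U) :
    xi H U z ξ (z * u) = (Nat.card U : ℂ)⁻¹ * ∑ c : C, (U : Set Γ).indicator ξ ((c : Γ)⁻¹ * u * c) := by
  have := Fintype.ofFinite H
  rw [xi_apply, ← sum_sub Z.le (fun x => (U : Set Γ).indicator ξ (z⁻¹ * (x⁻¹ * (z * u) * x))) fun x hx hxC => ?_]
  · congr 1
    refine Finset.sum_congr rfl fun c _ => ?_
    congr 1
    rw [show z⁻¹ * ((c : Γ)⁻¹ * (z * u) * c) = ((c : Γ) * z)⁻¹ * z * u * c by group, Z.cent c c.2]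
    group
  · refine Set.indicator_of_notMem (fun h1 => hxC (hfull x hx ?_)) _
    have h2 : IsJ p (x⁻¹ * (z * u) * x⁻¹⁻¹) (x⁻¹ * z * x⁻¹⁻¹) (x⁻¹ * u * x⁻¹⁻¹) :=
      (IsJ.mk hs (hu u h) (Z.cent u (hU h)).symm rfl).conj x⁻¹
    have h3 : IsJ p (x⁻¹ * (z * u) * x⁻¹⁻¹) z (z⁻¹ * (x⁻¹ * (z * u) * x)) :=
      ⟨hs, hu _ h1, (Z.cent _ (hU h1)).symm, by group⟩
    have h4 := (h2.unique h3).1
    rw [inv_inv] at h4
    conv_lhs => rw [← h4]
    group

end

/-! ### integrality -/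

theorem gen_mono (hU : U ≤ H) (hf : IsGeneralizedCharacter H (res H f)) : IsGeneralizedCharacter U (res U f) := by
  obtain ⟨a, b, ha, hb, e⟩ := hf
  exact ⟨_, _, isCharacter_comp (Subgroup.inclusion hU) ha, isCharacter_comp (Subgroup.inclusion hU) hb,
    funext fun u => congrFun e (Subgroup.inclusion hU u)⟩

theorem gen_lin (h : IsLin U ξ) : IsGeneralizedCharacter U (res U ξ) :=
  gen_of_irr (Characters.Linear.isIrrCharacter_hom h.hom)

/-- the elements of `ℤ[ω]` -/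
def Zw (ω d : ℂ) : Prop := ∃ x y : ℤ, d = x + y * ω

theorem Zw.add {ω d e : ℂ} (hd : Zw ω d) (he : Zw ω e) : Zw ω (d + e) := by
  obtain ⟨x, y, rfl⟩ := hd
  obtain ⟨x', y', rfl⟩ := he
  exact ⟨x + x', y + y', by push_cast; ring⟩

theorem zw_mul {ω c : ℂ} (hω : ω ^ 2 + ω + 1 = 0) (hc : c ^ 3 = 1) (n : ℤ) : Zw ω (n * c) := by
  have h1 : (c - 1) * ((c - ω) * (c - ω ^ 2)) = 0 := by linear_combination hc + (c - c ^ 2 + (c - 1) * (ω - 1)) * hω
  rcases mul_eq_zero.1 h1 with h2 | h2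
  · exact ⟨n, 0, by rw [sub_eq_zero.1 h2]; simp⟩
  rcases mul_eq_zero.1 h2 with h2 | h2
  · exact ⟨0, n, by rw [sub_eq_zero.1 h2]; simp⟩
  · exact ⟨-n, -n, by rw [sub_eq_zero.1 h2]; push_cast; linear_combination n * hω⟩

theorem zw_ip [Finite H] {ω : ℂ} (hω : ω ^ 2 + ω + 1 = 0) (hz : z ∈ H) (hz3 : z ^ 3 = 1) (hU : U ≤ H)
    (hc : ∀ u ∈ U, u * z = z * u) (hf : IsCharacter H (res H f)) (hξ : IsLin U ξ) :
    Zw ω (ip U (fun u => f (z * u)) ξ) := by
  classical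
  let Z := Subgroup.zpowers z
  have hZ : Z ≤ H := Subgroup.zpowers_le.2 hz
  have := finite_of_le hU
  have := finite_of_le hZ
  have := finite_hom Z
  have := Fintype.ofFinite U
  have := Fintype.ofFinite Z
  have := Fintype.ofFinite (Z →* ℂˣ)
  have hcomm : ∀ a ∈ Z, ∀ b ∈ Z, a * b = b * a := by
    rintro _ ⟨i, rfl⟩ _ ⟨j, rfl⟩
    exact (Commute.refl z).zpow_zpow i j
  have h1 := fourier hcomm (fun t => ip U (fun u => f (t * u)) ξ) z (Subgroup.mem_zpowers z)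
  rw [h1, Finset.sum_apply]
  refine Finset.sum_induction _ (Zw ω) (fun _ _ => Zw.add) ⟨0, 0, by simp⟩ fun θ _ => ?_
  let φ : Z × U →* H := (Subgroup.inclusion hZ).noncommCoprod (Subgroup.inclusion hU) (by
    rintro ⟨_, i, rfl⟩ u
    exact Subtype.ext (Commute.zpow_left (hc u u.2).symm i))
  let μ : Z × U →* ℂˣ := θ.coprod hξ.hom
  obtain ⟨n, hn⟩ := classInner_isNat (isCharacter_comp φ hf)
    (isIrr_isCharacter (Characters.Linear.isIrrCharacter_hom μ))
  have h2 : ip Z (fun t => ip U (fun u => f (t * u)) ξ) (lin θ) = (n : ℤ) := by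
    rw [Int.cast_natCast, ← hn, classInner_def, ip_eq_sum, Nat.card_prod, Nat.cast_mul, mul_inv, mul_assoc,
      Fintype.sum_prod_type, Finset.mul_sum _ _ (Nat.card U : ℂ)⁻¹]
    congr 1
    refine Finset.sum_congr rfl fun t _ => ?_
    rw [ip_eq_sum, mul_assoc, Finset.sum_mul, lin_coe]
    congr 1
    refine Finset.sum_congr rfl fun u _ => ?_
    show _ = f (t * u) * conj ((θ t : ℂ) * ξ u)
    rw [map_mul]
    ring
  rw [Pi.smul_apply, h2, smul_eq_mul]
  refine zw_mul hω ?_ _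
  rw [lin_apply θ (Subgroup.mem_zpowers z), ← Units.val_pow_eq_pow_val, ← map_pow,
    show (⟨z, Subgroup.mem_zpowers z⟩ : Z) ^ 3 = 1 from Subtype.ext hz3, map_one, Units.val_one]

end Cfsg.Agent.KZ.TF.TbA
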