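import Cfsg.Agent.KZ.TF.TbA
import Cfsg.Agent.KZ.TF.Iface
import Cfsg.Agent.KZ.Lie.ApiA

/-!
# KZ, `²F₄`, box `Tb`: the Gelfand-Graev characters of the centraliser (helper4)

* `xc L ψ x` : the linear characters of `U`; `ip_xc` : the scalar products of the induced class functions;
* `e_eq` : the multiplicities in the Green functions are signs;
* `d_tor`, `d_conj` : the symmetries of the multiplicities.
-/

set_option autoImplicit false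

namespace Cfsg.Agent.KZ.TF.TbB

open Cfsg Cfsg.Agent.DL.Uni Cfsg.Agent.Nodes.Reps Cfsg.Agent.Characters.Core Cfsg.Agent.KZ.TF.TbA
open scoped ComplexConjugate

attribute [local instance] L3.fld L3.fin

theorem arith {Q e0 e1 e2 ε0 ε1 ε2 : ℤ} (hQ : 8 ≤ Q) (s0 : ε0 = 1 ∨ ε0 = -1) (s1 : ε1 = 1 ∨ ε1 = -1)
    (s2 : ε2 = 1 ∨ ε2 = -1) (h1 : e0 + 3 * e1 + 2 * e2 = 0) (h2 : ε0 * e0 + 3 * (ε1 * e1) + 2 * (ε2 * e2) = 6)
    (h3 : ε0 + 3 * ε1 + 2 * ε2 = 0)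
    (h4 : (Q + 1) ^ 2 * e0 ^ 2 + 3 * ((Q ^ 2 - 1) * e1 ^ 2) + 2 * ((Q ^ 2 - Q + 1) * e2 ^ 2) ≤ 6 * (Q ^ 2 + 2)) :
    e0 = ε0 ∧ e1 = ε1 ∧ e2 = ε2 := by
  have key : ∀ n : ℤ, 2 * Q * n + n ^ 2 * (Q ^ 2 + Q + 1) ≤ 2 → n = 0 := by
    intro n hn
    by_contra h0
    have h5 : 1 ≤ |n| := Int.one_le_abs h0
    have h6 : -|n| ≤ n := neg_abs_le n
    have h7 : n ^ 2 = |n| ^ 2 := (sq_abs n).symm
    rw [h7] at hn
    generalize |n| = k at h5 h6 hn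
    have h8 : k * (Q ^ 2 + Q + 1) ≤ k ^ 2 * (Q ^ 2 + Q + 1) := mul_le_mul_of_nonneg_right (by nlinarith) (by positivity)
    have h9 : 2 * Q * -k ≤ 2 * Q * n := mul_le_mul_of_nonneg_left h6 (by omega)
    have h10 : 1 * (Q ^ 2 - Q + 1) ≤ k * (Q ^ 2 - Q + 1) := mul_le_mul_of_nonneg_right h5 (by nlinarith)
    nlinarith
  rcases s0 with rfl | rfl <;> rcases s1 with rfl | rfl <;> rcases s2 with rfl | rfl <;> try omega
  · obtain rfl : e1 = -1 := by omega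
    obtain rfl : e0 = 1 + 2 * (1 - e2) := by omega
    have := key (1 - e2) (by nlinarith)
    omega
  · obtain rfl : e1 = 1 := by omega
    obtain rfl : e0 = -1 - 2 * (1 + e2) := by omega
    have := key (1 + e2) (by nlinarith)
    omega

variable {Γ : Type} [Group Γ] {H : Subgroup Γ} {A : Set (Subgroup Γ)} {R : Subgroup Γ → (Γ → ℂ) →ₗ[ℂ] (Γ → ℂ)} {Q : ℕ}
  {T₀ : Subgroup Γ} (L : L3 H A R Q T₀) {n : ℕ}

theorem finC : Finite L.C := L.cent.sys.finH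

theorem finU : Finite L.U :=
  have := finC L
  finite_of_le L.U_le

theorem uni (hQ : Q = 2 ^ n) : ∀ u ∈ L.U, IsUni 2 u := fun u hu => by
  have h1 := L.U.orderOf_dvd_natCard hu
  rw [L.U_card, hQ, ← pow_mul] at h1
  obtain ⟨j, -, h2⟩ := (Nat.dvd_prime_pow Nat.prime_two).1 h1
  exact ⟨j, h2⟩

theorem zss : IsSs 2 L.z := by
  rw [IsSs, L.z_ord]
  decide

theorem inf_eq (i : Fin 3) : L.T i ⊓ L.C = L.T i ⊓ H := L.cent.inf_eq (L.T_mem i).1 (L.T_mem i).2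

theorem card_inj (h8 : 8 ≤ Q) {i j : Fin 3} (h : Nat.card ↥(L.T i ⊓ H) = Nat.card ↥(L.T j ⊓ H)) : i = j := by
  rw [L.T_card, L.T_card] at h
  have h1 : Q ^ 2 = Q * Q := sq Q
  have h2 : 8 * Q ≤ Q * Q := Nat.mul_le_mul_right Q h8
  have h3 : (Q + 1) ^ 2 = Q ^ 2 + 2 * Q + 1 := by ring
  fin_cases i <;> fin_cases j <;> simp at h ⊢ <;> omega

theorem sumT (h8 : 8 ≤ Q) (g : Subgroup Γ → ℂ) (hg : ∀ T ∈ A, L.z ∈ T → ∀ c ∈ L.C, g (cj c T) = g T) :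
    ∑ T ∈ L.cent.sys.tori, (wt L.C T : ℂ) * g T = g (L.T 0) / 6 + g (L.T 1) / 2 + g (L.T 2) / 3 := by
  rw [sum_tori L.cent.sys L.T L.T_mem (fun T hT => L.T_all T hT.1 hT.2) (fun i j c hc e => card_inj L h8 (by
    rw [← e, card_cj_inf (L.cent.le hc)])) ![6, 2, 3] (fun i => by rw [L.T_norm, inf_eq]) g
    fun i => hg _ (L.T_mem i).1 (L.T_mem i).2, Fin.sum_univ_three]
  simp

theorem card_cast (h8 : 8 ≤ Q) : (Nat.card ↥(L.T 0 ⊓ H) : ℂ) = ((Q : ℂ) + 1) ^ 2 ∧ (Nat.card ↥(L.T 1 ⊓ H) : ℂ) = (Q : ℂ) ^ 2 - 1 ∧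
    (Nat.card ↥(L.T 2 ⊓ H) : ℂ) = (Q : ℂ) ^ 2 - Q + 1 := by
  have h1 : Q ≤ Q ^ 2 := Nat.le_self_pow two_ne_zero Q
  refine ⟨?_, ?_, ?_⟩
  · rw [L.T_card]
    simp
  · rw [L.T_card]
    show ((Q ^ 2 - 1 : ℕ) : ℂ) = _
    rw [Nat.cast_sub (by omega), Nat.cast_pow, Nat.cast_one]
  · rw [L.T_card]
    show ((Q ^ 2 - Q + 1 : ℕ) : ℂ) = _
    rw [Nat.cast_add, Nat.cast_sub h1, Nat.cast_pow, Nat.cast_one]

theorem pc_eq (hQ : Q = 2 ^ n) (h8 : 8 ≤ Q) : pc 2 L.C = Q ^ 3 := by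
  have hn : n ≠ 0 := by
    rintro rfl
    omega
  have h1 : Even Q := hQ ▸ (Nat.even_pow.2 ⟨even_two, hn⟩)
  have h2 : Odd ((Q ^ 3 + 1) * (Q ^ 2 - 1)) := Odd.mul (Nat.even_pow.2 ⟨h1, by decide⟩).add_one
    (Nat.Even.sub_odd (Nat.one_le_pow _ _ (by omega)) (Nat.even_pow.2 ⟨h1, by decide⟩) odd_one)
  rw [pc, L.card, Nat.factorization_mul (by positivity) h2.pos.ne', Finsupp.add_apply,
    Nat.factorization_eq_zero_of_not_dvd h2.not_two_dvd_nat, add_zero, hQ, ← pow_mul, Nat.prime_two.factorization_pow,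
    Finsupp.single_eq_same]

theorem e_cj (ξ : Γ → ℂ) : ∀ T ∈ A, L.z ∈ T → ∀ c ∈ L.C, ip L.U (L.RC (cj c T) 1) ξ = ip L.U (L.RC T 1) ξ :=
  fun _ hT hz _ hc => ip_congr (fun u hu => L.cent.sys.R_conj ⟨hT, hz⟩ hc 1 u (L.U_le hu)) fun _ _ => rfl

theorem eps_cj : ∀ T ∈ A, L.z ∈ T → ∀ c ∈ L.C, eps L.C L.RC L.St (cj c T) = eps L.C L.RC L.St T :=
  fun _ hT hz _ hc => L.cent.sys.eps_cj ⟨hT, hz⟩ hc

/-- **the multiplicities in the Green functions** -/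
theorem e_eq (S : Sys 2 H A R) (hQ : Q = 2 ^ n) (h8 : 8 ≤ Q) {ξ : Γ → ℂ} (hξ : IsLin L.U ξ) (h1 : ¬ ∀ u ∈ L.U, ξ u = 1)
    (hn : ip H (xi H L.U L.z ξ) (xi H L.U L.z ξ) = (Q : ℂ) ^ 2 + 2) :
    ∀ T ∈ A, L.z ∈ T → ip L.U (L.RC T 1) ξ = eps L.C L.RC L.St T := by
  have := finC L
  have := finU L
  have : Fact (Nat.Prime 2) := ⟨Nat.prime_two⟩
  have SC := L.cent.sys
  choose e he using fun i => ip_gen_int (gen_mono L.U_le (SC.gen _ (L.T_mem i) 1 isLin_one)) (gen_lin hξ)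
  have hε : ∀ i, ∃ k : ℤ, (k = 1 ∨ k = -1) ∧ eps L.C L.RC L.St (L.T i) = k := fun i => by
    rcases L.st.eps_sign SC (L.T_mem i) with h | h
    · exact ⟨1, Or.inl rfl, by rw [h, Int.cast_one]⟩
    · exact ⟨-1, Or.inr rfl, by rw [h, Int.cast_neg, Int.cast_one]⟩
  choose ε hs hε using hε
  have a1 : ip L.U 1 ξ = e 0 / 6 + e 1 / 2 + e 2 / 3 := by
    rw [ip_congr (fun u hu => SC.unif_eq_usum SC.unif_one (φ := fun _ _ => 1) (fun T hT => SC.rst_one hT) u (L.U_le hu))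
      fun _ _ => rfl, ip_usum_const SC fun _ => 1, sumT L h8 (fun T => 1 * ip L.U (L.RC T 1) ξ) fun T hT hz c hc => by
        rw [e_cj L ξ T hT hz c hc], he, he, he, one_mul, one_mul, one_mul]
  rw [isLin_one.ip_ne hξ h1] at a1
  have a2 : ip L.U L.St ξ = ε 0 * e 0 / 6 + ε 1 * e 1 / 2 + ε 2 * e 2 / 3 := by
    rw [ip_congr (fun u hu => L.st.st_eq_usum SC u (L.U_le hu)) fun _ _ => rfl, ip_usum_const SC,
      sumT L h8 (fun T => eps L.C L.RC L.St T * ip L.U (L.RC T 1) ξ) fun T hT hz c hc => by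
        rw [e_cj L ξ T hT hz c hc, eps_cj L T hT hz c hc], he, he, he, hε, hε, hε]
  rw [ip_congr (f' := L.St 1 • dl 1) (g' := ξ) (fun u hu => by
    by_cases h : u = 1
    · rw [h, Pi.smul_apply, dl_self, smul_eq_mul, mul_one]
    · rw [Pi.smul_apply, dl_ne h, smul_zero]
      exact L.st.eq_zero SC (L.U_le hu) fun h2 => h (eq_one_of_ss_uni h2 (uni L hQ u hu))) (fun _ _ => rfl), ip_smul_left,
    ip_dl_left _ L.U.one_mem, hξ.one, map_one, mul_one, L.st.deg', pc_eq L hQ h8, ← L.U_card,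
    mul_inv_cancel₀ (card_ne_zero _)] at a2
  have a3 : ip L.C L.St 1 = ε 0 / 6 + ε 1 / 2 + ε 2 / 3 := by
    rw [ip_congr (L.st.st_eq_usum SC) fun _ _ => rfl, ip_usum_const SC, Finset.sum_congr rfl fun T hT => by
      have := SC.finT T
      rw [SC.triv T (SC.mem_tori.1 hT), ip_one_one, mul_one], sumT L h8 _ (eps_cj L), hε, hε, hε]
  have a4 : ip L.C L.St 1 = 0 := by
    have := Fintype.ofFinite L.C
    rw [ip_eq_classInner]
    refine classInner_irr_ne L.st.irr isIrr_one fun h => ?_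
    have h2 : L.St 1 = 1 := congrFun h 1
    rw [L.st.deg', pc_eq L hQ h8] at h2
    have h3 : Q ^ 3 = 1 := by exact_mod_cast h2
    have := (Nat.pow_eq_one.1 h3).resolve_right (by decide)
    omega
  rw [a4] at a3
  have a5 := S.bessel (xi H L.U L.z ξ)
  obtain ⟨c0, c1, c2⟩ := card_cast L h8
  rw [hn, ip_pr_xi S L.cent L.z_mem L.U_le (uni L hQ) L.full,
    sumT L h8 (fun T => Nat.card ↥(T ⊓ H) * conj (ip L.U (L.RC T 1) ξ) * ip L.U (L.RC T 1) ξ) fun T hT hz c hc => by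
      rw [e_cj L ξ T hT hz c hc, card_cj_inf (L.cent.le hc)], he, he, he, c0, c1, c2, map_intCast, map_intCast,
    map_intCast] at a5
  have a6 : ((Q : ℝ) + 1) ^ 2 * e 0 * e 0 / 6 + ((Q : ℝ) ^ 2 - 1) * e 1 * e 1 / 2 + ((Q : ℝ) ^ 2 - Q + 1) * e 2 * e 2 / 3 ≤
      (Q : ℝ) ^ 2 + 2 := by
    rw [← Complex.ofReal_re (_ + _ / 3), ← Complex.ofReal_re (_ + 2)]
    push_cast
    exact a5
  obtain ⟨b0, b1, b2⟩ := arith (Q := Q) (e0 := e 0) (e1 := e 1) (e2 := e 2) (by exact_mod_cast h8) (hs 0) (hs 1) (hs 2)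
    (Int.cast_injective (α := ℂ) (by push_cast; linear_combination -6 * a1))
    (Int.cast_injective (α := ℂ) (by push_cast; linear_combination -6 * a2))
    (Int.cast_injective (α := ℂ) (by push_cast; linear_combination -6 * a3))
    (Int.cast_le (R := ℝ).1 (by push_cast; linarith))
  intro T hT hz
  obtain ⟨i, c, hc, rfl⟩ := L.T_all T hT hz
  rw [e_cj L ξ _ (L.T_mem i).1 (L.T_mem i).2 c hc, eps_cj L _ (L.T_mem i).1 (L.T_mem i).2 c hc, he, hε]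
  fin_cases i
  · exact congrArg _ b0
  · exact congrArg _ b1
  · exact congrArg _ b2

/-! ### the linear characters of `U` -/

open Classical in
/-- the character `u ↦ ψ (x π u)` -/
noncomputable def xc (ψ : AddChar L.K ℂ) (x : L.K) : Γ → ℂ := fun g =>
  if h : g ∈ L.U then ψ (x * (L.π ⟨g, h⟩).toAdd) else 0

variable {ψ : AddChar L.K ℂ} {x y : L.K}

theorem xc_coe (u : L.U) : xc L ψ x u = ψ (x * (L.π u).toAdd) := dif_pos u.2

theorem xc_mem {u : Γ} (hu : u ∈ L.U) : xc L ψ x u = ψ (x * (L.π ⟨u, hu⟩).toAdd) := dif_pos hu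

theorem xc_lin : IsLin L.U (xc L ψ x) where
  one := by
    rw [← L.U.coe_one, xc_coe, map_one, toAdd_one, mul_zero, AddChar.map_zero_eq_one]
  mul a ha b hb := by
    have h1 := xc_coe L (ψ := ψ) (x := x) (⟨a, ha⟩ * ⟨b, hb⟩)
    rw [map_mul L.π, toAdd_mul, mul_add, AddChar.map_add_eq_mul, ← xc_coe, ← xc_coe] at h1
    exact h1

theorem xc_inj (hψ : ψ ≠ 1) (h : ∀ u ∈ L.U, xc L ψ y u = xc L ψ x u) : x = y := by
  refine AddChar.to_mulShift_inj_of_isPrimitive (AddChar.IsPrimitive.of_ne_one hψ) (AddChar.ext _ _ fun t => ?_)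
  obtain ⟨u, hu⟩ := L.π_surj (Multiplicative.ofAdd t)
  have h1 := h u u.2
  rw [xc_coe, xc_coe, hu, toAdd_ofAdd] at h1
  exact h1.symm

theorem xc_ne (hψ : ψ ≠ 1) (hx : x ≠ 0) : ¬ ∀ u ∈ L.U, xc L ψ x u = 1 := fun h => hx (xc_inj L hψ fun u hu => by
  rw [h u hu, xc_mem L hu, zero_mul, AddChar.map_zero_eq_one])

theorem xc_tor (t : ↥(L.T 1 ⊓ H)) {u : Γ} (hu : u ∈ L.U) :
    t * u * (t : Γ)⁻¹ ∈ L.U ∧ xc L ψ x (t * u * (t : Γ)⁻¹) = xc L ψ (x * L.a t) u := by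
  obtain ⟨u', h1, h2⟩ := L.a_conj t ⟨u, hu⟩
  rw [← h1, xc_coe, h2, ← mul_assoc, ← xc_coe]
  exact ⟨u'.2, rfl⟩

theorem cj_eq {g : Γ} (h : ∀ u ∈ L.U, g * u * g⁻¹ ∈ L.U) : cj g L.U = L.U := by
  have := finU L
  refine Subgroup.eq_of_le_of_card_ge ?_ (card_cj g _).ge
  rintro _ ⟨u, hu, rfl⟩
  exact h u hu

open Classical in
/-- **the scalar products** -/
theorem ip_xc (S : Sys 2 H A R) (hQ : Q = 2 ^ n) (h8 : 8 ≤ Q) (hψ : ψ ≠ 1) :
    ip H (xi H L.U L.z (xc L ψ x)) (xi H L.U L.z (xc L ψ y)) =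
      (Q : ℂ) ^ 2 - 1 + Nat.card {t : ↥(L.T 1 ⊓ H) // x * L.a t⁻¹ = y} := by
  have := S.finH
  have := finC L
  have := finU L
  have := S.finT (L.T 1)
  have := Fintype.ofFinite L.C
  have := Fintype.ofFinite L.U
  have := Fintype.ofFinite ↥(L.T 1 ⊓ H)
  have : Fact (Nat.Prime 2) := ⟨Nat.prime_two⟩
  have hTC : L.T 1 ⊓ H ≤ L.C := L.cent.tor _ (L.T_mem 1).1 (L.T_mem 1).2
  let G : Γ → ℂ := fun c => ip L.U (fun u => (L.U : Set Γ).indicator (xc L ψ x) (c⁻¹ * u * c)) (xc L ψ y) -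
    (Nat.card L.U : ℂ)⁻¹
  let e : L.U × ↥(L.T 1 ⊓ H) → L.C := fun q => ⟨q.1 * q.2, L.C.mul_mem (L.U_le q.1.2) (hTC q.2.2)⟩
  have he : Function.Injective e := by
    rintro ⟨u, t⟩ ⟨u', t'⟩ h
    have h1 : (u : Γ) * t = u' * t' := congrArg Subtype.val h
    have h2 : ((u'⁻¹ * u : L.U) : Γ) = (t' * t⁻¹ : ↥(L.T 1 ⊓ H)) := by
      show (u' : Γ)⁻¹ * u = t' * (t : Γ)⁻¹
      rw [inv_mul_eq_iff_eq_mul, ← mul_assoc, ← h1, mul_inv_cancel_right]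
    have h3 : ((u'⁻¹ * u : L.U) : Γ) = 1 := eq_one_of_ss_uni (p := 2)
      (h2 ▸ S.ss _ (L.T_mem 1).1 _ (t' * t⁻¹).2) (uni L hQ _ (u'⁻¹ * u).2)
    rw [h3] at h2
    exact Prod.ext (inv_mul_eq_one.1 (Subtype.ext h3)).symm (mul_inv_eq_one.1 (Subtype.ext h2.symm)).symm
  have h1 : ∑ q : L.U × ↥(L.T 1 ⊓ H), ((if x * L.a q.2⁻¹ = y then 1 else 0) - (Nat.card L.U : ℂ)⁻¹) = ∑ c : L.C, G c := by
    refine Fintype.sum_of_injective e he _ _ (fun c hc => ?_) fun q => ?_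
    · rcases L.bruhat c c.2 with ⟨u, hu, t, ht, h⟩ | h
      · exact absurd ⟨(⟨u, hu⟩, ⟨t, ht⟩), Subtype.ext h.symm⟩ hc
      · show _ - _ = 0
        rw [ip_congr (f' := dl 1) (g' := xc L ψ y) (fun u hu => ?_) (fun _ _ => rfl), ip_dl_left _ L.U.one_mem,
          (xc_lin L).one, map_one, mul_one, sub_self]
        by_cases h2 : u = 1
        · rw [h2, mul_one, inv_mul_cancel, Set.indicator_of_mem (s := (L.U : Set Γ)) L.U.one_mem, (xc_lin L).one, dl_self]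
        · rw [dl_ne h2]
          exact Set.indicator_of_notMem (fun h3 => h2 ((Subgroup.eq_bot_iff_forall _).1 h u ⟨hu, mem_cj.2 h3⟩)) _
    · obtain ⟨u0, t⟩ := q
      show _ = _ - _
      congr 1
      rw [ip_congr (f' := xc L ψ (x * L.a t⁻¹)) (g' := xc L ψ y) (fun u hu => ?_) fun _ _ => rfl]
      · split_ifs with h
        · exact ((xc_lin L).ip_self fun _ _ => by rw [h]).symm
        · exact ((xc_lin L).ip_ne (xc_lin L) fun h2 => h (xc_inj L hψ h2)).symm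
      · have h2 : (u0 : Γ)⁻¹ * u * u0 ∈ L.U := L.U.mul_mem (L.U.mul_mem (L.U.inv_mem u0.2) hu) u0.2
        obtain ⟨h3, h4⟩ := xc_tor L (ψ := ψ) (x := x) t⁻¹ h2
        show (L.U : Set Γ).indicator (xc L ψ x) (((u0 : Γ) * t)⁻¹ * u * (u0 * t)) = _
        rw [show ((u0 : Γ) * t)⁻¹ * u * (u0 * t) = ((t⁻¹ : ↥(L.T 1 ⊓ H)) : Γ) * ((u0 : Γ)⁻¹ * u * u0) *
          ((t⁻¹ : ↥(L.T 1 ⊓ H)) : Γ)⁻¹ by rw [Subgroup.coe_inv]; group, Set.indicator_of_mem (s := (L.U : Set Γ)) h3, h4,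
          (xc_lin L).mul _ (L.U.mul_mem (L.U.inv_mem u0.2) hu) _ u0.2, (xc_lin L).mul _ (L.U.inv_mem u0.2) _ hu,
          mul_right_comm, mul_comm _ (xc L ψ _ u0), (xc_lin L).mul_inv u0.2, one_mul]
  have h3 : ∑ q : L.U × ↥(L.T 1 ⊓ H), (if x * L.a q.2⁻¹ = y then (1 : ℂ) else 0) =
      Nat.card L.U * Nat.card {t : ↥(L.T 1 ⊓ H) // x * L.a t⁻¹ = y} := by
    rw [Fintype.sum_prod_type, Nat.card_eq_fintype_card (α := {t : ↥(L.T 1 ⊓ H) // _}), Fintype.card_subtype,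
      Finset.card_filter, Nat.cast_sum, Nat.card_eq_fintype_card, ← nsmul_eq_mul, ← Finset.card_univ, ← Finset.sum_const]
    refine Finset.sum_congr rfl fun u _ => Finset.sum_congr rfl fun t _ => ?_
    rw [Nat.cast_ite, Nat.cast_one, Nat.cast_zero]
  rw [ip_xi L.z_mem (L.U_le.trans L.cent.le) xi_cls, ip_congr (f' := (Nat.card L.U : ℂ)⁻¹ •
    ∑ c : L.C, fun u => (L.U : Set Γ).indicator (xc L ψ x) ((c : Γ)⁻¹ * u * c)) (g' := xc L ψ y) (fun u hu => by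
      rw [xi_mul L.cent L.U_le (uni L hQ) L.full (zss L) hu, Pi.smul_apply, Finset.sum_apply, smul_eq_mul])
      (fun _ _ => rfl), ip_smul_left, ip_sum_left,
    Finset.sum_congr rfl (g := fun c : L.C => G c + (Nat.card L.U : ℂ)⁻¹) fun c _ => (sub_add_cancel _ _).symm,
    Finset.sum_add_distrib, ← h1, Finset.sum_sub_distrib, h3]
  simp only [Finset.sum_const, Finset.card_univ, nsmul_eq_mul, ← Nat.card_eq_fintype_card, Nat.card_prod, Nat.cast_mul]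
  rw [(card_cast L h8).2.1, L.card, L.U_card, Nat.cast_mul, Nat.cast_mul, Nat.cast_sub (Nat.one_le_pow _ _ (by omega))]
  have h2 : (Q : ℂ) ≠ 0 := Nat.cast_ne_zero.2 (by omega)
  push_cast
  field_simp
  ring

variable {f : Γ → ℂ}

theorem d_tor (hf : IsCls H f) (t : ↥(L.T 1 ⊓ H)) :
    ip L.U (fun u => f (L.z * u)) (xc L ψ (x * L.a t)) = ip L.U (fun u => f (L.z * u)) (xc L ψ x) := by
  have h1 := ip_cj (K := L.U) (t : Γ) (fun u => f (L.z * u)) (xc L ψ x)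
  rw [cj_eq L fun u hu => (xc_tor L (ψ := ψ) (x := x) t hu).1] at h1
  rw [h1]
  refine ip_congr (fun u hu => ?_) fun u hu => (xc_tor L t hu).2.symm
  rw [← hf _ (H.mul_mem L.z_mem (L.cent.le (L.U_le hu))) t t.2.2, ← mul_assoc,
    L.cent.cent _ (L.cent.tor _ (L.T_mem 1).1 (L.T_mem 1).2 t.2)]
  congr 1
  group

theorem d_conj [Finite H] (hf : IsCharacter H (res H f)) {μ : L.K} (hμ : ∀ t, ψ (t ^ Q) = ψ (μ * t)) :
    conj (ip L.U (fun u => f (L.z * u)) (xc L ψ x)) =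
      ip L.U (fun u => f (L.z * u)) (xc L ψ (μ * (x * L.κ) ^ Q)) := by
  have := finU L
  have := Fintype.ofFinite L.U
  have hUH : L.U ≤ H := L.U_le.trans L.cent.le
  have hc : IsCls H f := isCls_of_gen (gen_of_char hf)
  have h1 : conj (ip L.U (fun u => f (L.z * u)) (xc L ψ x)) = ip L.U (fun u => f (L.z⁻¹ * u)) (xc L ψ x) := by
    rw [ip_conj, ip_eq_sum, ip_eq_sum, ← Equiv.sum_comp (Equiv.inv L.U)]
    congr 1
    refine Finset.sum_congr rfl fun u _ => ?_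
    have h2 := isCharacter_apply_inv hf ⟨_, H.mul_mem L.z_mem (H.inv_mem (hUH u.2))⟩
    have h3 : f (L.z * (u : Γ)⁻¹)⁻¹ = conj (f (L.z * (u : Γ)⁻¹)) := h2
    show xc L ψ x (u : Γ)⁻¹ * conj (f (L.z * (u : Γ)⁻¹)) = _
    rw [← h3, (xc_lin L).conj_apply u.2, mul_comm, mul_inv_rev, inv_inv,
      ((show Commute (u : Γ) L.z from L.cent.cent _ (L.U_le u.2)).inv_right).eq]
  have h2 := ip_cj (K := L.U) L.τ (fun u => f (L.z⁻¹ * u)) (xc L ψ x)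
  rw [cj_eq L fun u hu => by
    obtain ⟨u', h, -⟩ := L.τ_conj ⟨u, hu⟩
    exact h ▸ u'.2] at h2
  rw [h1, h2]
  refine ip_congr (fun u hu => ?_) fun u hu => ?_
  · rw [← hc _ (H.mul_mem L.z_mem (hUH hu)) _ L.τ_mem, ← L.τ_z]
    congr 1
    group
  · obtain ⟨u', h3, h4⟩ := L.τ_conj ⟨u, hu⟩
    rw [← h3, xc_coe, h4, xc_mem L hu, mul_assoc μ, ← hμ, mul_pow, ← pow_mul, ← sq,
      ← L.K_card, FiniteField.pow_card, mul_assoc]

end Cfsg.Agent.KZ.TF.TbB
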