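import Cfsg.Agent.KZ.TF.MixI
import Cfsg.Agent.KZ.McX.TF4
import Cfsg.Agent.KZ.G2.Mat

/-!
# KZ, `²F₄`: words, types and labels (helper29)

* `wm X u` : the matrix of an element; `card_W`, `sum_W`, `el_eq_iff`, `tc_B` : finite checks over the Weyl group;
* `cpI`, `cwL` : the characteristic polynomials and the centralisers of the eleven classes;
* `xs`, `sl` : the labels of order three; `cls_count` : counting of classes.
-/

set_option autoImplicit false
set_option linter.unusedSectionVars false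

namespace Cfsg.Agent.KZ.TF

open Cfsg Cfsg.Lie Cfsg.Agent.DL Cfsg.Agent.DL.PP Cfsg.Agent.DL.Uni Cfsg.Agent.Nodes.Reps Cfsg.Agent.KZ.Lie
  Cfsg.Agent.KZ.DatX Cfsg.Agent.KZ.McX Matrix
open Cfsg.Agent.ChevalleyStructure Cfsg.Agent.ChevalleyStructure.CoxeterGeomTypes Cfsg.Agent.Nodes Cfsg.Agent.Nodes.RGDChev

/-! ### data -/

/-- the characteristic polynomials of the eleven classes -/
def cpI : Fin 11 → ℤ × ℤ × ℤ × ℤ :=
  ![(0, -4, 0, 4), (0, 0, 0, -4), (-2, 0, 4, -4), (2, 0, -4, -4), (0, 4, 0, 4), (-4, 8, -8, 4), (4, 8, 8, 4), (0, 0, 0, 4),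
    (0, -2, 0, 4), (-2, 2, -4, 4), (2, 2, 4, 4)]

/-- the exponent vectors of the labels of order three, `e` is the residue of `r` -/
def xs (e : ℤ) : Fin 3 → Fin 4 → ℤ := if e = 1 then ![![1, 0, 0, 2], ![0, 1, 0, 1], ![1, 0, 2, 2]] else fun _ => ![1, 0, 0, 1]

/-- the word with the given code -/
def dec : ℕ → ℕ → List (Fin 4)
  | 0, _ => []
  | f + 1, n => if n ≤ 1 then [] else Fin.ofNat 4 n :: dec f (n / 4)

theorem dec_realised : True := by have := @dec.eq_def; trivial

/-- the codes of the elements of the centralisers -/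
def cwN : Fin 11 → List ℕ :=
  ![[1, 358, 19, 5731, 4582, 1466854, 73324, 23469676, 18586393, 6008052505, 297371364, 96128829156, 75671648646, 22644919482758,
    1207850952219, 301685910464027],
    [1, 19, 22644919482758, 301685910464027],
    [1, 22, 25, 358, 1207850952219, 18855871571483, 19346571585051, 301685910464027],
    [1, 22, 25, 358, 1207850952219, 18855871571483, 19346571585051, 301685910464027],
    [1, 18, 5275, 75291, 84366, 1153134, 5753, 72121, 70372, 104676, 70374, 104678, 92056, 1153944, 17982363, 23468955, 17976940, 23469676,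
    7777, 77409, 1358257, 19282353, 96646, 1210758, 21620422, 308405958, 345564699, 4723238427, 18586393, 26975001, 5528590446, 73653786734,
    18771044, 27159652, 374235577, 4723728825, 4604921572, 6853068516, 4604921574, 6853068518, 5987769240, 75579661208, 395865697,
    4959268449, 5609994630, 78624438662, 22645106468379, 301685910464027],
    [1, 22, 25, 358, 283, 5275, 4707, 91675, 4510, 70254, 75294, 1349742, 4537, 84409, 75321, 1466809, 484, 5860, 6628, 91876, 72166,
    1124070, 1204710, 21595878, 5016, 84888, 103320, 1467288, 1151899, 17982363, 18450331, 287710107, 1125996, 1207916, 21597804, 26766956,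
    7777, 93793, 106081, 1470049, 1128881, 1210801, 21576113, 26769841, 80262, 1358214, 1653126, 23476614, 18015942, 19326662, 345564870,
    428271302, 18474523, 287761947, 308405787, 5528544795, 18062105, 19372825, 345217817, 428317465, 294885486, 4603484270, 4723284078,
    73653786734, 1993828, 24013924, 27159652, 376335460, 295592377, 4604191161, 4934492601, 88456716729, 20547300, 347703012, 423200484,
    6010013412, 4718167782, 73655748326, 75572545254, 1178460587750, 300293016, 5534784408, 4914027416, 96131750808, 328756833, 5563248225,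
    6771207777, 96160214625, 4804688262, 88556550534, 78624438662, 1538108012934, 1207850952219, 18855871571483, 19346571585051,
    301685910464027],
    [1, 22, 25, 358, 283, 5275, 4707, 91675, 4510, 70254, 75294, 1349742, 4537, 84409, 75321, 1466809, 484, 5860, 6628, 91876, 72166,
    1124070, 1204710, 21595878, 5016, 84888, 103320, 1467288, 1151899, 17982363, 18450331, 287710107, 1125996, 1207916, 21597804, 26766956,
    7777, 93793, 106081, 1470049, 1128881, 1210801, 21576113, 26769841, 80262, 1358214, 1653126, 23476614, 18015942, 19326662, 345564870,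
    428271302, 18474523, 287761947, 308405787, 5528544795, 18062105, 19372825, 345217817, 428317465, 294885486, 4603484270, 4723284078,
    73653786734, 1993828, 24013924, 27159652, 376335460, 295592377, 4604191161, 4934492601, 88456716729, 20547300, 347703012, 423200484,
    6010013412, 4718167782, 73655748326, 75572545254, 1178460587750, 300293016, 5534784408, 4914027416, 96131750808, 328756833, 5563248225,
    6771207777, 96160214625, 4804688262, 88556550534, 78624438662, 1538108012934, 1207850952219, 18855871571483, 19346571585051,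
    301685910464027],
    [1, 22, 25, 358, 1151899, 17982363, 18450331, 287710107, 1993828, 24013924, 27159652, 376335460, 1207850952219, 18855871571483,
    19346571585051, 301685910464027],
    [1, 91876, 72166, 6010013412, 4718167782, 301685910464027],
    [1, 283, 70254, 484, 17982363, 106081, 4603484270, 27159652, 1178460587750, 6771207777, 1538108012934, 301685910464027],
    [1, 403, 286, 104676, 70374, 26769841, 18015942, 6853068516, 4604921574, 1538061266529, 1178672937350, 301685910464027]]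

/-- the elements of the centralisers -/
def cwL (i : Fin 11) : List (List (Fin 4)) := (cwN i).map (dec 24)

/-- the test for twisted conjugation -/
def tcB (V L L' : List (Fin 4)) : Bool :=
  app rowsF4 (L' ++ V.map Fin.rev) [1, 1, 1, 1] == app rowsF4 (V ++ L) [1, 1, 1, 1]

/-- a primitive third root of unity -/
noncomputable def om : ℂˣ := G2.exists_omega.choose

theorem om_spec : IsPrimitiveRoot om 3 := G2.exists_omega.choose_spec

/-! ### general facts -/

section Gen

variable {p : ℕ} [Fact p.Prime] {k : Type} [Field k] [CharP k p] {Y : Type} [Group Y] {N : Type} [Fintype N]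
  [DecidableEq N] {ρ : Y →* GL N k} {F : MulAut Y} {G : Subgroup Y} [IsAlgClosed k] {D : Datum p ρ F G}

theorem tc_trans {v v' a b c : D.W} (h : Tc D v a b) (h' : Tc D v' b c) : Tc D (v' * v) a c := by
  have h1 : b * D.Fw v = v * a := h
  have h2 : c * D.Fw v' = v' * b := h'
  show c * D.Fw (v' * v) = v' * v * a
  rw [map_mul, ← mul_assoc, h2, mul_assoc, h1, mul_assoc]

theorem tr_coch2 {B : Matrix D.R D.R ℤ} {x y : D.R → ℤ} :
    Tr D B (coch x om) (coch y om) ↔ ∀ j, 3 ∣ (y ᵥ* B - x) j := by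
  rw [G2.tr_iff, DL.mon_coch, mulVec_transpose, funext_iff]
  refine forall_congr' fun j => ?_
  show om ^ x j = om ^ (y ᵥ* B) j ↔ ((3 : ℕ) : ℤ) ∣ (y ᵥ* B) j - x j
  rw [← om_spec.zpow_eq_one_iff_dvd, _root_.zpow_sub, mul_inv_eq_one, eq_comm]

theorem coch_cube (x : D.R → ℤ) : (coch x om : Lbl D) ^ 3 = 1 := by rw [← map_pow, om_spec.pow_eq_one, map_one]

theorem coch_eq_iff {x y : D.R → ℤ} : (coch x om : Lbl D) = coch y om ↔ ∀ j, 3 ∣ y j - x j := by
  have h := tr_coch2 (D := D) (B := 1) (x := x) (y := y)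
  rwa [G2.tr_iff, transpose_one, DL.mon_one, vecMul_one] at h

theorem det_tc {v : D.W} {A B : Matrix D.R D.R ℤ} (h : D.Wm v * A = B * D.Wm v) (t : ℤ) :
    (t • A - 1).det = (t • B - 1).det := by
  have h1 : D.Wm v * (t • A - 1) = (t • B - 1) * D.Wm v := by
    rw [mul_sub, sub_mul, Matrix.mul_smul, Matrix.smul_mul, h, mul_one, one_mul]
  have h2 := congrArg det h1
  rw [det_mul, det_mul, mul_comm] at h2
  refine mul_right_cancel₀ (fun e => ?_) h2
  have h3 : sgZ D v = 0 := e
  rcases sgZ_sign D v with e' | e' <;> omega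

theorem card_tc {a b v₀ : D.W} (h : Tc D v₀ a b) : Nat.card {v // Tc D v a b} = Nat.card (CW D a) :=
  Nat.card_congr ⟨fun v => ⟨v₀⁻¹ * v, tc_trans v.2 h.symm⟩, fun u => ⟨v₀ * u, tc_trans u.2 h⟩, fun _ => by simp,
    fun _ => by simp⟩

theorem sum_tc [Fintype D.W] {K : Type} [Semiring K] (a : D.W) (φ : D.W → K) (h : ∀ v u u', Tc D v u u' → φ u = φ u') :
    ∑ u, (Nat.card {v // Tc D v a u} : K) * φ u = Nat.card D.W * φ a := by
  classical
  have h1 : ∀ u, (Nat.card {v // Tc D v a u} : K) * φ u = ∑ v, if u = v * a * (D.Fw v)⁻¹ then φ a else 0 := fun u => by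
    rw [Nat.card_eq_fintype_card, Fintype.card_subtype, Finset.card_filter, Nat.cast_sum, Finset.sum_mul]
    refine Finset.sum_congr rfl fun v _ => ?_
    rw [eq_mul_inv_iff_mul_eq]
    by_cases h3 : Tc D v a u
    · rw [if_pos h3, if_pos (show u * D.Fw v = v * a from h3), h v a u h3, Nat.cast_one, one_mul]
    · rw [if_neg h3, if_neg (show ¬ u * D.Fw v = v * a from h3), Nat.cast_zero, zero_mul]
  rw [Finset.sum_congr rfl fun u _ => h1 u, Finset.sum_comm]
  simp only [Finset.sum_ite_eq', Finset.mem_univ, if_true, Finset.sum_const, Finset.card_univ, nsmul_eq_mul,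
    Nat.card_eq_fintype_card]

theorem cls_count {ι : Type} [Fintype ι] (w : ι → D.W) (n : ι → ℕ) {M : ℕ} (hne : ∀ i i' v, Tc D v (w i) (w i') → i = i')
    (h : ∀ i, n i * Nat.card (CW D (w i)) = M) (hs : ∑ i, n i = M) (u : D.W) :
    ∑ i, n i * Nat.card {v // Tc D v (w i) u} = M := by
  classical
  have := Fintype.ofFinite D.W
  refine (Finset.sum_eq_sum_iff_of_le (s := Finset.univ) (f := fun u => ∑ i, n i * Nat.card {v // Tc D v (w i) u})
    (g := fun _ => M) fun u _ => ?_).1 ?_ u (Finset.mem_univ u)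
  · by_cases h1 : ∃ i v, Tc D v (w i) u
    · obtain ⟨i, v, h1⟩ := h1
      rw [Finset.sum_eq_single i (fun j _ hj => ?_) fun e => absurd (Finset.mem_univ i) e, card_tc h1, h]
      have : IsEmpty {v // Tc D v (w j) u} := ⟨fun x => hj (hne _ _ _ (tc_trans x.2 h1.symm))⟩
      rw [Nat.card_of_isEmpty, mul_zero]
    · refine (Finset.sum_eq_zero fun j _ => ?_).trans_le (Nat.zero_le _)
      have : IsEmpty {v // Tc D v (w j) u} := ⟨fun x => h1 ⟨j, x.1, x.2⟩⟩
      rw [Nat.card_of_isEmpty, mul_zero]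
  · have h1 := fun a : D.W => sum_tc (K := ℕ) a (fun _ => 1) fun _ _ _ _ => rfl
    simp only [Nat.cast_id, mul_one] at h1
    rw [Finset.sum_comm]
    simp only [← Finset.mul_sum, h1]
    rw [← Finset.sum_mul, hs, Finset.sum_const, Finset.card_univ, smul_eq_mul, Nat.card_eq_fintype_card, mul_comm]

end Gen

/-! ### words -/

variable {m : ℕ} {k : Type} [Field k] [CharP k 2] [IsAlgClosed k] (X : XF hpF4 2 k ((2 : ℤ) ^ m • GamF))

/-- the labels of order three -/
noncomputable def sl (a : Fin 3) : Lbl X.D := coch (xs ((-1) ^ m) a) om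

/-- the matrix of an element -/
noncomputable def wm (u : X.D.W) : Matrix (Fin 4) (Fin 4) ℤ := X.D.Wm u

theorem wm_mul (u v : X.D.W) : wm X (u * v) = wm X u * wm X v := X.D.Wm_mul u v

theorem wm_one : wm X 1 = 1 := X.D.Wm_one

theorem wm_inj {u v : X.D.W} (h : wm X u = wm X v) : u = v := X.D.Wm_injective h

theorem el_nil : el X [] = 1 := CoxeterMatrix.F₄.toCoxeterSystem.wordProd_nil

theorem el_append (L L' : List (Fin 4)) : el X (L ++ L') = el X L * el X L' :=
  CoxeterMatrix.F₄.toCoxeterSystem.wordProd_append L L'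

theorem wm_el (L : List (Fin 4)) : wm X (el X L) = mW L 1 := (X.Wm_word L).trans ((mW_eq L 1).trans (mul_one _)).symm

theorem mW_mul (L : List (Fin 4)) (A : Matrix (Fin 4) (Fin 4) ℤ) : mW L 1 * A = mW L A := by rw [mW_eq, mW_eq, mul_one]

theorem exists_el (u : X.D.W) : ∃ L ∈ wordsF4, u = el X L := by
  obtain ⟨L, h, e⟩ := exists_wordF4 X u
  exact ⟨L, h, e.symm⟩

theorem app_mW (L : List (Fin 4)) (v : Fin 4 → ℤ) : app rowsF4 L (List.ofFn v) = List.ofFn (mW L 1 *ᵥ v) := by
  rw [mW_eq, mul_one, app_ofFn isRows_F4]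

theorem app_congr {L L' : List (Fin 4)} (h : el X L = el X L') (v : Fin 4 → ℤ) :
    app rowsF4 L (List.ofFn v) = app rowsF4 L' (List.ofFn v) := by
  rw [app_mW, app_mW, ← wm_el X, ← wm_el X, h]

theorem el_eq_iff {L L' : List (Fin 4)} : el X L = el X L' ↔ app rowsF4 L [1, 1, 1, 1] = app rowsF4 L' [1, 1, 1, 1] := by
  refine ⟨fun h => app_congr X h ![1, 1, 1, 1], fun h => ?_⟩
  obtain ⟨M, h1, e⟩ := exists_el X (el X L)
  obtain ⟨M', h2, e'⟩ := exists_el X (el X L')
  rw [e, e', List.inj_on_of_nodup_map nodup_F4 h1 h2 (congrArg keyL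
    ((app_congr X e ![1, 1, 1, 1]).symm.trans (h.trans (app_congr X e' ![1, 1, 1, 1]))))]

theorem nodup_el : (wordsF4.map (el X)).Nodup :=
  List.Nodup.map_on (fun _ h _ h' e => List.inj_on_of_nodup_map nodup_F4 h h' (congrArg keyL ((el_eq_iff X).1 e)))
    (List.Nodup.of_map _ nodup_F4)

theorem card_W (P : X.D.W → Prop) (q : List (Fin 4) → Bool) (h : ∀ L, P (el X L) ↔ q L = true) :
    Nat.card {v // P v} = wordsF4.countP q := by
  classical
  have h1 : ((wordsF4.filter q).map (el X)).Nodup := (nodup_el X).sublist (List.filter_sublist.map _)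
  rw [List.countP_eq_length_filter, ← List.length_map (el X), ← List.toFinset_card_of_nodup h1]
  refine Nat.subtype_card _ fun v => ?_
  rw [List.mem_toFinset, List.mem_map]
  refine ⟨fun ⟨L, h2, e⟩ => e ▸ (h L).2 (List.mem_filter.1 h2).2, fun h2 => ?_⟩
  obtain ⟨L, h3, rfl⟩ := exists_el X v
  exact ⟨L, List.mem_filter.2 ⟨h3, (h L).1 h2⟩, rfl⟩

theorem sum_W {K : Type} [AddCommMonoid K] (U : Subgroup X.D.W) (q : List (Fin 4) → Bool) (h : ∀ L, el X L ∈ U ↔ q L = true)
    (φ : X.D.W → K) : ∑ᶠ u : U, φ u = ((wordsF4.filter q).map fun L => φ (el X L)).sum := by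
  classical
  have h1 : ((wordsF4.filter q).map (el X)).Nodup := (nodup_el X).sublist (List.filter_sublist.map _)
  have h2 : (U : Set X.D.W) = ((wordsF4.filter q).map (el X)).toFinset := Set.ext fun v => by
    rw [Finset.mem_coe, List.mem_toFinset, List.mem_map]
    refine ⟨fun h2 => ?_, fun ⟨L, h2, e⟩ => e ▸ (h L).2 (List.mem_filter.1 h2).2⟩
    obtain ⟨L, h3, rfl⟩ := exists_el X v
    exact ⟨L, List.mem_filter.2 ⟨h3, (h L).1 h2⟩, rfl⟩
  rw [show ∑ᶠ u : U, φ u = ∑ᶠ u ∈ (U : Set X.D.W), φ u from finsum_set_coe_eq_finsum_mem (f := φ) _, h2,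
    finsum_mem_coe_finset, List.sum_toFinset _ h1, List.map_map]
  rfl

theorem card_XW : Nat.card X.D.W = 1152 := card_W_F4

theorem G4_sM : ∀ i, G4 * sM chevF4 4 i = sM chevF4 4 i.rev * G4 := by decide +kernel

theorem G4_mW (V : List (Fin 4)) : G4 * mW V 1 = mW (V.map Fin.rev) 1 * G4 := by
  rw [mW_eq, mW_eq, mul_one, mul_one]
  induction V with
  | nil => simp
  | cons i V ih => simp only [List.map_cons, List.prod_cons]; rw [← mul_assoc, G4_sM, mul_assoc, ih, mul_assoc]

theorem sg_el (L : List (Fin 4)) : sg X.D (el X L) = (-1) ^ L.length := by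
  induction L with
  | nil => rw [el_nil, sg_one]; rfl
  | cons i L ih =>
    have h1 : sg X.D (el X [i]) = -1 :=
      (congrArg _ (CoxeterMatrix.F₄.toCoxeterSystem.wordProd_singleton i)).trans (G2.sg_smp X.D i)
    rw [show i :: L = [i] ++ L from rfl, el_append, sg_mul, h1, ih, List.singleton_append, List.length_cons, pow_succ']

theorem rel_wm {v : X.D.W} {x y : Fin 4 → ℤ} :
    Rel X.D v (coch x om) (coch y om) ↔ ∀ j : Fin 4, 3 ∣ (y ᵥ* wm X v - x) j := tr_coch2 (D := X.D)

theorem rel_coch {V : List (Fin 4)} {x y : Fin 4 → ℤ} :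
    Rel X.D (el X V) (coch x om) (coch y om) ↔ ∀ j : Fin 4, 3 ∣ (y ᵥ* mW V 1 - x) j := by rw [rel_wm, wm_el]

theorem sl_cube (a : Fin 3) : sl X a ^ 3 = 1 := coch_cube (D := X.D) _

theorem sgn_cases (m : ℕ) : (-1 : ℤ) ^ m ∈ [1, -1] := by
  rcases neg_one_pow_eq_or ℤ m with e | e <;> simp [e]

theorem three_dvd_sgn (m : ℕ) : (3 : ℤ) ∣ 2 ^ m - (-1) ^ m := sub_dvd_pow_sub_pow (2 : ℤ) (-1) m

theorem sl_ne (a : Fin 3) : sl X a ≠ 1 := fun h => by
  have h1 : ∀ e ∈ [(1 : ℤ), -1], ∀ a, ∃ j, ¬ (3 : ℤ) ∣ xs e a j := by decide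
  obtain ⟨j, hj⟩ := h1 _ (sgn_cases m) a
  exact hj ((om_spec.zpow_eq_one_iff_dvd _).1 (congrFun h j))

/-! ### types -/

theorem wm_mx (u : X.D.W) : X.D.Wm u * X.D.Mx = (2 : ℤ) ^ m • (wm X u * G4) :=
  (Matrix.mul_smul (wm X u) _ GamF).trans (congrArg (fun A => (2 : ℤ) ^ m • (wm X u * A)) GamF_eq)

theorem el_G4 (L : List (Fin 4)) : wm X (el X L) * G4 = mW L G4 := by rw [wm_el, mW_mul]

theorem tc_wm {v u u' : X.D.W} : Tc X.D v u u' ↔ wm X v * (wm X u * G4) = wm X u' * G4 * wm X v :=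
  tc_smul (wm_mx X u) (wm_mx X u') (pow_ne_zero m two_ne_zero)

theorem Fw_el (V : List (Fin 4)) : X.D.Fw (el X V) = el X (V.map Fin.rev) := by
  have h : GamF = G4 := GamF_eq
  have h0 : ((2 : ℤ) ^ m • GamF) * wm X (el X V) = wm X (X.D.Fw (el X V)) * ((2 : ℤ) ^ m • GamF) := X.D.Mx_Wm _
  refine wm_inj X (G2.mx_cancel (D := X.D) (h0.symm.trans ?_))
  show _ = wm X (el X (V.map Fin.rev)) * ((2 : ℤ) ^ m • GamF)
  rw [wm_el, wm_el, Matrix.smul_mul, Matrix.mul_smul, h, G4_mW]

theorem tc_B {V L L' : List (Fin 4)} : Tc X.D (el X V) (el X L) (el X L') ↔ tcB V L L' = true := by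
  rw [tcB, beq_iff_eq, ← el_eq_iff X, el_append, el_append, Tc, Fw_el]

theorem fx_wm {u : X.D.W} {x : Fin 4 → ℤ} :
    Fx X.D u (coch x om) ↔ ∀ j : Fin 4, 3 ∣ (-1) ^ m * (x ᵥ* (wm X u * G4)) j - x j := by
  refine (tr_coch2 (D := X.D)).trans (forall_congr' fun j : Fin 4 => ?_)
  obtain ⟨n, hn⟩ := three_dvd_sgn m
  have h : (x ᵥ* (X.D.Wm u * X.D.Mx) : Fin 4 → ℤ) = (2 : ℤ) ^ m • (x ᵥ* (wm X u * G4)) :=
    (congrArg (fun A : Matrix (Fin 4) (Fin 4) ℤ => x ᵥ* A) (wm_mx X u)).trans (vecMul_smul _ _ _)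
  refine (iff_of_eq (congrArg (fun y : Fin 4 → ℤ => (3 : ℤ) ∣ (y - x) j) h)).trans ?_
  rw [Pi.sub_apply, Pi.smul_apply, smul_eq_mul, sub_eq_iff_eq_add.1 hn, add_mul, mul_assoc]
  omega

theorem fx_coch {L : List (Fin 4)} {x : Fin 4 → ℤ} :
    Fx X.D (el X L) (coch x om) ↔ ∀ j : Fin 4, 3 ∣ (-1) ^ m * (x ᵥ* mW L G4) j - x j := by rw [fx_wm, el_G4]

end Cfsg.Agent.KZ.TF
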