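import Cfsg.Agent.KZ.TF.W0

/-!
# KZ, `²F₄`: the eleven classes (helper29)

`cw_filter`, `mem_cw`, `card_cw`, `card_sub` : the centralisers; `cls`, `cls_of`, `sum_cls` : the classes; `ord_wT`, `pc_eq`, `deg_wT`.
-/

set_option autoImplicit false
set_option linter.unusedSectionVars false

namespace Cfsg.Agent.KZ.TF

open Cfsg Cfsg.Lie Cfsg.Agent.DL Cfsg.Agent.DL.PP Cfsg.Agent.DL.Uni Cfsg.Agent.Nodes.Reps Cfsg.Agent.KZ.Lie
  Cfsg.Agent.KZ.DatX Cfsg.Agent.KZ.McX Matrix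
open Cfsg.Agent.ChevalleyStructure Cfsg.Agent.ChevalleyStructure.CoxeterGeomTypes Cfsg.Agent.Nodes Cfsg.Agent.Nodes.RGDChev

/-! ### arithmetic -/

theorem cw_filter : ∀ i, (wordsF4.filter fun V => tcB V (wd i) (wd i)) = cwL i := by decide +kernel

theorem cw_length : ∀ i, (cwL i).length = nC i := by decide +kernel

theorem cp_wd : ∀ i, cp4 (mW (wd i) G4) = cpI i := by decide +kernel

/-- the value of a polynomial -/
def evP (c : ℤ × ℤ × ℤ × ℤ) (t : ℤ) : ℤ := 1 - c.1 * t + c.2.1 * t ^ 2 - c.2.2.1 * t ^ 3 + c.2.2.2 * t ^ 4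

theorem evP_inj : ∀ i i', evP (cpI i) 5 = evP (cpI i') 5 → i = i' := by decide +kernel

theorem evP_cpI (i : Fin 11) (t : ℤ) : evP (cpI i) t = sG i * oT t i := by
  fin_cases i <;> simp [evP, cpI, sG, oT, fac, exT, Fin.prod_univ_succ] <;> ring

theorem fac_pos {r : ℤ} (hr : 1 ≤ r) (a : Fin 7) : 0 < fac r a := by
  obtain ⟨s, rfl⟩ : ∃ s, r = s + 1 := ⟨r - 1, by ring⟩
  have hs : 0 ≤ s := by omega
  fin_cases a <;> simp only [fac, Fin.reduceFinMk, cons_val] <;> ring_nf <;> positivity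

theorem oT_pos {r : ℤ} (hr : 1 ≤ r) (i : Fin 11) : 0 < oT r i := Finset.prod_pos fun a _ => pow_pos (fac_pos hr a) _

theorem oG_pos {r : ℤ} (hr : 1 ≤ r) : 0 < oG r := Finset.prod_pos fun a _ => pow_pos (fac_pos hr a) _

theorem dG_mul (r : ℤ) (i : Fin 11) : dG r i * oT r i = sG i * oG r := by
  have h : ∀ i a, exT i a ≤ exG a := by decide
  rw [dG, oT, oG, mul_assoc, ← Finset.prod_mul_distrib]
  exact congrArg _ (Finset.prod_congr rfl fun a _ => by rw [← pow_add, Nat.sub_add_cancel (h i a)])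

theorem sum_dG (r : ℤ) : ∑ i, wC i * dG r i = 96 := by
  simp [Fin.sum_univ_succ, wC, dG, sG, fac, exG, exT, Fin.prod_univ_succ]
  ring

theorem sG_eq : ∀ i, (-1) ^ (wd i).length = sG i := by decide

/-! ### the classes -/

variable {m : ℕ} {k : Type} [Field k] [CharP k 2] [IsAlgClosed k] (X : XF hpF4 2 k ((2 : ℤ) ^ m • GamF))

theorem card_sub (i : Fin 11) (P : X.D.W → Prop) (q : List (Fin 4) → Bool) (h : ∀ L, P (el X L) ↔ q L = true) :
    Nat.card {v // Tc X.D v (wT X i) (wT X i) ∧ P v} = (cwL i).countP q := by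
  rw [← cw_filter, List.countP_filter]
  exact card_W X _ _ fun L => by rw [Bool.and_eq_true, h, and_comm, ← tc_B X]; rfl

theorem card_cw (i : Fin 11) : Nat.card (CW X.D (wT X i)) = nC i := by
  rw [← cw_length, ← cw_filter, ← List.countP_eq_length_filter]
  exact card_W X _ _ fun L => tc_B X

theorem mem_cw {i : Fin 11} {v : X.D.W} : v ∈ CW X.D (wT X i) ↔ ∃ L ∈ cwL i, v = el X L := by
  rw [← cw_filter]
  refine ⟨fun h => ?_, fun ⟨L, h, e⟩ => e ▸ (tc_B X).2 (List.mem_filter.1 h).2⟩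
  obtain ⟨L, h1, rfl⟩ := exists_el X v
  exact ⟨L, List.mem_filter.2 ⟨h1, (tc_B X).1 h⟩, rfl⟩

theorem cp_wT (i : Fin 11) : cp4 (wm X (wT X i) * G4) = cpI i := (congrArg _ (el_G4 X _)).trans (cp_wd i)

theorem evP_tc {v u u' : X.D.W} (h : Tc X.D v u u') (t : ℤ) : evP (cp4 (wm X u * G4)) t = evP (cp4 (wm X u' * G4)) t :=
  (det_cp4 _ t).symm.trans ((det_tc (D := X.D) ((tc_wm X).1 h) t).trans (det_cp4 _ t))

theorem eq_of_tc {i i' : Fin 11} {v : X.D.W} (h : Tc X.D v (wT X i) (wT X i')) : i = i' :=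
  evP_inj i i' (by rw [← cp_wT X, ← cp_wT X, evP_tc X h])

theorem count_wT (u : X.D.W) : ∑ i, 96 / nC i * Nat.card {v // Tc X.D v (wT X i) u} = 96 :=
  cls_count (wT X) (fun i => 96 / nC i) (fun _ _ _ => eq_of_tc X) (fun i => by rw [card_cw]; revert i; decide) (by decide) u

theorem cls (u : X.D.W) : ∃ i v, Tc X.D v u (wT X i) := by
  by_contra! h
  refine absurd ((count_wT X u).symm.trans (Finset.sum_eq_zero fun i _ => ?_)) (by decide)
  have : IsEmpty {v // Tc X.D v (wT X i) u} := ⟨fun x => h i _ x.2.symm⟩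
  rw [Nat.card_of_isEmpty, mul_zero]

theorem cls_eq {u v : X.D.W} {i j : Fin 11} (h : cp4 (wm X u * G4) = cpI i) (h' : Tc X.D v u (wT X j)) : j = i :=
  evP_inj j i (by rw [← h, ← cp_wT X, evP_tc X h'])

theorem cls_of {u : X.D.W} {i : Fin 11} (h : cp4 (wm X u * G4) = cpI i) : ∃ v, Tc X.D v u (wT X i) := by
  obtain ⟨j, v, h1⟩ := cls X u
  exact ⟨v, cls_eq X h h1 ▸ h1⟩

theorem sum_cls {K : Type} [Field K] [CharZero K] (φ : X.D.W → K) (h : ∀ v u u', Tc X.D v u u' → φ u = φ u') :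
    ∑ᶠ u, φ u = 12 * ∑ i, (wC i : K) * φ (wT X i) := by
  have := Fintype.ofFinite X.D.W
  have h1 : ∀ i, ((96 / nC i : ℕ) : ℤ) = wC i := by decide
  have h2 : ∀ u, ∑ i, (wC i : K) * Nat.card {v // Tc X.D v (wT X i) u} = 96 := fun u => by
    have h3 := congrArg (Nat.cast : ℕ → ℤ) (count_wT X u)
    rw [Nat.cast_sum] at h3
    simp only [Nat.cast_mul, h1] at h3
    exact_mod_cast congrArg (Int.cast : ℤ → K) h3
  refine mul_left_cancel₀ (by norm_num : (96 : K) ≠ 0) ?_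
  rw [finsum_eq_sum_of_fintype, Finset.mul_sum, Finset.sum_congr rfl fun u _ => by rw [← h2 u, Finset.sum_mul],
    Finset.sum_comm, Finset.mul_sum, Finset.mul_sum]
  refine Finset.sum_congr rfl fun i _ => ?_
  simp only [mul_assoc, ← Finset.mul_sum]
  rw [sum_tc _ φ h, card_XW]
  push_cast
  ring

theorem sg_wT (i : Fin 11) : sg X.D (wT X i) = sG i := by
  rw [wT, sg_el, ← sG_eq]
  push_cast
  rfl

theorem ord_wT (i : Fin 11) : (ordT X.D (wT X i) : ℤ) = oT (2 ^ m) i := by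
  have h : (X.D.Wm (wT X i) * X.D.Mx - 1).det = sG i * oT (2 ^ m) i := by
    rw [wm_mx, ← evP_cpI, ← cp_wT X]
    exact det_cp4 _ _
  have h1 : ∀ i, |sG i| = 1 := by decide
  rw [ordT, h, Int.natCast_natAbs, abs_mul, h1, one_mul, abs_of_pos (oT_pos (one_le_pow₀ one_le_two) i)]

variable {X} {f : Fr X.D} [Fintype ↥(GF X.F ⊤)] (hA : Api f)
include hA

theorem pc_eq : (pc' 2 (GF X.F ⊤) : ℤ) = oG (2 ^ m) := by
  have h1 := congrFun hA.one 1
  rw [avg_top, sum_cls X _ fun v u u' h => by rw [hA.conj v u u' 1 1 h (G2.rel_oo v)], card_XW] at h1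
  have h2 : ∀ i, (wC i : ℂ) * (1 * RW f (wT X i) 1 1) * oG (2 ^ m) = (wC i * dG (2 ^ m) i : ℤ) * pc' 2 (GF X.F ⊤) := fun i => by
    have h3 := hA.deg _ _ (G2.fx_one (wT X i))
    have h4 := congrArg (Int.cast : ℤ → ℂ) (dG_mul (2 ^ m) i)
    rw [sg_wT, ← Int.cast_natCast, ord_wT] at h3
    refine mul_right_cancel₀ (Int.cast_ne_zero.2 (oT_pos (one_le_pow₀ one_le_two) i).ne' : (oT (2 ^ m) i : ℂ) ≠ 0) ?_
    rw [Int.cast_mul, Int.cast_mul] at h4
    rw [Int.cast_mul]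
    linear_combination (wC i * oG (2 ^ m) : ℂ) * h3 - (wC i * pc' 2 (GF X.F ⊤) : ℂ) * h4
  have h3 := Finset.sum_congr (rfl : Finset.univ = _) fun i _ => h2 i
  rw [← Finset.sum_mul, ← Finset.sum_mul, ← Int.cast_sum, sum_dG] at h3
  have h4 : ((pc' 2 (GF X.F ⊤) : ℤ) : ℂ) = oG (2 ^ m) := by
    push_cast at h1 h3 ⊢
    linear_combination (oG (2 ^ m) : ℂ) * h1 - (96 : ℂ)⁻¹ * h3
  exact_mod_cast h4

theorem card_GF : ∃ n : ℕ, (Nat.card ↥(GF X.F ⊤) : ℤ) = 2 ^ n * oG (2 ^ m) :=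
  ⟨(Nat.card ↥(GF X.F ⊤)).factorization 2, by
    rw [← pc_eq hA]
    exact_mod_cast (Nat.ordProj_mul_ordCompl_eq_self _ 2).symm⟩

theorem deg_wT (i : Fin 11) (c : Lbl X.D) (h : Fx X.D (wT X i) c) : RW f (wT X i) c 1 = dG (2 ^ m) i := by
  have h3 := hA.deg _ _ h
  rw [sg_wT, ← Int.cast_natCast, ord_wT, ← Int.cast_natCast, pc_eq hA, ← Int.cast_mul, ← dG_mul, Int.cast_mul] at h3
  exact mul_right_cancel₀ (Int.cast_ne_zero.2 (oT_pos (one_le_pow₀ one_le_two) i).ne') h3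

end Cfsg.Agent.KZ.TF
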