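import Cfsg.Agent.KZ.TF.W1

/-!
# KZ, `²F₄`: finite checks for the five types of Levi subgroups (helper29)

`J = 0` : the simple reflections `0, 3`; `J = 1` : the simple reflections `1, 2`; `tw t`, `jt t` : the five types.
-/

set_option autoImplicit false

namespace Cfsg.Agent.KZ.TF.Wx

open Cfsg Cfsg.Agent.KZ.DatX Cfsg.Agent.KZ.McX Matrix

/-- the cocharacters -/
def lamJ : Fin 2 → Fin 4 → ℤ := ![![0, 1, 1, 0], ![1, 0, 0, 1]]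

/-- a basis of the invariant weights -/
def xa : Fin 2 → Fin 4 → ℤ := ![![1, 2, 0, 0], ![2, 1, 0, -1]]

/-- a basis of the invariant weights -/
def xb : Fin 2 → Fin 4 → ℤ := ![![0, 0, 2, 1], ![-2, 0, 1, 2]]

/-- the dual vectors -/
def ya : Fin 2 → Fin 4 → ℤ := ![![1, 0, 0, 0], ![0, 1, 0, 0]]

/-- the dual vectors -/
def yb : Fin 2 → Fin 4 → ℤ := ![![0, 0, 0, 1], ![0, 0, 1, 0]]

/-- the coroots -/
def ra : Fin 2 → Fin 4 → ℤ := ![![2, -1, 0, 0], ![-1, 2, -2, 0]]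

/-- the coroots -/
def rb : Fin 2 → Fin 4 → ℤ := ![![0, 0, -1, 2], ![0, -1, 2, -1]]

/-- the coefficients -/
def pa : Fin 2 → Fin 4 → ℤ := ![![0, -1, 0, 0], ![-1, 0, 0, 0]]

/-- the coefficients -/
def pb : Fin 2 → Fin 4 → ℤ := ![![0, 0, -1, 0], ![0, 0, 0, -1]]

/-- the parabolic subgroups -/
def wJ : Fin 2 → List (List (Fin 4)) :=
  ![[[], [0], [3], [3, 0]], [[], [1], [2], [2, 1], [1, 2], [1, 2, 1], [2, 1, 2], [2, 1, 2, 1]]]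

/-- the longest elements -/
def zJ : Fin 2 → List (Fin 4) := ![[0, 3], [1, 2, 1, 2]]

/-- the five types -/
def tw : Fin 5 → List (Fin 4) :=
  ![[], [1, 0, 2, 1, 2, 3, 2, 1, 0, 2, 1], [], [0, 1, 2, 1, 0, 3, 2, 1, 0, 2, 1, 3, 2, 1, 0], [0, 1, 2, 1, 0]]

/-- the kind of a type -/
def jt : Fin 5 → Fin 2 := ![0, 0, 1, 1, 1]

/-- the types of the second kind -/
def tq : Fin 3 → Fin 5 := ![2, 3, 4]

/-- preimages of the cocharacters -/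
def yT : Fin 5 → Fin 4 → ℤ := ![![0, 1, 2, 0], ![0, 7, -10, 0], ![1, 0, 0, 2], ![1, 0, 0, -4], ![3, 0, 0, -2]]

/-- the action on the invariant weights -/
def bT : Fin 5 → Fin 4 → ℤ := ![![0, 1, 2, 0], ![-4, -3, 6, 4], ![0, 1, 2, 0], ![-8, -5, 10, 6], ![-6, -5, 10, 8]]

/-- the representative of a class -/
def rp (J : Fin 2) (U : List (Fin 4)) : List (Fin 4) :=
  if U.length % 2 = 0 then [] else if J = 0 then [0] else if U.length = 1 then [1] else [1, 2, 1]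

/-- the test for the stabiliser of the cocharacter -/
def wlB (J : Fin 2) (L : List (Fin 4)) : Bool := app rowsF4 L (List.ofFn (lamJ J)) == List.ofFn (lamJ J)

/-- the test for equality -/
def eqB (L L' : List (Fin 4)) : Bool := app rowsF4 L [1, 1, 1, 1] == app rowsF4 L' [1, 1, 1, 1]

/-- the images of the columns of `M - 1` -/
def pr (J : Fin 2) (M : Matrix (Fin 4) (Fin 4) ℤ) (j : Fin 4) : ℤ × ℤ := ((xa J ᵥ* M - xa J) j, (xb J ᵥ* M - xb J) j)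

/-- the action on the quotient -/
def bt (t : Fin 5) (z : ℤ × ℤ) : ℤ × ℤ := (bT t 0 * z.1 + bT t 1 * z.2, bT t 2 * z.1 + bT t 3 * z.2)

/-- eight vectors -/
def l8 (t : Fin 5) (M : Matrix (Fin 4) (Fin 4) ℤ) : List (ℤ × ℤ) :=
  [pr (jt t) M 0, bt t (pr (jt t) M 0), pr (jt t) M 1, bt t (pr (jt t) M 1), pr (jt t) M 2, bt t (pr (jt t) M 2),
    pr (jt t) M 3, bt t (pr (jt t) M 3)]

/-- conjugating elements -/
def ceL : Fin 11 → List (List (Fin 4) × Fin 5 × List (Fin 4)) :=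
  ![[([], 2, []), ([], 0, []), ([2, 1, 2, 1], 0, []), ([3, 0], 2, []), ([3, 0, 2, 1, 2, 1], 2, []), ([2, 1, 2, 3, 1, 0], 0, []),
      ([2, 1, 2, 3, 1, 0, 2, 1, 2, 1], 0, []), ([0, 3, 2, 1, 2, 3, 1, 0], 2, [])],
    [([], 0, [0]), ([2, 1, 2, 3, 1, 0, 2, 1, 2, 1, 0], 1, [])],
    [([], 2, [1, 2, 1]), ([0, 3, 2, 1, 2, 3, 0, 1, 0], 3, [])],
    [([], 2, [1]), ([0, 3, 2, 1, 2, 3, 0, 1, 0], 4, [])],
    [([2, 3, 1, 0, 2, 1, 2, 0, 1], 1, [0]), ([1, 0, 2, 1, 2, 3, 2], 1, [0]), ([2, 1, 0], 1, [0]), ([2, 1, 2], 1, [0]),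
      ([1, 0, 2, 1, 2, 3, 0], 1, [0]), ([1, 2, 3, 1], 1, [3]), ([1, 2, 3, 1, 2, 0], 1, [3]), ([2, 1, 2, 3, 2, 1, 2, 0, 1], 1, [0]),
      ([2, 1, 2, 3, 0, 2, 1, 2, 1, 0], 1, [3]), ([2, 1, 2, 3, 0, 1, 2, 1], 1, [3]), ([2, 1, 2, 3, 2, 1, 0, 2, 1, 2, 0], 1, [0]),
      ([2, 1, 0, 2, 1, 2, 3, 2, 0, 1, 0], 1, [0])],
    [([], 3, [1, 2, 1]), ([3, 2, 1, 0], 3, [1, 2, 1]), ([3, 0, 2, 1, 2, 0], 3, [1, 2, 1]), ([0, 1, 2, 3], 3, [1, 2, 1]),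
      ([0, 1, 2, 3, 2, 1], 3, [1, 2, 1]), ([0, 3, 2, 1, 2, 3, 0, 1, 0], 3, [2, 1, 2])],
    [([], 4, [1]), ([3, 2, 1, 0], 4, [1]), ([3, 0, 2, 1, 2, 0], 4, [1]), ([0, 1, 2, 3], 4, [1]), ([0, 1, 2, 3, 2, 1], 4, [1]),
      ([0, 3, 2, 1, 2, 3, 0, 1, 0], 4, [2])],
    [([], 4, [1, 2, 1]), ([0, 3, 2, 1, 2, 3, 0, 1, 0], 3, [2])], [], [], []]

theorem wl_chk : ∀ J, wordsF4.filter (wlB J) = wJ J := by decide +kernel

theorem one_chk : ∀ J, (1 : Matrix (Fin 4) (Fin 4) ℤ) =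
      vecMulVec (ya J) (xa J) + vecMulVec (yb J) (xb J) + vecMulVec (ra J) (pa J) + vecMulVec (rb J) (pb J) ∧
    mW (zJ J) 1 *ᵥ ra J = -ra J ∧ mW (zJ J) 1 *ᵥ rb J = -rb J ∧
    ∀ U ∈ wJ J, xa J ᵥ* mW U 1 = xa J ∧ xb J ᵥ* mW U 1 = xb J := by decide +kernel

theorem ty_chk : ∀ t, mW (tw t) G4 *ᵥ yT t = (2 : ℤ) • lamJ (jt t) ∧ (∀ U ∈ wJ (jt t), mW U 1 *ᵥ yT t = yT t) ∧
    xa (jt t) ᵥ* mW (tw t) G4 = bT t 0 • xa (jt t) + bT t 1 • xb (jt t) ∧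
    xb (jt t) ᵥ* mW (tw t) G4 = bT t 2 • xa (jt t) + bT t 3 • xb (jt t) ∧
    (∀ U ∈ wJ (jt t), ∃ V ∈ wJ (jt t), tcB V (U ++ tw t) (rp (jt t) U ++ tw t) = true) ∧
    ∀ U ∈ [[], [0], [1], [1, 2, 1]], ∀ U' ∈ [[], [0], [1], [1, 2, 1]], U ∈ wJ (jt t) → U' ∈ wJ (jt t) →
      ((wJ (jt t)).countP fun V => tcB V (U ++ tw t) (U' ++ tw t)) =
        if U = U' then (if U = [] ∨ U = [0] then 2 else 4) else 0 := by decide +kernel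

theorem rp_chk : (wJ 0).map (rp 0) = [[], [0], [0], []] ∧
    (wJ 1).map (rp 1) = [[], [1], [1], [], [], [1, 2, 1], [1, 2, 1], []] := by decide +kernel

theorem cp_chk : (∀ t : Fin 5, cp4 (mW (tw t) G4) = cpI (![0, 1, 0, 2, 3] t)) ∧ cp4 (mW ([0] ++ tw 0) G4) = cpI 1 ∧
    cp4 (mW ([0] ++ tw 1) G4) = cpI 4 ∧ ∀ s, jt (tq s) = 1 ∧ cp4 (mW ([1, 2, 1] ++ tw (tq s)) G4) = cpI (![2, 5, 7] s) ∧
      cp4 (mW ([1] ++ tw (tq s)) G4) = cpI (![3, 7, 6] s) := by decide +kernel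

theorem wc_chk : ∀ V ∈ wordsF4, ∀ t, V ∈ wJ (jt t) ∨
    ∃ z ∈ l8 t (mW V 1), ∃ z' ∈ l8 t (mW V 1), z.1 * z'.2 - z'.1 * z.2 ∣ 192 := by decide +kernel

theorem ce_chk : ∀ i, ∀ e ∈ ceL i, e.2.2 ∈ wJ (jt e.2.1) ∧ tcB e.1 (wd i) (e.2.2 ++ tw e.2.1) = true := by decide +kernel

theorem mix_chk : ∀ i, ∀ V ∈ cwL i, V = [] ∨ evP (cp4 (mW V 1)) 1 ∣ 16 ∨ mW V (mW V 1) + mW V 1 + 1 = 0 ∨
    ∃ e ∈ ceL i, eqB (e.1 ++ V) (zJ (jt e.2.1) ++ e.1) = true ∨ eqB (e.1 ++ (V ++ V)) (zJ (jt e.2.1) ++ e.1) = true := by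
  decide +kernel

end Cfsg.Agent.KZ.TF.Wx
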